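import Mathlib

/-!
# Sets acted on by a simple group with a Heisenberg subgroup

`Heis L z q` records in a group `L` a subgroup `Q` of order `q ^ 3` with centre `R` of order `q` centralised by `z`, an
abelian `A` of order `q ^ 2`, surjective commutator maps, and `q - 1` elements separating the characters of `R`.
A non-trivial action of a simple such group has at least `q ^ 2` points, and `2 q ^ 2` if `z` fixes none.
-/

set_option autoImplicit false
set_option linter.unusedSectionVars false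
set_option linter.style.haveILetI false

namespace CfsgLib.RankTwo

universe u v w

/-- The homomorphisms into the units of a field are at most as many as the elements. -/
theorem finite_hom_units (G : Type u) [Group G] [Finite G] (M : Type v) [Field M] :
    Finite (G →* Mˣ) ∧ Nat.card (G →* Mˣ) ≤ Nat.card G := by
  haveI := Fintype.ofFinite G
  have hinj : Function.Injective (fun f : G →* Mˣ => (Units.coeHom M).comp f) :=
    fun f g h => MonoidHom.ext fun x => Units.ext (DFunLike.congr_fun h x)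
  have hli : LinearIndependent M (fun f : G →* Mˣ => (fun x => (f x : M) : G → M)) :=
    (linearIndependent_monoidHom G M).comp _ hinj
  haveI : Finite (G →* Mˣ) := hli.finite
  haveI := Fintype.ofFinite (G →* Mˣ)
  refine ⟨inferInstance, ?_⟩
  have h := hli.fintype_card_le_finrank
  rwa [Module.finrank_fintype_fun_eq_card, ← Nat.card_eq_fintype_card, ← Nat.card_eq_fintype_card] at h

/-- The homomorphisms trivial on a normal subgroup are at most as many as its index. -/
theorem card_hom_trivial_le {G : Type u} [Group G] [Finite G] (M : Type v) [Field M] (N : Subgroup G) [N.Normal] :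
    Nat.card {f : G →* Mˣ // ∀ n ∈ N, f n = 1} ≤ N.index := by
  haveI := (finite_hom_units (G ⧸ N) M).1
  refine le_trans ?_ (finite_hom_units (G ⧸ N) M).2
  refine Nat.card_le_card_of_injective
    (fun f => QuotientGroup.lift N f.1 fun n hn => MonoidHom.mem_ker.2 (f.2 n hn)) fun f g h => Subtype.ext ?_
  exact MonoidHom.ext fun x => DFunLike.congr_fun h (x : G ⧸ N)

/-- A Heisenberg subgroup with a separating set of normalising elements. -/
structure Heis (L : Type u) [Group L] (z : L) (q : ℕ) where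
  /-- The Heisenberg subgroup. -/
  Q : Subgroup L
  /-- Its centre. -/
  R : Subgroup L
  /-- A maximal abelian subgroup. -/
  A : Subgroup L
  RA : R ≤ A
  AQ : A ≤ Q
  cardR : Nat.card R = q
  cardA : Nat.card A = q ^ 2
  cardQ : Nat.card Q = q ^ 3
  central : ∀ r ∈ R, ∀ g ∈ Q, r * g = g * r
  acomm : ∀ a ∈ A, ∀ b ∈ A, a * b = b * a
  comm : ∀ g ∈ Q, ∀ h ∈ Q, g * h * g⁻¹ * h⁻¹ ∈ R
  surjQ : ∀ g ∈ Q, g ∉ R → ∀ r ∈ R, ∃ h ∈ Q, g * h * g⁻¹ * h⁻¹ = r
  surjA : ∀ g ∈ Q, g ∉ A → ∀ r ∈ R, ∃ a ∈ A, g * a * g⁻¹ * a⁻¹ = r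
  zQ : ∀ g ∈ Q, z * g * z⁻¹ ∈ Q
  zR : ∀ r ∈ R, z * r * z⁻¹ = r
  /-- The separating elements. -/
  T : Finset L
  cardT : q ≤ T.card + 1
  TQ : ∀ t ∈ T, ∀ g, g ∈ Q ↔ t * g * t⁻¹ ∈ Q
  TR : ∀ t ∈ T, ∀ r, r ∈ R ↔ t * r * t⁻¹ ∈ R
  Tfree : ∀ t ∈ T, ∀ t' ∈ T, t ≠ t' → ∀ r ∈ R, r ≠ 1 → t * r * t⁻¹ ≠ t' * r * t'⁻¹

namespace Heis

variable {L : Type u} [Group L] {z : L} {q : ℕ} (H : Heis L z q)

theorem RQ : H.R ≤ H.Q := H.RA.trans H.AQ

/-- Conjugation by a separating element, on the centre. -/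
def conjR {t : L} (ht : t ∈ H.T) : H.R →* H.R where
  toFun r := ⟨t * r * t⁻¹, (H.TR t ht r).1 r.2⟩
  map_one' := Subtype.ext (by simp)
  map_mul' a b := Subtype.ext (by simp [mul_assoc])

theorem conjR_apply {t : L} (ht : t ∈ H.T) (r : H.R) : ((H.conjR ht r : H.R) : L) = t * r * t⁻¹ := rfl

/-- The separating elements are transitive on the non-trivial characters of the centre. -/
theorem exists_conj [Finite L] {M : Type v} [Field M] {c c' : H.R →* Mˣ} (hc : c ≠ 1) (hc' : c' ≠ 1) :
    ∃ (t : L) (ht : t ∈ H.T), c' = c.comp (H.conjR ht) := by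
  classical
  haveI := (finite_hom_units H.R M).1
  haveI := Fintype.ofFinite (H.R →* Mˣ)
  let φ : {t // t ∈ H.T} → (H.R →* Mˣ) := fun t => c.comp (H.conjR t.2)
  have hinj : Function.Injective φ := by
    intro t t' h
    by_contra hne
    refine hc ?_
    have hne' : (t : L) ≠ t' := fun e => hne (Subtype.ext e)
    have key : ∀ a b : H.R, a * b = b * a := fun a b => Subtype.ext (H.central a a.2 b (H.RQ b.2))
    let ψ : H.R →* H.R := MonoidHom.mk' (fun r => H.conjR t.2 r * (H.conjR t'.2 r)⁻¹) fun a b => by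
      rw [map_mul, map_mul, mul_inv_rev, key (H.conjR t'.2 b)⁻¹ _]
      rw [mul_assoc, ← mul_assoc (H.conjR t.2 b) (H.conjR t'.2 a)⁻¹, key (H.conjR t.2 b) (H.conjR t'.2 a)⁻¹]
      simp only [mul_assoc]
    have hbij : Function.Bijective ψ := by
      rw [← Finite.injective_iff_bijective, injective_iff_map_eq_one]
      intro r hr
      have e : H.conjR t.2 r = H.conjR t'.2 r := mul_inv_eq_one.1 hr
      by_contra hne2
      exact H.Tfree t t.2 t' t'.2 hne' _ r.2 (fun h1 => hne2 (Subtype.ext h1)) (congrArg Subtype.val e)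
    refine MonoidHom.ext fun s => ?_
    obtain ⟨r, rfl⟩ := hbij.2 s
    show c (H.conjR t.2 r * (H.conjR t'.2 r)⁻¹) = _
    rw [map_mul, map_inv]
    have := DFunLike.congr_fun h r
    simp only [φ, MonoidHom.comp_apply] at this
    rw [this, mul_inv_cancel, MonoidHom.one_apply]
  have hne1 : ∀ t, φ t ≠ 1 := by
    intro t ht1
    have hbij : Function.Bijective (H.conjR t.2) := by
      rw [← Finite.injective_iff_bijective]
      intro a b h
      have h' := congrArg Subtype.val h
      simp only [conjR_apply, mul_left_inj, mul_right_inj] at h'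
      exact Subtype.ext h'
    refine hc (MonoidHom.ext fun s => ?_)
    obtain ⟨r, rfl⟩ := hbij.2 s
    exact DFunLike.congr_fun ht1 r
  have hsub : (Finset.univ.image φ) ⊆ Finset.univ.erase 1 := fun f hf => by
    obtain ⟨t, -, rfl⟩ := Finset.mem_image.1 hf
    exact Finset.mem_erase.2 ⟨hne1 t, Finset.mem_univ _⟩
  have heq : (Finset.univ.image φ) = Finset.univ.erase 1 := by
    refine Finset.eq_of_subset_of_card_le hsub ?_
    rw [Finset.card_image_of_injective _ hinj, Finset.card_erase_of_mem (Finset.mem_univ _),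
      Finset.card_univ, ← Nat.card_eq_fintype_card, Finset.card_univ, Fintype.card_coe]
    have h1 := (finite_hom_units H.R M).2
    have h2 := H.cardT
    rw [H.cardR] at h1
    omega
  have : c' ∈ Finset.univ.image φ := heq ▸ Finset.mem_erase.2 ⟨hc', Finset.mem_univ _⟩
  obtain ⟨t, -, ht⟩ := Finset.mem_image.1 this
  exact ⟨t, t.2, ht.symm⟩

/-- A subgroup of `Q` above the centre, isotropic for a non-trivial character, has order at most `q ^ 2`. -/
theorem isotropic [Finite L] {M : Type v} [Field M] {c : H.R →* Mˣ} (hc : c ≠ 1) (B : Subgroup H.Q)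
    (hB : H.R.subgroupOf H.Q ≤ B)
    (hiso : ∀ g ∈ B, ∀ h ∈ B, c ⟨(g : L) * h * (g : L)⁻¹ * (h : L)⁻¹, H.comm g g.2 h h.2⟩ = 1) :
    Nat.card B ≤ q ^ 2 := by
  haveI hBn : B.Normal := ⟨fun b hb g => by
    have h1 : g * b * g⁻¹ * b⁻¹ ∈ B := hB (H.comm g g.2 b b.2)
    simpa using mul_mem h1 hb⟩
  set cm : H.Q → H.Q → Mˣ := fun g h => c ⟨(g : L) * h * (g : L)⁻¹ * (h : L)⁻¹, H.comm g g.2 h h.2⟩ with hcm
  have hleft : ∀ g g' h, cm (g * g') h = cm g h * cm g' h := by
    intro g g' h
    simp only [hcm]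
    rw [mul_comm, ← map_mul]
    congr 1
    apply Subtype.ext
    have hx := H.central _ (H.comm g' g'.2 h h.2) g g.2
    simp only [Subgroup.coe_mul]
    calc (g : L) * g' * h * ((g : L) * g')⁻¹ * (h : L)⁻¹
        = (g : L) * ((g' : L) * h * (g' : L)⁻¹ * (h : L)⁻¹) * ((h : L) * (g : L)⁻¹ * (h : L)⁻¹) := by group
      _ = ((g' : L) * h * (g' : L)⁻¹ * (h : L)⁻¹) * (g : L) * ((h : L) * (g : L)⁻¹ * (h : L)⁻¹) := by rw [hx]
      _ = _ := by group
  have hswap : ∀ g h, cm g h = (cm h g)⁻¹ := by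
    intro g h
    simp only [hcm]
    rw [← map_inv]
    congr 1
    refine Subtype.ext ?_
    show (g : L) * h * (g : L)⁻¹ * (h : L)⁻¹ = ((h : L) * g * (h : L)⁻¹ * (g : L)⁻¹)⁻¹
    group
  have hright : ∀ g h h', cm g (h * h') = cm g h * cm g h' := by
    intro g h h'
    rw [hswap g (h * h'), hleft, mul_inv_rev, ← hswap, ← hswap, mul_comm]
  let Ψ : B →* (H.Q →* Mˣ) :=
    { toFun := fun b => MonoidHom.mk' (fun g => cm g b) fun g g' => hleft g g' b
      map_one' := MonoidHom.ext fun g => by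
        show cm g 1 = 1
        have h := hright g 1 1
        rw [one_mul] at h
        exact mul_right_cancel (b := cm g 1) (by rw [one_mul, ← h])
      map_mul' := fun a b => MonoidHom.ext fun g => hright g a b }
  have hrange : ∀ b : B, ∀ n ∈ B, Ψ b n = 1 := fun b n hn => hiso n hn b b.2
  let Φ : B → {f : H.Q →* Mˣ // ∀ n ∈ B, f n = 1} := fun b => ⟨Ψ b, hrange b⟩
  haveI := (finite_hom_units H.Q M).1
  have hkerR : ∀ b : B, Ψ b = 1 → ((b : H.Q) : L) ∈ H.R := by
    intro b hb
    by_contra hbR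
    refine hc (MonoidHom.ext fun r => ?_)
    obtain ⟨h, hh, e⟩ := H.surjQ _ (b : H.Q).2 hbR r r.2
    have h1 : cm ⟨h, hh⟩ b = 1 := DFunLike.congr_fun hb ⟨h, hh⟩
    rw [hswap, inv_eq_one] at h1
    rw [MonoidHom.one_apply, ← h1, hcm]
    exact congrArg c (Subtype.ext e.symm)
  have hker : Nat.card Ψ.ker ≤ q := by
    refine le_trans ?_ H.cardR.le
    refine Nat.card_le_card_of_injective (fun b => (⟨((b.1 : H.Q) : L), hkerR b.1 b.2⟩ : H.R)) fun a b h => ?_
    have h' := congrArg Subtype.val h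
    exact Subtype.ext (Subtype.ext (Subtype.ext h'))
  have hran : Nat.card Ψ.range ≤ B.index := by
    refine le_trans ?_ (card_hom_trivial_le M B)
    refine Nat.card_le_card_of_injective (fun f => ⟨f.1, ?_⟩) fun a b h => ?_
    · obtain ⟨b, hb⟩ := f.2; exact hb ▸ hrange b
    · exact Subtype.ext (congrArg Subtype.val h :)
  have h1 : Nat.card B = Nat.card Ψ.ker * Nat.card Ψ.range := by
    rw [← Ψ.ker.card_mul_index, Subgroup.index_ker]
  have h2 := B.card_mul_index
  rw [H.cardQ] at h2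
  have h3 : Nat.card B * Nat.card B ≤ (q ^ 2) * (q ^ 2) := by
    calc Nat.card B * Nat.card B ≤ Nat.card B * (q * B.index) :=
          Nat.mul_le_mul_left _ (h1 ▸ Nat.mul_le_mul hker hran)
      _ = q * (Nat.card B * B.index) := by ring
      _ = _ := by rw [h2]; ring
  exact Nat.mul_self_le_mul_self_iff.1 h3

end Heis

end CfsgLib.RankTwo
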