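import Cfsg.Agent.Lib.RankTwoModel.CMax.Model
import Cfsg.Agent.Lib.RankTwo.Heis
import Cfsg.Agent.Lib.U3Cent.Gens
import Cfsg.Agent.Lib.U3Cent.Model
import Cfsg.Agent.Lib.Fusion.PSUSplit
import Cfsg.Agent.Lib.SmallSimple.MultiplierTransport
import Cfsg.Agent.S2086
import Cfsg.Agent.S2089

/-!
The Heisenberg subgroups of `L₃(q)` and `U₃(q)` at a given involution, and the block `SL₂(q)` of its centraliser.

Blueprint: `blueprint/RankTwo.md` (P7, recognition).
-/

set_option autoImplicit false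
set_option linter.unusedSectionVars false
set_option linter.style.haveILetI false

namespace CfsgLib.RankTwoModel

open Cfsg Matrix

universe u v

/-- A Heisenberg subgroup whose centre is the centraliser of `z` in it, `z` inverting the quotient. -/
def HeisZ (L : Type u) [Group L] (z : L) (q : ℕ) : Prop :=
  ∃ hh : CfsgLib.RankTwo.Heis L z q, (∀ g ∈ hh.Q, g * z = z * g → g ∈ hh.R) ∧ ∀ g ∈ hh.Q, z * g * z⁻¹ * g ∈ hh.R

/-- Kernels of stem extensions are prime to `q`. -/
def StemCoprime (L : Type u) [Group L] (q : ℕ) : Prop :=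
  ∀ (Γ : Type u) [Group Γ] [Finite Γ] (σ : Γ →* L), IsStemExtension σ → Nat.Coprime (Nat.card σ.ker) q

/-- A cyclic multiplier of order prime to `q`. -/
theorem stemCoprime_of_cyclic {L : Type u} [Group L] {P : Type} [Group P] (e : L ≃* P) {n q : ℕ}
    (h : HasCyclicSchurMultiplier P n) (hn : Nat.Coprime n q) (hn0 : 0 < n) : StemCoprime L q := by
  intro Γ _ _ σ ⟨hs, hz, hc⟩
  let eg : Shrink.{0} Γ ≃* Γ := Shrink.mulEquiv
  let τ : Shrink.{0} Γ →* P := e.toMonoidHom.comp (σ.comp eg.toMonoidHom)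
  have hk : τ.ker = σ.ker.comap eg.toMonoidHom := by
    ext x
    simp only [τ, MonoidHom.mem_ker, Subgroup.mem_comap, MonoidHom.coe_comp, Function.comp_apply,
      MulEquiv.coe_toMonoidHom]
    exact e.map_eq_one_iff
  obtain ⟨π, hπ⟩ := h.2 (Shrink.{0} Γ) τ ⟨e.surjective.comp (hs.comp eg.surjective), fun x hx => by
      rw [hk] at hx
      refine Subgroup.mem_center_iff.2 fun y => eg.injective ?_
      rw [map_mul, map_mul]
      exact Subgroup.mem_center_iff.1 (hz hx) (eg y), fun x hx => by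
      rw [hk] at hx
      have h1 : eg x ∈ (commutator (Shrink.{0} Γ)).map eg.toMonoidHom := by
        rw [commutator_def, Subgroup.map_commutator, ← MonoidHom.range_eq_map,
          MonoidHom.range_eq_top_of_surjective _ eg.surjective, ← commutator_def]
        exact hc hx
      obtain ⟨y, hy, hyx⟩ := h1
      exact eg.injective hyx ▸ hy⟩
  haveI : NeZero n := ⟨by omega⟩
  have hd := Subgroup.card_dvd_of_surjective π hπ
  rw [Nat.card_congr Multiplicative.toAdd, Nat.card_zmod, hk,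
    ← Subgroup.card_map_of_injective (f := eg.toMonoidHom) eg.injective,
    Subgroup.map_comap_eq_self_of_surjective (f := eg.toMonoidHom) eg.surjective] at hd
  exact Nat.Coprime.coprime_dvd_left hd hn

/-- An element conjugating a finite subgroup into itself normalises it. -/
theorem conj_mem_iff {L : Type u} [Group L] {S : Subgroup L} [Finite S] {t : L}
    (h : ∀ g ∈ S, t * g * t⁻¹ ∈ S) (g : L) : g ∈ S ↔ t * g * t⁻¹ ∈ S := by
  refine ⟨h g, fun hg => ?_⟩
  have hinj : Function.Injective (fun x : S => (⟨t * x * t⁻¹, h x x.2⟩ : S)) := fun a b e => by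
    have e' : t * (a : L) * t⁻¹ = t * b * t⁻¹ := congrArg Subtype.val e
    exact Subtype.ext (mul_left_cancel (mul_right_cancel e'))
  obtain ⟨x, hx⟩ := (Finite.injective_iff_surjective.1 hinj) ⟨_, hg⟩
  have e' : t * (x : L) * t⁻¹ = t * g * t⁻¹ := congrArg Subtype.val hx
  exact (mul_left_cancel (mul_right_cancel e')) ▸ x.2

/-- A Heisenberg subgroup from coordinates in a cover with central kernel. -/
theorem heis_of_coords {M : Type*} {L : Type u} [Group M] [Group L] (f : M →* L)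
    (hker : ∀ m, f m = 1 → ∀ m', m' * m = m * m') {W Z₀ K : Type*} [AddCommGroup W] [AddCommGroup Z₀] [Finite W]
    [Finite Z₀] [Finite K] {q : ℕ} (E : W → Z₀ → M) (hE : ∀ w c w' c', E w c = E w' c' → w = w' ∧ c = c')
    (β : W → W → Z₀) (hmul : ∀ w c w' c', E w c * E w' c' = E (w + w') (c + c' + β w w'))
    (hβl : ∀ w, β 0 w = 0) (hβr : ∀ w, β w 0 = 0) (hω : ∀ w, w ≠ 0 → ∀ c, ∃ w', β w w' - β w' w = c)
    (W₀ : AddSubgroup W) (hW₀ : ∀ a ∈ W₀, ∀ b ∈ W₀, β a b = β b a)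
    (hWA : ∀ w, w ∉ W₀ → ∀ c, ∃ w' ∈ W₀, β w w' - β w' w = c)
    (cW : Nat.card W = q ^ 2) (cZ : Nat.card Z₀ = q) (cW₀ : Nat.card W₀ = q) (hq : 3 ≤ q)
    (z₀ : M) (hz₀ : ∀ w c, z₀ * E w c * z₀⁻¹ = E (-w) c) (hneg : ∀ w : W, -w = w → w = 0)
    (τ : K → M) (φ : K → W → W) (ψ : K → Z₀ → Z₀) (hτ : ∀ k w c, τ k * E w c * (τ k)⁻¹ = E (φ k w) (ψ k c))
    (hφ : ∀ k, φ k 0 = 0) (hfree : ∀ k k' c, c ≠ 0 → ψ k c = ψ k' c → k = k') (hK : q ≤ Nat.card K + 1) :
    HeisZ L (f z₀) q := by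
  classical
  have hE0 : E 0 0 = 1 := by
    have h := hmul 0 0 0 0
    rw [add_zero, add_zero, hβl, add_zero] at h
    exact mul_eq_left.1 h
  have hinv : ∀ w c, (E w c)⁻¹ = E (-w) (-c - β w (-w)) := fun w c => by
    refine inv_eq_of_mul_eq_one_right ?_
    rw [hmul, add_neg_cancel, show c + (-c - β w (-w)) + β w (-w) = 0 by abel, hE0]
  have hcentral : ∀ w c, (∀ m, m * E w c = E w c * m) → w = 0 ∧ c = 0 := by
    intro w c hc
    have h1 : z₀ * E w c * z₀⁻¹ = E w c := by rw [hc z₀, mul_inv_cancel_right]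
    rw [hz₀] at h1
    have hw : w = 0 := hneg w (hE _ _ _ _ h1).1
    refine ⟨hw, ?_⟩
    by_contra hc0
    have hk : ∀ k, ψ k c = c := fun k => by
      have h2 : τ k * E w c * (τ k)⁻¹ = E w c := by rw [hc (τ k), mul_inv_cancel_right]
      rw [hτ] at h2
      exact (hE _ _ _ _ h2).2
    haveI : Subsingleton K := ⟨fun a b => hfree a b c hc0 ((hk a).trans (hk b).symm)⟩
    have := Finite.card_le_one_iff_subsingleton.2 ‹Subsingleton K›
    omega
  set e : W × Z₀ → L := fun p => f (E p.1 p.2) with hedef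
  have he : ∀ w c w' c', f (E w c) = f (E w' c') → w = w' ∧ c = c' := by
    intro w c w' c' h
    have h1 : f ((E w c)⁻¹ * E w' c') = 1 := by rw [map_mul, map_inv, h, inv_mul_cancel]
    obtain ⟨x, y, h4⟩ : ∃ x y, (E w c)⁻¹ * E w' c' = E x y := ⟨_, _, by rw [hinv, hmul]⟩
    obtain ⟨h5, h6⟩ := hcentral _ _ fun m => by
      have := hker _ h1 m
      rwa [h4] at this
    rw [h5, h6, hE0, inv_mul_eq_one] at h4
    exact hE _ _ _ _ h4
  let Q : Subgroup L :=
    { carrier := {g | ∃ w c, g = f (E w c)}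
      one_mem' := ⟨0, 0, by rw [hE0, map_one]⟩
      mul_mem' := by
        rintro _ _ ⟨w, c, rfl⟩ ⟨w', c', rfl⟩
        exact ⟨_, _, by rw [← map_mul, hmul]⟩
      inv_mem' := by
        rintro _ ⟨w, c, rfl⟩
        exact ⟨_, _, by rw [← map_inv, hinv]⟩ }
  let R : Subgroup L :=
    { carrier := {g | ∃ c, g = f (E 0 c)}
      one_mem' := ⟨0, by rw [hE0, map_one]⟩
      mul_mem' := by
        rintro _ _ ⟨c, rfl⟩ ⟨c', rfl⟩
        exact ⟨_, by rw [← map_mul, hmul, add_zero]⟩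
      inv_mem' := by
        rintro _ ⟨c, rfl⟩
        exact ⟨_, by rw [← map_inv, hinv, neg_zero]⟩ }
  let A : Subgroup L :=
    { carrier := {g | ∃ w ∈ W₀, ∃ c, g = f (E w c)}
      one_mem' := ⟨0, zero_mem _, 0, by rw [hE0, map_one]⟩
      mul_mem' := by
        rintro _ _ ⟨w, hw, c, rfl⟩ ⟨w', hw', c', rfl⟩
        exact ⟨_, add_mem hw hw', _, by rw [← map_mul, hmul]⟩
      inv_mem' := by
        rintro _ ⟨w, hw, c, rfl⟩
        exact ⟨_, neg_mem hw, _, by rw [← map_inv, hinv]⟩ }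
  have eQ : Nat.card Q = q ^ 3 := by
    rw [← Nat.card_congr (Equiv.ofBijective (fun p : W × Z₀ => (⟨f (E p.1 p.2), p.1, p.2, rfl⟩ : Q))
      ⟨fun a b h => Prod.ext (he _ _ _ _ (congrArg Subtype.val h)).1 (he _ _ _ _ (congrArg Subtype.val h)).2,
       fun ⟨_, w, c, rfl⟩ => ⟨(w, c), rfl⟩⟩), Nat.card_prod, cW, cZ]
    ring
  have eR : Nat.card R = q := by
    rw [← Nat.card_congr (Equiv.ofBijective (fun c : Z₀ => (⟨f (E 0 c), c, rfl⟩ : R))
      ⟨fun a b h => (he _ _ _ _ (congrArg Subtype.val h)).2, fun ⟨_, c, rfl⟩ => ⟨c, rfl⟩⟩), cZ]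
  have eA : Nat.card A = q ^ 2 := by
    rw [← Nat.card_congr (Equiv.ofBijective (fun p : W₀ × Z₀ => (⟨f (E p.1 p.2), p.1, p.1.2, p.2, rfl⟩ : A))
      ⟨fun a b h => Prod.ext (Subtype.ext (he _ _ _ _ (congrArg Subtype.val h)).1)
          (he _ _ _ _ (congrArg Subtype.val h)).2,
       fun ⟨_, w, hw, c, rfl⟩ => ⟨(⟨w, hw⟩, c), rfl⟩⟩), Nat.card_prod, cW₀, cZ]
    ring
  have hQpos : q ^ 3 ≠ 0 := pow_ne_zero _ (by omega)
  haveI : Finite Q := Nat.finite_of_card_ne_zero (eQ ▸ hQpos)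
  haveI : Finite R := Nat.finite_of_card_ne_zero (eR ▸ (by omega : q ≠ 0))
  have hcomm : ∀ w c w' c', E w c * E w' c' * (E w c)⁻¹ * (E w' c')⁻¹ = E 0 (β w w' - β w' w) := fun w c w' c' => by
    rw [mul_inv_eq_iff_eq_mul, mul_inv_eq_iff_eq_mul, hmul, hmul 0, zero_add, hβl, add_zero, hmul]
    congr 1
    · exact add_comm _ _
    · abel
  have hzE : ∀ w c, f z₀ * f (E w c) * (f z₀)⁻¹ = f (E (-w) c) := fun w c => by
    rw [← map_inv, ← map_mul, ← map_mul, hz₀]
  have hτE : ∀ k w c, f (τ k) * f (E w c) * (f (τ k))⁻¹ = f (E (φ k w) (ψ k c)) := fun k w c => by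
    rw [← map_inv, ← map_mul, ← map_mul, hτ]
  haveI := Fintype.ofFinite K
  have hinjτ : Function.Injective (fun k => f (τ k)) := fun k k' h => by
    haveI : Nontrivial Z₀ := Finite.one_lt_card_iff_nontrivial.1 (by omega)
    obtain ⟨c, hc⟩ := exists_ne (0 : Z₀)
    refine hfree k k' c hc (he (φ k 0) _ (φ k' 0) _ ?_).2
    rw [← hτE, ← hτE]
    exact congrArg (fun x => x * f (E 0 c) * x⁻¹) h
  refine ⟨{ Q := Q, R := R, A := A, RA := ?_, AQ := ?_, cardR := eR, cardA := eA, cardQ := eQ, central := ?_,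
            acomm := ?_, comm := ?_, surjQ := ?_, surjA := ?_, zQ := ?_, zR := ?_,
            T := Finset.univ.image fun k => f (τ k), cardT := ?_, TQ := ?_, TR := ?_, Tfree := ?_ }, ?_, ?_⟩
  · rintro _ ⟨c, rfl⟩
    exact ⟨0, zero_mem _, c, rfl⟩
  · rintro _ ⟨w, -, c, rfl⟩
    exact ⟨w, c, rfl⟩
  · rintro _ ⟨c, rfl⟩ _ ⟨w, c', rfl⟩
    rw [← map_mul, ← map_mul, hmul, hmul, hβl, hβr, zero_add, add_zero, add_comm c]
    simp [add_comm]
  · rintro _ ⟨w, hw, c, rfl⟩ _ ⟨w', hw', c', rfl⟩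
    rw [← map_mul, ← map_mul, hmul, hmul, hW₀ w hw w' hw', add_comm w, add_comm c]
  · rintro _ ⟨w, c, rfl⟩ _ ⟨w', c', rfl⟩
    exact ⟨_, by rw [← map_inv, ← map_inv, ← map_mul, ← map_mul, ← map_mul, hcomm]⟩
  · rintro _ ⟨w, c, rfl⟩ hnR _ ⟨r, rfl⟩
    have hw : w ≠ 0 := fun e => hnR ⟨c, by rw [e]⟩
    obtain ⟨w', hw'⟩ := hω w hw r
    exact ⟨_, ⟨w', 0, rfl⟩, by rw [← map_inv, ← map_inv, ← map_mul, ← map_mul, ← map_mul, hcomm, hw']⟩
  · rintro _ ⟨w, c, rfl⟩ hnA _ ⟨r, rfl⟩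
    obtain ⟨w', hw'₀, hw'⟩ := hWA w (fun h => hnA ⟨w, h, c, rfl⟩) r
    exact ⟨_, ⟨w', hw'₀, 0, rfl⟩, by rw [← map_inv, ← map_inv, ← map_mul, ← map_mul, ← map_mul, hcomm, hw']⟩
  · rintro _ ⟨w, c, rfl⟩
    exact ⟨_, _, hzE w c⟩
  · rintro _ ⟨c, rfl⟩
    rw [hzE, neg_zero]
  · rw [Finset.card_image_of_injective _ hinjτ, Finset.card_univ, ← Nat.card_eq_fintype_card]
    exact hK
  · intro t ht g
    obtain ⟨k, -, rfl⟩ := Finset.mem_image.1 ht
    refine conj_mem_iff (fun x hx => ?_) g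
    obtain ⟨w, c, rfl⟩ := hx
    exact ⟨_, _, hτE k w c⟩
  · intro t ht g
    obtain ⟨k, -, rfl⟩ := Finset.mem_image.1 ht
    refine conj_mem_iff (fun x hx => ?_) g
    obtain ⟨c, rfl⟩ := hx
    exact ⟨ψ k c, by rw [hτE, hφ]⟩
  · intro t ht t' ht' hne r hr hr1 heq
    obtain ⟨k, -, rfl⟩ := Finset.mem_image.1 ht
    obtain ⟨k', -, rfl⟩ := Finset.mem_image.1 ht'
    obtain ⟨c, rfl⟩ := hr
    rw [hτE, hτE] at heq
    exact hne (congrArg (fun k => f (τ k))
      (hfree k k' c (fun e => hr1 (by rw [e, hE0, map_one])) (he _ _ _ _ heq).2))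
  · rintro _ ⟨w, c, rfl⟩ h
    have h1 : f z₀ * f (E w c) * (f z₀)⁻¹ = f (E w c) := by rw [← h, mul_inv_cancel_right]
    rw [hzE] at h1
    exact ⟨c, by rw [hneg w (he _ _ _ _ h1).1]⟩
  · rintro _ ⟨w, c, rfl⟩
    exact ⟨c + c + β (-w) w, by rw [hzE, ← map_mul, hmul, neg_add_cancel]⟩

section SL

variable {F : Type} [Field F] [Fintype F]

/-- A Heisenberg subgroup of an image of `SL₃(F)`. -/
theorem heis_sl (hF : Odd (Fintype.card F)) :
    ∃ z₀ : SpecialLinearGroup (Fin 3) F, z₀ * z₀ = 1 ∧ ∀ (L : Type u) [Group L]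
      (f : SpecialLinearGroup (Fin 3) F →* L), (∀ m, f m = 1 → ∀ m', m' * m = m * m') →
      f z₀ ≠ 1 ∧ HeisZ L (f z₀) (Fintype.card F) := by
  classical
  have h2 : (2 : F) ≠ 0 := Ring.two_ne_zero fun h => Nat.not_even_iff_odd.mpr hF
    ((FiniteField.even_card_iff_char_two).mp h |> Nat.even_iff.mpr)
  have hneg : ∀ x : F, -x = x → x = 0 := fun x hx =>
    (mul_eq_zero.1 (show (2 : F) * x = 0 by linear_combination -hx)).resolve_left h2
  let E : F × F → F → SpecialLinearGroup (Fin 3) F := fun w c =>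
    ⟨!![1, w.1, c; 0, 1, w.2; 0, 0, 1], by simp [Matrix.det_fin_three]⟩
  let z₀ : SpecialLinearGroup (Fin 3) F :=
    ⟨!![-1, 0, 0; 0, 1, 0; 0, 0, -1], by simp [Matrix.det_fin_three]⟩
  let τ : Fˣ → SpecialLinearGroup (Fin 3) F := fun k =>
    ⟨!![(k : F), 0, 0; 0, (k : F)⁻¹, 0; 0, 0, 1], by simp [Matrix.det_fin_three]⟩
  have hmul : ∀ w c w' c', E w c * E w' c' = E (w + w') (c + c' + w.1 * w'.2) := by
    intro w c w' c'
    apply Subtype.ext
    show (E w c).1 * (E w' c').1 = (E (w + w') (c + c' + w.1 * w'.2)).1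
    ext i j
    fin_cases i <;> fin_cases j <;> simp [E, Matrix.mul_apply, Fin.sum_univ_three] <;> ring
  have hz : ∀ w c, z₀ * E w c * z₀⁻¹ = E (-w) c := by
    intro w c
    rw [mul_inv_eq_iff_eq_mul]
    apply Subtype.ext
    show z₀.1 * (E w c).1 = (E (-w) c).1 * z₀.1
    ext i j
    fin_cases i <;> fin_cases j <;> simp [E, z₀, Matrix.mul_apply, Fin.sum_univ_three]
  have hzz : z₀ * z₀ = 1 := by
    apply Subtype.ext
    show z₀.1 * z₀.1 = 1
    ext i j
    fin_cases i <;> fin_cases j <;> simp [z₀, Matrix.mul_apply, Fin.sum_univ_three]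
  have hE : ∀ w c w' c', E w c = E w' c' → w = w' ∧ c = c' := fun w c w' c' h => by
    have h' : ∀ i j, (E w c).1 i j = (E w' c').1 i j := fun i j => by rw [h]
    exact ⟨Prod.ext (by simpa [E] using h' 0 1) (by simpa [E] using h' 1 2), by simpa [E] using h' 0 2⟩
  refine ⟨z₀, hzz, fun L _ f hker => ⟨fun h1 => ?_, ?_⟩⟩
  · have h3 := hker z₀ h1 (E (1, 0) 0)
    have h4 : z₀ * E (1, 0) 0 * z₀⁻¹ = E (1, 0) 0 := by rw [← h3, mul_inv_cancel_right]
    rw [hz] at h4
    exact one_ne_zero (hneg 1 (congrArg Prod.fst (hE _ _ _ _ h4).1))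
  refine heis_of_coords f hker (q := Fintype.card F) E hE (fun w w' => w.1 * w'.2) hmul (fun w => by simp)
    (fun w => by simp) ?_ (AddSubgroup.prod ⊥ ⊤) ?_ ?_ ?_ ?_ ?_ ?_ z₀ hz ?_ τ
    (fun k w => ((k : F) * (k : F) * w.1, (k : F)⁻¹ * w.2)) (fun k c => (k : F) * c) ?_ (fun k => by simp)
    (fun k k' c hc h => Units.ext (mul_right_cancel₀ hc h)) ?_
  · intro w hw c
    by_cases h1 : w.1 = 0
    · have h2' : w.2 ≠ 0 := fun e => hw (Prod.ext h1 e)
      exact ⟨(-c / w.2, 0), by simp [h1, h2']⟩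
    · exact ⟨(0, c / w.1), by field_simp [h1]; ring⟩
  · intro a ha b hb
    simp [AddSubgroup.mem_prod] at ha hb
    simp [ha, hb]
  · intro w hw c
    have h1 : w.1 ≠ 0 := fun e => hw (by simp [AddSubgroup.mem_prod, e])
    exact ⟨(0, c / w.1), by simp [AddSubgroup.mem_prod], by field_simp [h1]; ring⟩
  · rw [Nat.card_prod, Nat.card_eq_fintype_card, sq]
  · rw [Nat.card_eq_fintype_card]
  · rw [Nat.card_congr (AddSubgroup.prodEquiv (⊥ : AddSubgroup F) (⊤ : AddSubgroup F)).toEquiv, Nat.card_prod,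
      AddSubgroup.card_bot, AddSubgroup.card_top, one_mul, Nat.card_eq_fintype_card]
  · have := Fintype.one_lt_card (α := F)
    obtain ⟨k, hk⟩ := hF
    omega
  · intro w h
    exact Prod.ext (hneg _ (congrArg Prod.fst h)) (hneg _ (congrArg Prod.snd h))
  · intro k w c
    rw [mul_inv_eq_iff_eq_mul]
    apply Subtype.ext
    show (τ k).1 * (E w c).1 = (E ((k : F) * (k : F) * w.1, (k : F)⁻¹ * w.2) ((k : F) * c)).1 * (τ k).1
    ext i j
    fin_cases i <;> fin_cases j <;> simp [E, τ, Matrix.mul_apply, Fin.sum_univ_three] <;> field_simp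
  · rw [Nat.card_units, Nat.card_eq_fintype_card]
    have := Fintype.one_lt_card (α := F)
    omega

end SL

section SU

open CfsgLib.PSUBorel CfsgLib.U3Cent

variable {F : Type} [Field F] [Fintype F] (c : Conj F)

/-- A Heisenberg subgroup of an image of `SU₃(q)`. -/
theorem heis_su (hodd : Odd c.q) : ∃ z₀ : SUs c 3, z₀ * z₀ = 1 ∧ ∀ (L : Type u) [Group L] (f : SUs c 3 →* L),
    (∀ m, f m = 1 → ∀ m', m' * m = m * m') → f z₀ ≠ 1 ∧ HeisZ L (f z₀) c.q := by
  classical
  have h2 : (2 : F) ≠ 0 := Ring.two_ne_zero fun h => by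
    have := (FiniteField.even_card_iff_char_two).mp h
    rw [c.card, Nat.pow_mod, Nat.odd_iff.1 hodd] at this
    simp at this
  have hneg : ∀ x : F, -x = x → x = 0 := fun x hx =>
    (mul_eq_zero.1 (show (2 : F) * x = 0 by linear_combination -hx)).resolve_left h2
  have hσ2 : c.σ 2 = 2 := map_ofNat c.σ 2
  let s : F → F := fun b => -(b * c.σ b) / 2
  let β : F → F → X0 c := fun b b' => ⟨(c.σ b * b' - b * c.σ b') / 2, by
    rw [mem_X0, map_div₀, map_sub, map_mul, map_mul, c.invol, c.invol, hσ2]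
    field_simp
    ring⟩
  have hcond : ∀ (b : F) (x : X0 c), ((x : F) + s b) + c.σ ((x : F) + s b) + b * c.σ b = 0 := fun b x => by
    have hx := mem_X0.1 x.2
    simp only [s, map_add, map_div₀, map_neg, map_mul, c.invol, hσ2]
    field_simp
    linear_combination (2 : F) * hx
  let E : F → X0 c → SUs c 3 := fun b x =>
    ⟨⟨TM c ((x : F) + s b) b, by simp [TM, Matrix.det_fin_three]⟩, cond_TM (hcond b x)⟩
  let z₀ : SUs c 3 := ⟨⟨DM c (-1) 1, by simp [DM, Matrix.det_fin_three]⟩, cond_DM (by simp) (by simp)⟩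
  let fx : AddSubgroup F :=
    { carrier := {b | c.σ b = b}
      zero_mem' := map_zero _
      add_mem' := fun {a b} ha hb => by
        show c.σ (a + b) = a + b
        rw [map_add, show c.σ a = a from ha, show c.σ b = b from hb]
      neg_mem' := fun {a} ha => by
        show c.σ (-a) = -a
        rw [map_neg, show c.σ a = a from ha] }
  obtain ⟨b0, hb0, hσb0⟩ := c.exists_antifixed
  have cfx : Nat.card fx = c.q := by
    rw [← card_X0 (c := c)]
    refine Nat.card_congr ?_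
    exact
      { toFun := fun b => ⟨(b : F) * b0, by
          rw [mem_X0, map_mul, show c.σ (b : F) = b from b.2, hσb0]; ring⟩
        invFun := fun x => ⟨(x : F) / b0, by
          show c.σ ((x : F) / b0) = (x : F) / b0
          rw [map_div₀, sig_X0, hσb0, neg_div_neg_eq]⟩
        left_inv := fun b => Subtype.ext (by show (b : F) * b0 / b0 = b; field_simp)
        right_inv := fun x => Subtype.ext (by show (x : F) / b0 * b0 = x; field_simp) }
  let K := {k : F // c.σ k = k ∧ k ≠ 0}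
  have hroot : ∀ k : K, ∃ a : F, a * c.σ a = k.1 := fun k => c.exists_norm k.2.1
  choose a ha using hroot
  have ha0 : ∀ k, a k ≠ 0 := fun k e => k.2.2 (by rw [← ha k, e, zero_mul])
  have hs0 : ∀ k, c.σ (a k) ≠ 0 := fun k => (map_ne_zero c.σ).mpr (ha0 k)
  let τ : K → SUs c 3 := fun k =>
    ⟨⟨DM c (a k) (c.σ (a k) / a k), by
        simp [DM, Matrix.det_fin_three]
        field_simp [ha0 k, hs0 k]⟩,
      cond_DM (ha0 k) (by rw [map_div₀, c.invol]; field_simp [ha0 k, hs0 k])⟩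
  have hmul : ∀ b x b' x', E b x * E b' x' = E (b + b') (x + x' + β b b') := by
    intro b x b' x'
    refine SUs_ext c ?_
    rw [PSUBorel.coe_mul]
    show TM c _ b * TM c _ b' = TM c _ (b + b')
    ext i j
    fin_cases i <;> fin_cases j <;> simp [TM, Matrix.mul_apply, Fin.sum_univ_three, map_add, s, β] <;>
      field_simp <;> ring
  have hz : ∀ b x, z₀ * E b x * z₀⁻¹ = E (-b) x := by
    intro b x
    rw [mul_inv_eq_iff_eq_mul]
    refine SUs_ext c ?_
    rw [PSUBorel.coe_mul, PSUBorel.coe_mul]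
    show DM c (-1) 1 * TM c _ b = TM c _ (-b) * DM c (-1) 1
    ext i j
    fin_cases i <;> fin_cases j <;> simp [TM, DM, Matrix.mul_apply, Fin.sum_univ_three, s]
  have hzz : z₀ * z₀ = 1 := by
    refine SUs_ext c ?_
    rw [PSUBorel.coe_mul, PSUBorel.coe_one]
    show DM c (-1) 1 * DM c (-1) 1 = 1
    ext i j
    fin_cases i <;> fin_cases j <;> simp [DM, Matrix.mul_apply, Fin.sum_univ_three]
  have hE : ∀ b x b' x', E b x = E b' x' → b = b' ∧ x = x' := fun b x b' x' h => by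
    have h' : ∀ i j, (E b x).1.1 i j = (E b' x').1.1 i j := fun i j => by rw [h]
    have hb : b = b' := by simpa [E, TM] using h' 2 1
    subst hb
    exact ⟨rfl, Subtype.ext (by simpa [E, TM] using h' 2 0)⟩
  refine ⟨z₀, hzz, fun L _ f hker => ⟨fun h1 => ?_, ?_⟩⟩
  · have h3 := hker z₀ h1 (E 1 0)
    have h4 : z₀ * E 1 0 * z₀⁻¹ = E 1 0 := by rw [← h3, mul_inv_cancel_right]
    rw [hz] at h4
    exact one_ne_zero (hneg 1 (hE _ _ _ _ h4).1)
  refine heis_of_coords f hker (q := c.q) E hE β hmul (fun b => Subtype.ext (by simp [β]))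
    (fun b => Subtype.ext (by simp [β])) ?_ fx ?_ ?_ ?_ (card_X0 (c := c)) cfx ?_ z₀ hz hneg τ
    (fun k b => a k / (c.σ (a k) * c.σ (a k)) * b)
    (fun k x => ⟨(x : F) / k.1, by rw [mem_X0, map_div₀, k.2.1, sig_X0]; ring⟩) ?_ (fun k => by simp) ?_ ?_
  · intro b hb x
    have hb' : c.σ b ≠ 0 := (map_ne_zero c.σ).mpr hb
    refine ⟨(x : F) / (2 * c.σ b), Subtype.ext ?_⟩
    show (c.σ b * _ - b * c.σ _) / 2 - (c.σ _ * b - _ * c.σ b) / 2 = (x : F)
    rw [map_div₀, map_mul, hσ2, c.invol, sig_X0]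
    field_simp
    ring
  · intro b hb b' hb'
    refine Subtype.ext ?_
    show (c.σ b * b' - b * c.σ b') / 2 = (c.σ b' * b - b' * c.σ b) / 2
    rw [show c.σ b = b from hb, show c.σ b' = b' from hb']
    ring
  · intro b hb x
    have hb' : c.σ b - b ≠ 0 := sub_ne_zero.2 hb
    have hfix : c.σ ((x : F) / (c.σ b - b)) = (x : F) / (c.σ b - b) := by
      rw [map_div₀, map_sub, c.invol, sig_X0, ← neg_sub (c.σ b) b, neg_div_neg_eq]
    refine ⟨(x : F) / (c.σ b - b), hfix, Subtype.ext ?_⟩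
    show (c.σ b * _ - b * c.σ _) / 2 - (c.σ _ * b - _ * c.σ b) / 2 = (x : F)
    rw [hfix]
    field_simp
    ring
  · rw [Nat.card_eq_fintype_card, c.card]
  · have := c.one_lt
    obtain ⟨k, hk⟩ := hodd
    omega
  · intro k b x
    rw [mul_inv_eq_iff_eq_mul]
    refine SUs_ext c ?_
    rw [PSUBorel.coe_mul, PSUBorel.coe_mul]
    show DM c (a k) _ * TM c _ b = TM c _ (a k / (c.σ (a k) * c.σ (a k)) * b) * DM c (a k) _
    have hk := ha k
    have hk0 : k.1 ≠ 0 := k.2.2
    ext i j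
    fin_cases i <;> fin_cases j <;>
      simp [TM, DM, Matrix.mul_apply, Fin.sum_univ_three, s, map_mul, map_div₀, c.invol] <;>
      (try rw [← hk]) <;> field_simp [ha0 k, hs0 k] <;> ring
  · intro k k' x hx h
    have h' : (x : F) / k.1 = (x : F) / k'.1 := congrArg Subtype.val h
    have hx' : (x : F) ≠ 0 := fun e => hx (Subtype.ext e)
    exact Subtype.ext (inv_injective (mul_left_cancel₀ hx' (by rwa [← div_eq_mul_inv, ← div_eq_mul_inv])))
  · haveI := Fintype.ofFinite fx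
    haveI := Fintype.ofFinite K
    rw [Nat.card_eq_fintype_card, ← cfx, Nat.card_eq_fintype_card]
    let g : fx → Option K := fun b => if hb : (b : F) = 0 then none else some ⟨b, b.2, hb⟩
    have hg : Function.Injective g := by
      intro p p' h
      simp only [g] at h
      split_ifs at h with h1 h2 <;> first | exact Subtype.ext (h1.trans h2.symm) | simp at h ⊢ <;> exact Subtype.ext (congrArg (fun x : K => x.1) h)
    exact (Fintype.card_le_of_injective g hg).trans (by rw [Fintype.card_option])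

end SU

/-- **The involution centraliser and the Heisenberg subgroup of a model.** -/
theorem Model.exists_block {X : Type u} [Group X] [Finite X] (hs : IsSimpleGroup X) (hq : QW X) (hm : Model X)
    {t : X} (ht : orderOf t = 2) :
    Cfsg.IsM11 X ∨ ∃ (K : Type) (_ : Field K) (_ : Fintype K), Odd (Fintype.card K) ∧
      ∃ j : SpecialLinearGroup (Fin 2) K →* X, Function.Injective j ∧
        j.range ≤ Subgroup.centralizer ({t} : Set X) ∧
        (∀ a ∈ Subgroup.centralizer ({t} : Set X), ∀ b ∈ Subgroup.centralizer ({t} : Set X),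
          a * b * a⁻¹ * b⁻¹ ∈ j.range) ∧ HeisZ X t (Fintype.card K) ∧ StemCoprime X (Fintype.card K) := by
  haveI := hs
  have key : ∀ {Γ A : Type} [Group Γ] [Finite Γ] [CommGroup A] {K : Type} [Field K] [Fintype K]
      (hK : Odd (Fintype.card K)) (d : Γ →* A) (ι : SpecialLinearGroup (Fin 2) K →* Γ),
      Function.Injective ι → (∀ g, d g = 1 → g ∈ ι.range) → ∀ f : Γ →* X, (∀ g, f g = 1 → Odd (orderOf g)) →
      f.range = Subgroup.centralizer ({t} : Set X) →
      Function.Injective (f.comp ι) ∧ (f.comp ι).range ≤ Subgroup.centralizer ({t} : Set X) ∧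
        (∀ a ∈ Subgroup.centralizer ({t} : Set X), ∀ b ∈ Subgroup.centralizer ({t} : Set X),
          a * b * a⁻¹ * b⁻¹ ∈ (f.comp ι).range) := by
    intro Γ A _ _ _ K _ _ hK d ι hι hd f hk hfr
    refine ⟨?_, ?_, ?_⟩
    · rw [← MonoidHom.ker_eq_bot_iff]
      refine @CfsgLib.GU2Cent.sl2_odd_normal K _ _ hK _ inferInstance fun m hm => ?_
      rw [← orderOf_injective ι hι]
      exact hk _ hm
    · rw [← hfr]
      rintro _ ⟨m, rfl⟩
      exact ⟨ι m, rfl⟩
    · intro a ha b hb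
      rw [← hfr] at ha hb
      obtain ⟨x, rfl⟩ := ha
      obtain ⟨y, rfl⟩ := hb
      obtain ⟨m, hm⟩ := hd (x * y * x⁻¹ * y⁻¹) (by
        rw [map_mul, map_mul, map_mul, map_inv, map_inv, mul_inv_cancel_comm, mul_inv_cancel])
      exact ⟨m, by rw [MonoidHom.comp_apply, hm, map_mul, map_mul, map_mul, map_inv, map_inv]⟩
  have move : ∀ {M : Type} [Group M] (f : M →* X) (z₀ : M), (∀ m, f m = 1 → ∀ m', m' * m = m * m') →
      z₀ * z₀ = 1 → f z₀ ≠ 1 → ∃ f' : M →* X, f' z₀ = t ∧ ∀ m, f' m = 1 → ∀ m', m' * m = m * m' := by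
    intro M _ f z₀ hker hz hz1
    obtain ⟨g, hg⟩ := isConj_iff.1 (hq.all_conj hs (f z₀) t
      (orderOf_eq_prime (by rw [pow_two, ← map_mul, hz, map_one]) hz1) ht)
    exact ⟨(MulAut.conj g).toMonoidHom.comp f, hg, fun m hm => hker m ((map_eq_one_iff _ (MulAut.conj g).injective).1 hm)⟩
  rcases hm with ⟨F, _, _, hF, ⟨e⟩⟩ | ⟨F, _, _, q, hF, hodd, ⟨e⟩⟩ | hM
  · refine Or.inr ⟨F, inferInstance, inferInstance, hF, ?_⟩
    have het : orderOf (e t) = 2 := (MulEquiv.orderOf_eq e t).trans ht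
    obtain ⟨Z, hZn, hZ, hZc, ⟨E⟩⟩ := CfsgLib.PSLThree.exists_centralizer_iso hF (e t) het
    haveI := hZn
    let f : GL (Fin 2) F →* X := e.symm.toMonoidHom.comp
      ((Subgroup.centralizer ({e t} : Set (Matrix.ProjectiveSpecialLinearGroup (Fin 3) F))).subtype.comp
        (E.symm.toMonoidHom.comp (QuotientGroup.mk' Z)))
    have hfr : f.range = Subgroup.centralizer ({t} : Set X) := by
      ext x
      rw [Subgroup.mem_centralizer_singleton_iff]
      constructor
      · rintro ⟨g, rfl⟩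
        refine e.injective ?_
        have := Subgroup.mem_centralizer_singleton_iff.1 (E.symm (QuotientGroup.mk' Z g)).2
        rw [map_mul, map_mul]
        simpa [f] using this
      · intro hx
        obtain ⟨g, hg⟩ := QuotientGroup.mk'_surjective Z
          (E ⟨e x, Subgroup.mem_centralizer_singleton_iff.2 (by rw [← map_mul, ← map_mul, hx])⟩)
        refine ⟨g, ?_⟩
        show e.symm (E.symm (QuotientGroup.mk' Z g)).1 = x
        rw [hg, E.symm_apply_apply, e.symm_apply_apply]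
    have hk : ∀ g, f g = 1 → Odd (orderOf g) := fun g hg => by
      have hgZ : g ∈ Z := by
        rw [← QuotientGroup.eq_one_iff]
        have h1 : e.symm (E.symm (QuotientGroup.mk' Z g) : Matrix.ProjectiveSpecialLinearGroup (Fin 3) F) = 1 := hg
        rw [map_eq_one_iff _ e.symm.injective] at h1
        exact (map_eq_one_iff _ E.symm.injective).1 (Subtype.ext h1)
      have := Subgroup.orderOf_dvd_natCard Z hgZ
      rw [hZc] at this
      exact (show Odd 3 by decide).of_dvd_nat (this.trans (Nat.gcd_dvd_right _ _))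
    obtain ⟨h1, h2, h3⟩ := key hF GeneralLinearGroup.det Matrix.SpecialLinearGroup.toGL
      (fun a b e' => Subtype.ext (congrArg Units.val e'))
      (fun g hg => ⟨⟨g.1, congrArg Units.val hg⟩, Units.ext rfl⟩) f hk hfr
    refine ⟨_, h1, h2, h3, ?_, ?_⟩
    swap
    · have h3F : 3 ≤ Fintype.card F := by
        have := Fintype.one_lt_card (α := F)
        obtain ⟨k, hk⟩ := hF
        omega
      refine stemCoprime_of_cyclic e (Cfsg.Agent.S2086.result rfl 3 (by norm_num) (by norm_num) ?_) ?_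
        (Nat.gcd_pos_of_pos_left _ (by norm_num))
      · obtain ⟨k, hk⟩ := hF
        simp only [Set.mem_insert_iff, Set.mem_singleton_iff, Prod.mk.injEq]
        omega
      · exact Nat.Coprime.coprime_dvd_left (Nat.gcd_dvd_right _ _)
          ((Nat.coprime_self_sub_left (by omega)).2 (Nat.coprime_one_left _))
    let f₃ : SpecialLinearGroup (Fin 3) F →* X :=
      e.symm.toMonoidHom.comp (QuotientGroup.mk' (Subgroup.center (SpecialLinearGroup (Fin 3) F)))
    have hker : ∀ m, f₃ m = 1 → ∀ m', m' * m = m * m' := fun m hm => Subgroup.mem_center_iff.1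
      ((QuotientGroup.eq_one_iff m).1 ((map_eq_one_iff _ e.symm.injective).1 hm))
    obtain ⟨z₀, hz, H⟩ := heis_sl.{u} hF
    obtain ⟨f', hf', hk'⟩ := move f₃ z₀ hker hz (H X f₃ hker).1
    rw [← hf']
    exact (H X f' hk').2
  · obtain ⟨K, _, _, hK⟩ := CfsgLib.SUCover.exists_K hF
    refine Or.inr ⟨K, inferInstance, inferInstance, by rw [hK]; exact hodd, ?_⟩
    obtain ⟨f₀, hk₀, t₀, ht₀, hf₀⟩ := psu_centralizer hF hodd
    obtain ⟨g, hg⟩ := isConj_iff.1 (hq.all_conj hs (e.symm t₀) t ((MulEquiv.orderOf_eq _ _).trans ht₀) ht)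
    let ψ : Cfsg.PSU 3 F q ≃* X := e.symm.trans (MulAut.conj g)
    have hψ : ψ t₀ = t := hg
    let f : ↥(Cfsg.GU 2 F q) →* X := ψ.toMonoidHom.comp f₀
    have hfr : f.range = Subgroup.centralizer ({t} : Set X) := by
      ext x
      rw [Subgroup.mem_centralizer_singleton_iff]
      constructor
      · rintro ⟨y, rfl⟩
        have := Subgroup.mem_centralizer_singleton_iff.1 (hf₀.le ⟨y, rfl⟩)
        rw [← hψ, show f y = ψ (f₀ y) from rfl, ← map_mul, ← map_mul, this]
      · intro hx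
        obtain ⟨y, hy⟩ := hf₀.ge (show ψ.symm x ∈ Subgroup.centralizer ({t₀} : Set _) from
          Subgroup.mem_centralizer_singleton_iff.2 (ψ.injective (by
            rw [map_mul, map_mul, MulEquiv.apply_symm_apply, hψ, hx])))
        exact ⟨y, by show ψ (f₀ y) = x; rw [hy, MulEquiv.apply_symm_apply]⟩
    have hk : ∀ y, f y = 1 → Odd (orderOf y) := fun y hy => hk₀ y ((map_eq_one_iff _ ψ.injective).1 hy)
    obtain ⟨φ, B, -, Φ, -⟩ := CfsgLib.Phan.exists_sl_model hF hK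
    let ι₀ : ↥(Cfsg.SU 2 F q) →* ↥(Cfsg.GU 2 F q) :=
      (Matrix.SpecialLinearGroup.toGL.comp (Cfsg.SU 2 F q).subtype).codRestrict (Cfsg.GU 2 F q) fun g => g.2
    have hι₀ : Function.Injective ι₀ := fun a b e' => Subtype.ext (Subtype.ext (congrArg (fun x => x.1.1) e'))
    obtain ⟨h1, h2, h3⟩ := key (by rw [hK]; exact hodd) (GeneralLinearGroup.det.comp (Cfsg.GU 2 F q).subtype)
      (ι₀.comp Φ.toMonoidHom) (hι₀.comp Φ.injective) (fun g' hg' => ⟨Φ.symm ⟨⟨g'.1.1, congrArg Units.val hg'⟩, g'.2⟩,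
        Subtype.ext (Units.ext (by
          show (Φ (Φ.symm _)).1.1 = g'.1.1
          rw [MulEquiv.apply_symm_apply]))⟩) f hk hfr
    refine ⟨_, h1, h2, h3, ?_, ?_⟩
    swap
    · have h3q : 3 ≤ q := by
        have := CfsgLib.UnitaryBasic.frob_exists hF
        obtain ⟨k, hk⟩ := hodd
        omega
      rw [hK]
      refine stemCoprime_of_cyclic e (Cfsg.Agent.S2089.result 3 q hF le_rfl (by omega) ?_) ?_
        (Nat.gcd_pos_of_pos_left _ (by norm_num))
      · simp only [Set.mem_insert_iff, Set.mem_singleton_iff, Prod.mk.injEq]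
        omega
      · exact Nat.Coprime.coprime_dvd_left (Nat.gcd_dvd_right _ _) (by simp)
    obtain ⟨-, σ, hσ⟩ := CfsgLib.UnitaryBasic.frob_exists hF
    let c : CfsgLib.PSUBorel.Conj F := ⟨q, σ, hF, hσ⟩
    obtain ⟨EU⟩ := CfsgLib.PSUBorel.exists_iso c (n := 3)
    let f₃ : CfsgLib.PSUBorel.SUs c 3 →* X :=
      e.symm.toMonoidHom.comp ((QuotientGroup.mk' (Subgroup.center (Cfsg.SU 3 F q))).comp EU.toMonoidHom)
    have hker : ∀ m, f₃ m = 1 → ∀ m', m' * m = m * m' := fun m hm m' => EU.injective (by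
      rw [map_mul, map_mul]
      exact Subgroup.mem_center_iff.1
        ((QuotientGroup.eq_one_iff (EU m)).1 ((map_eq_one_iff _ e.symm.injective).1 hm)) (EU m'))
    obtain ⟨z₁, hz', H⟩ := heis_su.{u} c hodd
    obtain ⟨f', hf', hk'⟩ := move f₃ z₁ hker hz' (H X f₃ hker).1
    rw [hK, ← hf']
    exact (H X f' hk').2
  · exact Or.inl hM

end CfsgLib.RankTwoModel
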