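import Mathlib

/-!
# Eigenspace projections of a commutative group of order prime to the characteristic
-/

set_option autoImplicit false
set_option linter.unusedSectionVars false
set_option linter.style.haveILetI false

namespace CfsgLib.RankTwo

universe u v w

variable {F : Type u} [Field F] {A : Type v} [Group A] [Fintype A] {W : Type w} [AddCommGroup W] [Module F W]

/-- The projection to the eigenspace of a linear character. -/
noncomputable def eig (ρ : A →* Module.End F W) (l : A →* Fˣ) : Module.End F W :=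
  (Nat.card A : F)⁻¹ • ∑ a : A, (((l a)⁻¹ : Fˣ) : F) • ρ a

variable (ρ : A →* Module.End F W) (l : A →* Fˣ)

theorem apply_mul_eig (a : A) : ρ a * eig ρ l = (l a : F) • eig ρ l := by
  rw [eig, mul_smul_comm, smul_comm, Finset.mul_sum, Finset.smul_sum (r := (l a : F))]
  congr 1
  refine Fintype.sum_equiv (Equiv.mulLeft a) _ _ fun b => ?_
  rw [mul_smul_comm, ← map_mul, smul_smul, Equiv.coe_mulLeft, map_mul l, mul_inv, Units.val_mul, ← mul_assoc,
    Units.mul_inv, one_mul]

theorem eig_mul_eig (m : A →* Fˣ) :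
    eig ρ m * eig ρ l = ((Nat.card A : F)⁻¹ * ∑ a : A, ((((m a)⁻¹ * l a) : Fˣ) : F)) • eig ρ l := by
  conv_lhs => rw [eig, smul_mul_assoc, Finset.sum_mul]
  rw [← smul_smul]
  congr 1
  rw [Finset.sum_smul]
  refine Finset.sum_congr rfl fun a _ => ?_
  rw [smul_mul_assoc, apply_mul_eig, smul_smul, Units.val_mul]

theorem eig_idem (hA : (Nat.card A : F) ≠ 0) : eig ρ l * eig ρ l = eig ρ l := by
  rw [eig_mul_eig]
  simp only [inv_mul_cancel, Units.val_one, Finset.sum_const, Finset.card_univ, nsmul_one,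
    ← Nat.card_eq_fintype_card]
  rw [inv_mul_cancel₀ hA, one_smul]

theorem sum_hom_eq_zero {f : A →* Fˣ} (hf : f ≠ 1) : ∑ a : A, (f a : F) = 0 := by
  obtain ⟨b, hb⟩ := DFunLike.ne_iff.1 hf
  have h1 : ((f b : F)) ≠ 1 := fun e => hb (Units.val_inj.1 (by simpa using e))
  have h2 : ∑ a : A, (f a : F) = (f b : F) * ∑ a : A, (f a : F) := by
    rw [Finset.mul_sum]
    exact (Fintype.sum_equiv (Equiv.mulLeft b) _ _ fun a => by simp).symm
  by_contra h0
  exact h1 (mul_right_cancel₀ h0 (by rw [one_mul]; exact h2.symm))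

theorem eig_orth {m : A →* Fˣ} (h : m ≠ l) : eig ρ m * eig ρ l = 0 := by
  have hne : m⁻¹ * l ≠ 1 := fun e => h (inv_mul_eq_one.1 e)
  rw [eig_mul_eig]
  have := sum_hom_eq_zero hne
  simp only [MonoidHom.mul_apply, MonoidHom.inv_apply] at this
  rw [this, mul_zero, zero_smul]

theorem card_eig_le [FiniteDimensional F W] (hA : (Nat.card A : F) ≠ 0) (S : Finset (A →* Fˣ))
    (hS : ∀ l ∈ S, eig ρ l ≠ 0) : S.card ≤ Module.finrank F W := by
  classical
  have hv : ∀ l : S, ∃ x : W, eig ρ l.1 x ≠ 0 := fun l => by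
    by_contra h
    push Not at h
    exact hS l.1 l.2 (LinearMap.ext h)
  choose x hx using hv
  have hli : LinearIndependent F fun l : S => eig ρ l.1 (x l) := by
    rw [Fintype.linearIndependent_iff]
    intro g hg i
    have h := congrArg (eig ρ i.1) hg
    rw [map_zero, map_sum, Finset.sum_eq_single i] at h
    · rw [map_smul, ← Module.End.mul_apply, eig_idem ρ _ hA, smul_eq_zero] at h
      exact h.resolve_right (hx i)
    · intro j _ hji
      rw [map_smul, ← Module.End.mul_apply, eig_orth ρ _ (fun e => hji (Subtype.ext e.symm)), LinearMap.zero_apply,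
        smul_zero]
    · intro h'; exact absurd (Finset.mem_univ i) h'
  simpa using hli.fintype_card_le_finrank

section Commutative

variable [IsAlgClosed F]

theorem enough_roots (hA : (Nat.card A : F) ≠ 0) : HasEnoughRootsOfUnity F (Monoid.exponent A) := by
  haveI : NeZero (Monoid.exponent A : F) := ⟨fun h => hA (by
    obtain ⟨k, hk⟩ := (Group.exponent_dvd_nat_card (G := A))
    rw [hk, Nat.cast_mul, h, zero_mul])⟩
  infer_instance

theorem card_hom_eq (hc : ∀ a b : A, a * b = b * a) (hA : (Nat.card A : F) ≠ 0) :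
    Finite (A →* Fˣ) ∧ Nat.card (A →* Fˣ) = Nat.card A := by
  letI : CommGroup A := { (inferInstance : Group A) with mul_comm := hc }
  haveI := enough_roots (A := A) hA
  exact ⟨Finite.of_equiv A (CommGroup.monoidHom_mulEquiv_of_hasEnoughRootsOfUnity A F).some.toEquiv.symm,
    CommGroup.card_monoidHom_of_hasEnoughRootsOfUnity A F⟩

theorem sum_eig [Fintype (A →* Fˣ)] (hc : ∀ a b : A, a * b = b * a) (hA : (Nat.card A : F) ≠ 0) :
    ∑ l : A →* Fˣ, eig ρ l = 1 := by
  classical
  letI : CommGroup A := { (inferInstance : Group A) with mul_comm := hc }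
  haveI := enough_roots (A := A) hA
  have key : ∀ a : A, ∑ l : A →* Fˣ, (((l a)⁻¹ : Fˣ) : F) = if a = 1 then (Nat.card A : F) else 0 := by
    intro a
    by_cases ha : a = 1
    · subst ha
      simp only [map_one, inv_one, Units.val_one, Finset.sum_const, Finset.card_univ, nsmul_one, if_true]
      rw [← Nat.card_eq_fintype_card, (card_hom_eq hc hA).2]
    · rw [if_neg ha]
      obtain ⟨m, hm⟩ := CommGroup.exists_apply_ne_one_of_hasEnoughRootsOfUnity A F (a := a⁻¹) (by simpa using ha)
      have h1 : (m a⁻¹ : F) ≠ 1 := fun e => hm (Units.val_inj.1 (by simpa using e))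
      have h2 : ∑ l : A →* Fˣ, (((l a)⁻¹ : Fˣ) : F) = (m a⁻¹ : F) * ∑ l : A →* Fˣ, (((l a)⁻¹ : Fˣ) : F) := by
        rw [Finset.mul_sum]
        exact (Fintype.sum_equiv (Equiv.mulLeft m) _ _ fun l => by simp [map_inv, mul_comm]).symm
      by_contra h0
      exact h1 (mul_right_cancel₀ h0 (by rw [one_mul]; exact h2.symm))
  simp only [eig, ← Finset.smul_sum]
  rw [Finset.sum_comm]
  simp only [← Finset.sum_smul, key, ite_smul, zero_smul, Finset.sum_ite_eq', Finset.mem_univ, if_true, map_one]
  rw [smul_smul, inv_mul_cancel₀ hA, one_smul]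

end Commutative

/-- Conjugation permutes the projections. -/
theorem conj_eig (σ : A ≃* A) (T : Module.End F W) (h : ∀ a, T * ρ a = ρ (σ a) * T) :
    T * eig ρ l = eig ρ (l.comp σ.symm.toMonoidHom) * T := by
  rw [eig, eig, mul_smul_comm, smul_mul_assoc, Finset.mul_sum, Finset.sum_mul]
  congr 1
  refine Fintype.sum_equiv σ.toEquiv _ _ fun a => ?_
  simp [h a]

end CfsgLib.RankTwo
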