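import Cfsg.Agent.Lib.RankTwo.Cov
import Cfsg.Agent.Lib.RankTwo.Eigen

/-!
# The degree of a representation with a non-trivial Heisenberg centre

Over an algebraically closed field of characteristic prime to `q` it is at least `q (q - 1)`.
-/

set_option autoImplicit false
set_option linter.unusedSectionVars false
set_option linter.style.haveILetI false

namespace CfsgLib.RankTwo

universe u v w

namespace Heis

variable {L : Type u} [Group L] [Finite L] {z : L} {q : ℕ} (H : Heis L z q) {F : Type v} [Field F] [IsAlgClosed F]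
  {W : Type w} [AddCommGroup W] [Module F W] [FiniteDimensional F W]
include H

theorem linear_bound (hq : 1 < q) (hqF : (q : F) ≠ 0) (ρ : L →* Module.End F W)
    (hne : ∃ r ∈ H.R, ρ r ≠ 1) : q * (q - 1) ≤ Module.finrank F W := by
  classical
  haveI : Fintype H.A := Fintype.ofFinite _
  haveI : Fintype H.R := Fintype.ofFinite _
  have hAc : ∀ a b : H.A, a * b = b * a := fun a b => Subtype.ext (H.acomm a a.2 b b.2)
  have hRc : ∀ a b : H.R, a * b = b * a := fun a b => Subtype.ext (H.central a a.2 b (H.RQ b.2))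
  have hAF : (Nat.card H.A : F) ≠ 0 := by rw [H.cardA, Nat.cast_pow]; exact pow_ne_zero 2 hqF
  have hRF : (Nat.card H.R : F) ≠ 0 := by rw [H.cardR]; exact hqF
  haveI := (card_hom_eq hAc hAF).1
  haveI := (card_hom_eq hRc hRF).1
  haveI := Fintype.ofFinite (H.A →* Fˣ)
  haveI := Fintype.ofFinite (H.R →* Fˣ)
  set ρA : H.A →* Module.End F W := ρ.comp H.A.subtype with hρA
  set ρR : H.R →* Module.End F W := ρ.comp H.R.subtype with hρR
  let res : (H.A →* Fˣ) → (H.R →* Fˣ) := fun l => l.comp (Subgroup.inclusion H.RA)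
  set S : Finset (H.A →* Fˣ) := Finset.univ.filter fun l => eig ρA l ≠ 0 with hS
  -- the projections of the centre absorb those of `A`
  have habs : ∀ (c : H.R →* Fˣ) (l : H.A →* Fˣ), res l ≠ c → eig ρR c * eig ρA l = 0 := by
    intro c l hne'
    have hstep : ∀ r : H.R, ρR r * eig ρA l = (res l r : F) • eig ρA l := fun r =>
      apply_mul_eig ρA l (Subgroup.inclusion H.RA r)
    conv_lhs => rw [eig, smul_mul_assoc, Finset.sum_mul]
    simp only [smul_mul_assoc, hstep, smul_smul, ← Units.val_mul]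
    rw [← Finset.sum_smul]
    have := sum_hom_eq_zero (F := F) (show c⁻¹ * res l ≠ 1 from fun e => hne' (inv_mul_eq_one.1 e).symm)
    simp only [MonoidHom.mul_apply, MonoidHom.inv_apply] at this
    rw [this, zero_smul, smul_zero]
  -- a weight non-trivial on the centre
  obtain ⟨l₀, hl₀, hl₀R⟩ : ∃ l ∈ S, res l ≠ 1 := by
    obtain ⟨r, hr, hρ⟩ := hne
    by_contra h
    push Not at h
    refine hρ ?_
    calc ρ r = ρA ⟨r, H.RA hr⟩ * ∑ l : H.A →* Fˣ, eig ρA l := by rw [sum_eig ρA hAc hAF, mul_one]; rfl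
      _ = ∑ l : H.A →* Fˣ, eig ρA l := by
        rw [Finset.mul_sum]
        refine Finset.sum_congr rfl fun l _ => ?_
        by_cases he : eig ρA l = 0
        · rw [he, mul_zero]
        · rw [apply_mul_eig, show l ⟨r, H.RA hr⟩ = 1 from DFunLike.congr_fun
            (h l (Finset.mem_filter.2 ⟨Finset.mem_univ _, he⟩)) ⟨r, hr⟩, Units.val_one, one_smul]
      _ = 1 := sum_eig ρA hAc hAF
  -- every non-trivial character of the centre extends to a weight
  have hext : ∀ c : H.R →* Fˣ, c ≠ 1 → ∃ l ∈ S, res l = c := by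
    intro c hc
    obtain ⟨t, ht, hct⟩ := H.exists_conj hl₀R hc
    have hbij : Function.Bijective (H.conjR ht) := by
      rw [← Finite.injective_iff_bijective]
      intro a b h
      have h' := congrArg Subtype.val h
      simp only [conjR_apply, mul_left_inj, mul_right_inj] at h'
      exact Subtype.ext h'
    let σ : H.R ≃* H.R := MulEquiv.ofBijective (H.conjR ht) hbij
    have h0 : eig ρR c ≠ 0 := by
      intro h0
      have hcomm : ∀ r, ρ t * ρR r = ρR (σ r) * ρ t := fun r => by
        show ρ t * ρ r = ρ (t * r * t⁻¹) * ρ t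
        rw [← map_mul, ← map_mul, inv_mul_cancel_right]
      have h1 := conj_eig ρR c σ (ρ t) hcomm
      have h2 : c.comp σ.symm.toMonoidHom = res l₀ := by
        rw [hct]
        exact MonoidHom.ext fun r => congrArg (res l₀) (σ.apply_symm_apply r)
      rw [h0, mul_zero, h2] at h1
      have h3 : eig ρR (res l₀) = 0 := by
        calc eig ρR (res l₀) = eig ρR (res l₀) * ρ t * ρ t⁻¹ := by
              rw [mul_assoc, ← map_mul, mul_inv_cancel, map_one, mul_one]
          _ = 0 := by rw [← h1, zero_mul]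
      have h4 : eig ρR (res l₀) * eig ρA l₀ = eig ρA l₀ := by
        calc eig ρR (res l₀) * eig ρA l₀ = (∑ c' : H.R →* Fˣ, eig ρR c') * eig ρA l₀ := by
              rw [Finset.sum_mul, Finset.sum_eq_single (res l₀) (fun c' _ hne' => habs c' l₀ hne'.symm)
                fun h => absurd (Finset.mem_univ _) h]
          _ = eig ρA l₀ := by rw [sum_eig ρR hRc hRF, one_mul]
      rw [h3, zero_mul] at h4
      exact (Finset.mem_filter.1 hl₀).2 h4.symm
    by_contra hno
    push Not at hno
    refine h0 ?_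
    rw [← mul_one (eig ρR c), ← sum_eig ρA hAc hAF, Finset.mul_sum]
    refine Finset.sum_eq_zero fun l _ => ?_
    by_cases he : eig ρA l = 0
    · rw [he, mul_zero]
    · exact habs c l (hno l (Finset.mem_filter.2 ⟨Finset.mem_univ _, he⟩))
  -- the translates
  have hnormA : ∀ g ∈ H.Q, ∀ a ∈ H.A, g * a * g⁻¹ ∈ H.A := fun g hg a ha => by
    have h := mul_mem (H.RA (H.comm g hg a (H.AQ ha))) ha
    rwa [inv_mul_cancel_right] at h
  let cj : H.Q → (H.A →* H.A) := fun g => MonoidHom.mk'
    (fun a => ⟨(g : L) * a * (g : L)⁻¹, hnormA g g.2 a a.2⟩) fun a b => Subtype.ext (by simp [mul_assoc])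
  have hfib : ∀ c : H.R →* Fˣ, c ≠ 1 → q ≤ (S.filter fun l => res l = c).card := by
    intro c hc
    obtain ⟨l, hl, hlc⟩ := hext c hc
    haveI : Fintype H.Q := Fintype.ofFinite _
    have hmaps : ∀ g ∈ (Finset.univ : Finset H.Q), l.comp (cj g) ∈ S.filter fun l' => res l' = c := by
      intro g _
      refine Finset.mem_filter.2 ⟨Finset.mem_filter.2 ⟨Finset.mem_univ _, fun h0 => ?_⟩, ?_⟩
      · let σ : H.A ≃* H.A :=
          { toFun := cj g⁻¹
            invFun := cj g
            left_inv := fun a => Subtype.ext (by simp [cj, mul_assoc])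
            right_inv := fun a => Subtype.ext (by simp [cj, mul_assoc])
            map_mul' := map_mul _ }
        have hcomm : ∀ a, ρ ((g : L)⁻¹) * ρA a = ρA (σ a) * ρ ((g : L)⁻¹) := fun a => by
          show ρ ((g : L)⁻¹) * ρ a = ρ (((g⁻¹ : H.Q) : L) * a * ((g⁻¹ : H.Q) : L)⁻¹) * ρ ((g : L)⁻¹)
          rw [← map_mul, ← map_mul, Subgroup.coe_inv, inv_inv, mul_assoc _ (g : L), mul_inv_cancel, mul_one]
        have h1 := conj_eig ρA l σ _ hcomm
        rw [show l.comp σ.symm.toMonoidHom = l.comp (cj g) from rfl, h0, zero_mul] at h1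
        refine (Finset.mem_filter.1 hl).2 ?_
        calc eig ρA l = ρ (g : L) * (ρ ((g : L)⁻¹) * eig ρA l) := by
              rw [← mul_assoc, ← map_mul, mul_inv_cancel, map_one, one_mul]
          _ = 0 := by rw [h1, mul_zero]
      · rw [← hlc]
        refine MonoidHom.ext fun r => congrArg l (Subtype.ext ?_)
        show (g : L) * r * (g : L)⁻¹ = r
        rw [← H.central r r.2 g g.2, mul_inv_cancel_right]
    have hfibre : ∀ m ∈ (Finset.univ : Finset H.Q).image (fun g => l.comp (cj g)),
        ((Finset.univ : Finset H.Q).filter fun g => l.comp (cj g) = m).card ≤ q ^ 2 := by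
      intro m hm
      obtain ⟨h, -, rfl⟩ := Finset.mem_image.1 hm
      rw [← H.cardA, Nat.card_eq_fintype_card, ← Finset.card_univ]
      refine Finset.card_le_card_of_injOn
        (fun g : H.Q => if hg : (g : L) * (h : L)⁻¹ ∈ H.A then (⟨_, hg⟩ : H.A) else 1)
        (fun _ _ => Finset.mem_coe.2 (Finset.mem_univ _)) ?_
      have hmemA : ∀ g : H.Q, l.comp (cj g) = l.comp (cj h) → (g : L) * (h : L)⁻¹ ∈ H.A := by
        intro g hg
        by_contra hk
        refine hc (MonoidHom.ext fun r => ?_)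
        obtain ⟨a, ha, e⟩ := H.surjA _ (mul_mem g.2 (inv_mem h.2)) hk r r.2
        have h2 := DFunLike.congr_fun hg (cj h⁻¹ ⟨a, ha⟩)
        have e1 : cj g (cj h⁻¹ ⟨a, ha⟩) = Subgroup.inclusion H.RA r * ⟨a, ha⟩ := Subtype.ext (by
          show (g : L) * (((h⁻¹ : H.Q) : L) * a * ((h⁻¹ : H.Q) : L)⁻¹) * (g : L)⁻¹ = (r : L) * a
          rw [← e, Subgroup.coe_inv]; group)
        have e2 : cj h (cj h⁻¹ ⟨a, ha⟩) = ⟨a, ha⟩ := Subtype.ext (by
          show (h : L) * (((h⁻¹ : H.Q) : L) * a * ((h⁻¹ : H.Q) : L)⁻¹) * (h : L)⁻¹ = a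
          rw [Subgroup.coe_inv]; group)
        rw [MonoidHom.comp_apply, MonoidHom.comp_apply, e1, e2, map_mul, mul_eq_right] at h2
        rw [← hlc]
        exact h2
      intro g hg g' hg' heq
      have hg0 := hmemA g (Finset.mem_filter.1 (Finset.mem_coe.1 hg)).2
      have hg1 := hmemA g' (Finset.mem_filter.1 (Finset.mem_coe.1 hg')).2
      simp only [dif_pos hg0, dif_pos hg1, Subtype.mk.injEq, mul_left_inj] at heq
      exact Subtype.ext heq
    have hcnt := Finset.card_le_mul_card_image (Finset.univ : Finset H.Q) (q ^ 2) hfibre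
    rw [Finset.card_univ, ← Nat.card_eq_fintype_card, H.cardQ] at hcnt
    have himg := Finset.card_le_card (Finset.image_subset_iff.2 hmaps)
    have : q ^ 2 * q ≤ q ^ 2 * ((Finset.univ : Finset H.Q).image fun g => l.comp (cj g)).card := by
      rw [show q ^ 2 * q = q ^ 3 by ring]; exact hcnt
    exact le_trans (Nat.le_of_mul_le_mul_left this (by positivity)) himg
  -- count
  refine le_trans ?_ (card_eig_le ρA hAF S fun l hl => (Finset.mem_filter.1 hl).2)
  rw [Finset.card_eq_sum_card_fiberwise (f := res) (t := Finset.univ) fun l _ => Finset.mem_univ _]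
  refine le_trans ?_ (Finset.sum_le_sum_of_subset (Finset.erase_subset 1 Finset.univ))
  refine le_trans ?_ (Finset.sum_le_sum fun c hc => hfib c (Finset.ne_of_mem_erase hc))
  rw [Finset.sum_const, smul_eq_mul, Finset.card_erase_of_mem (Finset.mem_univ _), Finset.card_univ,
    ← Nat.card_eq_fintype_card, (card_hom_eq hRc hRF).2, H.cardR, mul_comm]

/-- A representation of smaller degree of a simple group is trivial. -/
theorem linear_trivial [IsSimpleGroup L] (hq : 1 < q) (hqF : (q : F) ≠ 0) (ρ : L →* Module.End F W)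
    (hd : Module.finrank F W < q * (q - 1)) (g : L) : ρ g = 1 := by
  have hR : ∀ r ∈ H.R, ρ r = 1 := fun r hr => by
    by_contra h
    exact absurd (H.linear_bound hq hqF ρ ⟨r, hr, h⟩) (not_le.2 hd)
  rcases Subgroup.Normal.eq_bot_or_eq_top (MonoidHom.normal_ker ρ.toHomUnits) with hb | ht
  · refine absurd (le_bot_iff.1 ?_) (H.R_ne_bot hq)
    rw [← hb]
    exact fun r hr => MonoidHom.mem_ker.2 (Units.ext (hR r hr))
  · exact congrArg Units.val (MonoidHom.mem_ker.1 (ht ▸ Subgroup.mem_top g))

end Heis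

end CfsgLib.RankTwo
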