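import Cfsg.Agent.Lib.RankTwo.Weights
import Cfsg.Agent.Lib.RankTwo.HeisLinear

/-!
# Characters vanishing on the coset of the involution

`Q` a Heisenberg subgroup with centre `R = C_Q(z)`, `z` inverting `Q / R`: a character vanishing on `z R` and
non-trivial on `R` has degree at least `2 q (q - 1)`.
-/

set_option autoImplicit false
set_option linter.unusedSectionVars false
set_option linter.style.haveILetI false

namespace CfsgLib.RankTwo

open Cfsg CfsgLib.CharTheory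
open scoped ComplexConjugate

universe u

variable {K : Type u} [Group K] [Fintype K] {z : K} {q : ℕ} (H : Heis K z q)
include H

/-- The weight over a non-trivial character of the centre is a multiple of `2 q`. -/
theorem Heis.part_dvd [Fintype H.R] (hz : z * z = 1) (hodd : Odd q) (hinv : ∀ g ∈ H.Q, z * g * z⁻¹ * g ∈ H.R)
    (hcent : ∀ g ∈ H.Q, g * z = z * g → g ∈ H.R) {ψ : K → ℂ} (hψ : IsCharacter K ψ)
    (h0 : ∀ r ∈ H.R, ψ (z * r) = 0) (μ : ↥H.R →* ℂˣ) (hμ : μ ≠ 1) : 2 * q ∣ wgt ψ μ := by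
  classical
  have hzi : z⁻¹ = z := inv_eq_of_mul_eq_one_right hz
  set M : Subgroup K := H.Q ⊔ Subgroup.zpowers z with hM
  have hzM : z ∈ M := Subgroup.mem_sup_right (Subgroup.mem_zpowers z)
  have hzn : ∀ g ∈ H.Q, z * g * z⁻¹ ∈ H.Q := H.zQ
  have hfixR : ∀ h ∈ M, ∀ r ∈ H.R, h * r * h⁻¹ = r := by
    intro h hh r hr
    have hle : M ≤ Subgroup.centralizer ({r} : Set K) := by
      refine sup_le (fun g hg => Subgroup.mem_centralizer_singleton_iff.2 (H.central r hr g hg).symm)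
        (Subgroup.zpowers_le.2 (Subgroup.mem_centralizer_singleton_iff.2 (mul_inv_eq_iff_eq_mul.1 (H.zR r hr))))
    rw [Subgroup.mem_centralizer_singleton_iff.1 (hle hh), mul_inv_cancel_right]
  obtain ⟨hF, -⟩ := isCharacter_part μ hψ M fun h hh c => ⟨c, (hfixR h hh c c.2).symm, rfl⟩
  letI : Fintype M := Fintype.ofFinite M
  set F : M → ℂ := fun h => part ψ μ (h : K) with hFdef
  set m := wgt ψ μ
  have hFz : ∀ r : H.R, part ψ μ (z * r) = 0 := fun r => by
    rw [part_mul_mem, part]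
    simp [h0 _ (SetLike.coe_mem _)]
  -- off the centre
  have hconj : ∀ x ∈ M, ∀ g : K, part ψ μ (x * g * x⁻¹) = part ψ μ g := fun x hx g =>
    part_conj μ (isClassFunction_char hψ) μ x g (Equiv.refl _)
      (fun c => by rw [Equiv.refl_apply, hfixR x hx c c.2]) fun c => rfl
  have hQ0 : ∀ g ∈ H.Q, g ∉ H.R → part ψ μ g = 0 := by
    intro g hg hgR
    obtain ⟨r, hr⟩ := DFunLike.ne_iff.1 hμ
    obtain ⟨h, hh, he⟩ := H.surjQ g⁻¹ (inv_mem hg) (fun h1 => hgR (by simpa using inv_mem h1)) r r.2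
    have h1 := hconj h (Subgroup.mem_sup_left hh) g
    rw [show h * g * h⁻¹ = g * (g⁻¹ * h * g⁻¹⁻¹ * h⁻¹) by group, he, part_mul_mem] at h1
    by_contra hne
    refine hr (Units.val_eq_one.1 ?_)
    exact mul_right_cancel₀ hne (h1.trans (one_mul _).symm)
  have hdec : ∀ h : M, (h : K) ∈ H.Q ∨ ∃ g ∈ H.Q, (h : K) = z * g := by
    rintro ⟨h, hh⟩
    have hn : Subgroup.zpowers z ≤ Subgroup.normalizer (H.Q : Set K) :=
      Subgroup.zpowers_le.2 (Subgroup.mem_normalizer_fintype hzn)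
    rw [hM, sup_comm, ← SetLike.mem_coe, Subgroup.coe_mul_of_left_le_normalizer_right _ _ hn] at hh
    obtain ⟨_, ⟨k, rfl⟩, g, hg, rfl⟩ := hh
    rcases Int.even_or_odd k with ⟨j, rfl⟩ | ⟨j, rfl⟩
    · left
      show z ^ (j + j) * g ∈ H.Q
      rw [← two_mul, zpow_mul, zpow_two, hz, one_zpow, one_mul]
      exact hg
    · right
      refine ⟨g, hg, ?_⟩
      show z ^ (2 * j + 1) * g = z * g
      rw [zpow_add, zpow_mul, zpow_two, hz, one_zpow, one_mul, zpow_one]
  have hoff : ∀ h : M, (h : K) ∉ H.R → F h = 0 := by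
    intro h hh
    rcases hdec h with hQ | ⟨g, hg, e⟩
    · exact hQ0 _ hQ hh
    · have hoddQ : Odd (Nat.card H.Q) := by rw [H.cardQ]; exact hodd.pow
      obtain ⟨b, hb, c, hc, hcz, hbc⟩ := coset_conj H.Q hoddQ hz hzn hg
      show part ψ μ (h : K) = 0
      rw [e, ← hconj b (Subgroup.mem_sup_left hb), hbc]
      exact hFz ⟨c, hcent c hc hcz⟩
  have hon : ∀ h : M, (h : K) ∈ H.R → Complex.normSq (F h) = (m : ℝ) ^ 2 := by
    intro h hh
    have hval : F h = (μ ⟨h, hh⟩ : ℂ) * (m : ℂ) := by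
      show part ψ μ (h : K) = _
      conv_lhs => rw [show (h : K) = 1 * ((⟨h, hh⟩ : H.R) : K) from (one_mul _).symm]
      rw [part_mul_mem, part_eq_wgt μ hψ]
    have hnorm : ‖((μ ⟨h, hh⟩ : ℂˣ) : ℂ)‖ = 1 := by
      obtain ⟨k, hk, hk1⟩ := isOfFinOrder_iff_pow_eq_one.1 (isOfFinOrder_of_finite (⟨h, hh⟩ : H.R))
      refine Complex.norm_eq_one_of_pow_eq_one ?_ hk.ne'
      rw [← Units.val_pow_eq_pow_val, ← map_pow, hk1, map_one, Units.val_one]
    rw [← Complex.sq_norm, hval, norm_mul, hnorm, one_mul, Complex.norm_natCast]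
  -- count
  obtain ⟨n, hn⟩ := classInner_char_nat hF hF
  have hN : (Nat.card M : ℂ) ≠ 0 := Nat.cast_ne_zero.2 Nat.card_pos.ne'
  have hsumC : ∑ g : M, F g * conj (F g) = (Nat.card M : ℂ) * n := by
    rw [← hn, classInner, mul_inv_cancel_left₀ hN]
  have hsum : ∑ g : M, Complex.normSq (F g) = (Nat.card M : ℝ) * n := by
    apply Complex.ofReal_injective
    push_cast
    rw [← hsumC]
    exact Finset.sum_congr rfl fun g _ => (Complex.mul_conj (F g)).symm
  have hRM : H.R ≤ M := H.RQ.trans le_sup_left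
  have hfil : (Finset.univ.filter fun g : M => (g : K) ∈ H.R).card = q := by
    rw [← Fintype.card_subtype, ← Nat.card_eq_fintype_card]
    refine Eq.trans ?_ H.cardR
    exact Nat.card_congr ⟨fun x => ⟨x.1, x.2⟩, fun r => ⟨⟨r, hRM r.2⟩, r.2⟩, fun _ => rfl, fun _ => rfl⟩
  have hkey : (q : ℝ) * (m : ℝ) ^ 2 = (Nat.card M : ℝ) * n := by
    rw [← hsum, ← Finset.sum_subset (Finset.subset_univ (Finset.univ.filter fun g : M => (g : K) ∈ H.R))
      (fun g _ hg => by rw [hoff g (fun h1 => hg (Finset.mem_filter.2 ⟨Finset.mem_univ g, h1⟩)), map_zero]),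
      Finset.sum_congr rfl fun g hg => hon g (Finset.mem_filter.1 hg).2, Finset.sum_const, hfil, nsmul_eq_mul]
  have hdvd : 2 * q ^ 3 ∣ Nat.card M := by
    have h2 : 2 ∣ Nat.card M := by
      have h := Subgroup.orderOf_dvd_natCard M hzM
      rcases eq_or_ne z 1 with e | e
      · exfalso
        have h1 : ∀ g ∈ H.Q, g ∈ H.R := fun g hg => hcent g hg (by rw [e, mul_one, one_mul])
        obtain ⟨r, hr⟩ := DFunLike.ne_iff.1 hμ
        have hr0 := H.cardQ
        have hle := Subgroup.card_le_of_le (h1 : H.Q ≤ H.R)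
        rw [H.cardQ, H.cardR] at hle
        have hq1 : q = 1 := by
          obtain ⟨k, hk⟩ := hodd
          by_contra hq
          have : q ^ 1 < q ^ 3 := Nat.pow_lt_pow_right (by omega) (by norm_num)
          rw [pow_one] at this
          omega
        have hsub : Nat.card H.R = 1 := H.cardR.trans hq1
        haveI := (Nat.card_eq_one_iff_unique.1 hsub).1
        exact hr (by rw [Subsingleton.elim r 1, map_one, map_one])
      · rwa [orderOf_eq_prime (by rw [pow_two]; exact hz) e] at h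
    refine Nat.Coprime.mul_dvd_of_dvd_of_dvd ((Nat.coprime_two_left.2 hodd.pow)) h2 ?_
    rw [← H.cardQ]
    exact Subgroup.card_dvd_of_le le_sup_left
  obtain ⟨t, ht⟩ := hdvd
  have hkey' : q * m ^ 2 = 2 * q ^ 3 * t * n := by
    rw [← ht]
    exact_mod_cast hkey
  have hm2 : m ^ 2 = 2 * q ^ 2 * (t * n) := by
    have hq0 : 0 < q := hodd.pos
    refine Nat.eq_of_mul_eq_mul_left hq0 ?_
    rw [hkey']
    ring
  have hqm : q ∣ m := (Nat.pow_dvd_pow_iff (two_ne_zero)).1 ⟨2 * (t * n), by rw [hm2]; ring⟩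
  have h2m : 2 ∣ m := Nat.prime_two.dvd_of_dvd_pow (n := 2) ⟨q ^ 2 * (t * n), by rw [hm2]; ring⟩
  exact Nat.Coprime.mul_dvd_of_dvd_of_dvd (Nat.coprime_two_left.2 hodd) h2m hqm

/-- **The bound.** -/
theorem Heis.parts_bound (hz : z * z = 1) (hodd : Odd q) (hinv : ∀ g ∈ H.Q, z * g * z⁻¹ * g ∈ H.R)
    (hcent : ∀ g ∈ H.Q, g * z = z * g → g ∈ H.R) {ψ : K → ℂ} (hψ : IsCharacter K ψ)
    (h0 : ∀ r ∈ H.R, ψ (z * r) = 0) (hne : ∃ r ∈ H.R, ψ r ≠ ψ 1) {n : ℕ} (hn : ψ 1 = (n : ℂ)) :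
    2 * q * (q - 1) ≤ n := by
  classical
  letI : Fintype H.R := Fintype.ofFinite _
  have hRc : ∀ a b : H.R, a * b = b * a := fun a b => Subtype.ext (H.central a a.2 b (H.RQ b.2))
  haveI := (finite_hom_units H.R ℂ).1
  letI := Fintype.ofFinite (H.R →* ℂˣ)
  obtain ⟨μ₀, hμ₀, hw₀⟩ : ∃ μ : H.R →* ℂˣ, μ ≠ 1 ∧ wgt ψ μ ≠ 0 := by
    by_contra hno
    push Not at hno
    obtain ⟨r, hr, hr1⟩ := hne
    refine hr1 ?_
    rw [← sum_part (χ := ψ) hRc r, ← sum_part (χ := ψ) hRc 1]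
    refine Finset.sum_congr rfl fun μ _ => ?_
    conv_lhs => rw [show r = 1 * ((⟨r, hr⟩ : H.R) : K) from (one_mul _).symm]
    rw [part_mul_mem]
    by_cases hμ : μ = 1
    · subst hμ; simp
    · rw [part_eq_wgt μ hψ, hno μ hμ]; simp
  have hsame : ∀ μ : H.R →* ℂˣ, μ ≠ 1 → wgt ψ μ = wgt ψ μ₀ := by
    intro μ hμ
    obtain ⟨t, ht, e⟩ := H.exists_conj hμ₀ hμ
    let σ : H.R ≃ H.R :=
      { toFun := H.conjR ht
        invFun := fun r => ⟨t⁻¹ * r * t, (H.TR t ht _).2 (by rw [show t * (t⁻¹ * (r : K) * t) * t⁻¹ = r by group]; exact r.2)⟩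
        left_inv := fun r => Subtype.ext (by
          show t⁻¹ * (t * (r : K) * t⁻¹) * t = r
          group)
        right_inv := fun r => Subtype.ext (by
          show t * (t⁻¹ * (r : K) * t) * t⁻¹ = r
          group) }
    exact (wgt_conj (isClassFunction_char hψ) μ μ₀ t σ (fun c => rfl) fun c => by rw [e]; rfl).symm
  have hdvd := H.part_dvd hz hodd hinv hcent hψ h0 μ₀ hμ₀
  have hbig : 2 * q ≤ wgt ψ μ₀ := Nat.le_of_dvd (Nat.pos_of_ne_zero hw₀) hdvd
  have hsum := sum_wgt hψ hRc hn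
  rw [← Finset.add_sum_erase _ _ (Finset.mem_univ (1 : H.R →* ℂˣ)),
    Finset.sum_congr rfl fun μ hμ => hsame μ (Finset.ne_of_mem_erase hμ), Finset.sum_const, smul_eq_mul,
    Finset.card_erase_of_mem (Finset.mem_univ _), Finset.card_univ, ← Nat.card_eq_fintype_card] at hsum
  have hcard : q ≤ Nat.card (H.R →* ℂˣ) := by
    refine le_of_eq (H.cardR.symm.trans ?_)
    exact (card_hom_eq hRc (Nat.cast_ne_zero.2 Nat.card_pos.ne')).2.symm
  have h1 := Nat.mul_le_mul (show q - 1 ≤ Nat.card (H.R →* ℂˣ) - 1 by omega) hbig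
  rw [mul_comm] at h1
  omega

end CfsgLib.RankTwo
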