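import Cfsg.Agent.Lib.RankTwo.SmallCharM
import Cfsg.Agent.Lib.RankTwo.PartsBound
import Cfsg.Agent.Lib.RankTwo.HeisModel
import Cfsg.Agent.Lib.RankTwoModel.Comps

/-!
# No odd subgroup of the core is centralised by a cover

`K` quasisimple with a Heisenberg subgroup at `z` and containing a perfect subgroup of `C(z)` around `z`: no
non-trivial abelian subgroup of `O(C(z))` commutes with `K`.

Blueprint: `blueprint/RankTwo.md` (P7).
-/

set_option autoImplicit false
set_option linter.unusedSectionVars false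
set_option linter.style.haveILetI false

namespace CfsgLib.RankTwoModel

open Cfsg CfsgLib.CharTheory CfsgLib.RankTwo CfsgLib.BG
open scoped ComplexConjugate

universe u

variable {G : Type u} [Group G] [Fintype G]

theorem odd_of_perfect {P : Type u} [Group P] [Finite P] [Group.IsPerfect P] (M : Subgroup P) [M.Normal]
    (h : ∀ y : P, ¬ 2 ∣ orderOf y → y ∈ M) : M = ⊤ := by
  haveI : Fact (Nat.Prime 2) := ⟨Nat.prime_two⟩
  have h2 : IsPGroup 2 (P ⧸ M) := by
    intro x
    obtain ⟨x, rfl⟩ := QuotientGroup.mk'_surjective M x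
    obtain ⟨k, m, hm, he⟩ := Nat.exists_eq_two_pow_mul_odd (orderOf_pos x).ne'
    refine ⟨k, ?_⟩
    rw [← map_pow]
    refine (QuotientGroup.eq_one_iff _).2 (h _ fun hd => ?_)
    rw [orderOf_pow' _ (pow_ne_zero k two_ne_zero), he, Nat.gcd_mul_right_left, Nat.mul_div_cancel_left _ (by positivity)] at hd
    exact Nat.not_even_iff_odd.2 hm (even_iff_two_dvd.2 hd)
  haveI : Group.IsPerfect (P ⧸ M) :=
    Group.IsPerfect.ofSurjective (f := QuotientGroup.mk' M) (QuotientGroup.mk'_surjective M)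
  haveI : Group.IsNilpotent (P ⧸ M) := h2.isNilpotent
  by_contra hne
  haveI : Nontrivial (P ⧸ M) := QuotientGroup.nontrivial_iff.2 hne
  exact (Group.IsSolvable.commutator_lt_top_of_nontrivial (P ⧸ M)).ne Group.IsPerfect.commutator_eq_top

/-- **No central odd subgroup.** -/
theorem central_false {z : G} {q : ℕ} (S : SmallCharM z q) (hz : orderOf z = 2) (hodd : Odd q) (hq5 : 5 ≤ q)
    {P : Subgroup G} [Group.IsPerfect P] (hPC : P ≤ Subgroup.centralizer ({z} : Set G)) (hzP : z ∈ P)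
    {K : Subgroup G} (hPK : P ≤ K) (hK : IsQuasisimple K) (HK : HeisZ K ⟨z, hPK hzP⟩ q)
    {A : Subgroup G} (hA : A ≠ ⊥) (hAc : ∀ a ∈ A, ∀ b ∈ A, a * b = b * a) (hAK : ∀ a ∈ A, ∀ k ∈ K, a * k = k * a)
    (hAO : A ≤ CfsgLib.GW.coreC z) : False := by
  classical
  letI : Fintype A := Fintype.ofFinite _
  letI : Fintype K := Fintype.ofFinite _
  haveI := (finite_hom_units A ℂ).1
  letI := Fintype.ofFinite (A →* ℂˣ)
  haveI : Fact (Nat.Prime 2) := ⟨Nat.prime_two⟩
  have hAc' : ∀ a b : A, a * b = b * a := fun a b => Subtype.ext (hAc a a.2 b b.2)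
  have hzz : z * z = 1 := invol_mul_self hz
  set zK : K := ⟨z, hPK hzP⟩ with hzK
  have hzzK : zK * zK = 1 := Subtype.ext hzz
  have hχ := isCharacter_of_irr S.irr
  obtain ⟨H, hcent, hinv⟩ := HK
  set C := Subgroup.centralizer ({z} : Set G)
  -- values on the cosets
  have hconst : ∀ y : G, y ∈ C → y ∈ K → ¬ 2 ∣ orderOf y → ∀ c : A, S.χ (z * y * c) = S.χ (z * y) := by
    intro y hyC hyK hy c
    obtain ⟨o, ho, hoc⟩ := hAO c.2
    have h := S.zconst ⟨y, hyC⟩ o ho (Subtype.ext (by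
      show y * (o : G) = (o : G) * y
      rw [show (o : G) = c from hoc]
      exact (hAK c c.2 y hyK).symm)) (by rwa [Subgroup.orderOf_mk])
    rw [show ((⟨y, hyC⟩ * o : C) : G) = y * c by rw [Subgroup.coe_mul]; exact congrArg _ hoc, ← mul_assoc] at h
    exact h
  have hRC : ∀ r : K, r ∈ H.R → (r : G) ∈ C ∧ ¬ 2 ∣ orderOf (r : G) := by
    intro r hr
    refine ⟨Subgroup.mem_centralizer_singleton_iff.2 ?_, fun h2 => ?_⟩
    · exact (mul_inv_eq_iff_eq_mul.1 (congrArg Subtype.val (H.zR r hr) : z * (r : G) * z⁻¹ = r)).symm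
    · have h3 := h2.trans (dvd_of_eq (Subgroup.orderOf_coe r))
      have h4 := h3.trans (Subgroup.orderOf_dvd_natCard _ hr)
      rw [H.cardR] at h4
      exact Nat.not_even_iff_odd.2 hodd (even_iff_two_dvd.2 h4)
  have hn : ∀ μ : A →* ℂˣ, ∀ k ∈ K, ∀ c : A, ∃ c' : A, (c' : G) = k * c * k⁻¹ ∧ μ c' = μ c :=
    fun μ k hk c => ⟨c, by rw [← hAK c c.2 k hk, mul_inv_cancel_right], rfl⟩
  have hzero : ∀ μ : A →* ℂˣ, μ ≠ 1 → ∀ y : G, y ∈ C → y ∈ K → ¬ 2 ∣ orderOf y → part S.χ μ (z * y) = 0 :=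
    fun μ hμ y hyC hyK hy => part_zero_of_const μ hμ (hconst y hyC hyK hy)
  -- kernels of parts
  have hRnc : ¬ H.R ≤ Subgroup.center K := by
    intro hle
    obtain ⟨r, hr, hr1⟩ := (Subgroup.bot_or_exists_ne_one H.R).resolve_left (H.R_ne_bot (by omega))
    have hT : 2 ≤ H.T.card := by have := H.cardT; omega
    obtain ⟨t, ht, t', ht', hne⟩ := Finset.one_lt_card.1 hT
    exact H.Tfree t ht t' ht' hne r hr hr1 (by
      rw [Subgroup.mem_center_iff.1 (hle hr) t, Subgroup.mem_center_iff.1 (hle hr) t', mul_inv_cancel_right,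
        mul_inv_cancel_right])
  have hker : ∀ μ : A →* ℂˣ, (∀ r ∈ H.R, part S.χ μ ((r : K) : G) = part S.χ μ 1) →
      ∀ k : K, part S.χ μ (k : G) = part S.χ μ 1 := by
    intro μ hμ k
    obtain ⟨hF, -⟩ := isCharacter_part μ hχ K (hn μ)
    haveI := charKernel_normal (fun k : K => part S.χ μ (k : G)) hF
    rcases quasisimple_normal_le_center_or_eq_top hK (charKernel (fun k : K => part S.χ μ (k : G)) hF) with e | e
    · exact absurd (fun r hr => e ((mem_charKernel hF r).2 (hμ r hr))) hRnc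
    · exact (mem_charKernel hF k).1 (e ▸ Subgroup.mem_top k)
  -- the non-trivial parts
  have hbig : ∀ μ : A →* ℂˣ, μ ≠ 1 → wgt S.χ μ ≠ 0 → 2 * q * (q - 1) ≤ wgt S.χ μ := by
    intro μ hμ hw
    obtain ⟨hF, -⟩ := isCharacter_part μ hχ K (hn μ)
    refine H.parts_bound hzzK hodd hinv hcent hF (fun r hr => ?_) ?_ (part_eq_wgt μ hχ)
    · exact hzero μ hμ r (hRC r hr).1 r.2 (hRC r hr).2
    · by_contra hno
      push Not at hno
      refine hw ?_
      have h1 := hker μ hno zK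
      rw [show ((zK : K) : G) = z * 1 from (mul_one z).symm,
        hzero μ hμ 1 (one_mem C) (one_mem K) (by simp), part_eq_wgt μ hχ] at h1
      exact_mod_cast h1.symm
  obtain ⟨μ, hμ, hw⟩ : ∃ μ : A →* ℂˣ, μ ≠ 1 ∧ wgt S.χ μ ≠ 0 := by
    by_contra hno
    push Not at hno
    obtain ⟨a, ha, ha1⟩ := (Subgroup.bot_or_exists_ne_one A).resolve_left hA
    refine S.faithful a ha1 ?_
    rw [← sum_part (χ := S.χ) hAc' a, ← sum_part (χ := S.χ) hAc' 1]
    refine Finset.sum_congr rfl fun μ _ => ?_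
    conv_lhs => rw [show a = 1 * ((⟨a, ha⟩ : A) : G) from (one_mul _).symm]
    rw [part_mul_mem]
    by_cases hμ : μ = 1
    · subst hμ; simp
    · rw [part_eq_wgt μ hχ, hno μ hμ]; simp
  -- the trivial part
  have hv1 : ∀ y : G, y ∈ C → y ∈ K → ¬ 2 ∣ orderOf y → S.χ (z * y) = part S.χ (1 : A →* ℂˣ) (z * y) := by
    intro y hyC hyK hy
    rw [← sum_part (χ := S.χ) hAc' (z * y)]
    exact Finset.sum_eq_single 1 (fun ν _ hν => hzero ν hν y hyC hyK hy) fun h => absurd (Finset.mem_univ _) h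
  have hone : q * (q - 1) ≤ wgt S.χ (1 : A →* ℂˣ) := by
    obtain ⟨hF, -⟩ := isCharacter_part (1 : A →* ℂˣ) hχ K (hn 1)
    obtain ⟨n, ρ, hρ⟩ := hF
    have hval : ∀ k : K, part S.χ (1 : A →* ℂˣ) (k : G) = ρ.character k := fun k => (congrFun hρ k).symm
    have hrank : n = wgt S.χ (1 : A →* ℂˣ) := by
      have h1 := (hval 1).symm.trans (part_eq_wgt (1 : A →* ℂˣ) hχ)
      rw [Representation.char_one, Module.finrank_fin_fun] at h1
      exact_mod_cast h1
    rw [← hrank, ← Module.finrank_fin_fun (R := ℂ) (n := n)]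
    refine H.linear_bound (by omega) (Nat.cast_ne_zero.2 (by omega)) ρ ?_
    by_contra hno
    push Not at hno
    have htriv := hker 1 fun r hr => by
      rw [hval r, show ((1 : G)) = ((1 : K) : G) from rfl, hval 1]
      show LinearMap.trace ℂ _ (ρ r) = LinearMap.trace ℂ _ (ρ 1)
      rw [hno r hr, MonoidHom.map_one]
    obtain ⟨N, hN, hNab, hmov⟩ := S.moved
    have hwv : part S.χ (1 : A →* ℂˣ) 1 = (S.v : ℂ) := by
      rw [← htriv zK]
      refine part_one_of_const fun c => ?_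
      obtain ⟨o, ho, hoc⟩ := hAO c.2
      show S.χ (z * c) = _
      rw [← show (o : G) = c from hoc]
      exact S.const o ho
    haveI : ((N.comap (Subgroup.inclusion hPC))).Normal := inferInstance
    have htop : N.comap (Subgroup.inclusion hPC) = ⊤ := odd_of_perfect _ fun y hy => by
      refine hmov _ ?_ ?_
      · rwa [orderOf_injective _ (Subgroup.inclusion_injective hPC)]
      · show S.χ (z * (y : G)) = _
        rw [hv1 y (hPC y.2) (hPK y.2) (by rwa [Subgroup.orderOf_coe]), ← hwv]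
        exact htriv ⟨z * y, mul_mem (hPK hzP) (hPK y.2)⟩
    obtain ⟨T, hTP, hT, hTna⟩ := exists_nonabelian_two (L := P) (w := ⟨z, hzP⟩)
      (Subgroup.mem_center_iff.2 fun x => Subtype.ext (Subgroup.mem_centralizer_singleton_iff.1 (hPC x.2)))
      (by rw [Subgroup.orderOf_mk]; exact hz)
    refine hTna ⟨⟨fun a b => Subtype.ext ?_⟩⟩
    show (a : G) * b = b * a
    exact congrArg Subtype.val (hNab (T.subgroupOf C)
      (fun x hx => by
        have h1 : (⟨(x : G), hTP hx⟩ : P) ∈ N.comap (Subgroup.inclusion hPC) := htop ▸ Subgroup.mem_top _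
        exact h1)
      (hT.comap_of_injective _ C.subtype_injective) ⟨a, hPC (hTP a.2)⟩ a.2 ⟨b, hPC (hTP b.2)⟩ b.2 :)
  -- the count
  have hsum := sum_wgt hχ hAc' S.deg
  have h2 : wgt S.χ (1 : A →* ℂˣ) + wgt S.χ μ ≤ S.d := by
    rw [← hsum, ← Finset.sum_pair (Ne.symm hμ)]
    exact Finset.sum_le_sum_of_subset (Finset.subset_univ _)
  have h3 := hbig μ hμ hw
  have h4 : (3 : ℤ) * ((q : ℤ) * ((q : ℤ) - 1)) ≤ (S.d : ℤ) := by
    have h5 : 3 * (q * (q - 1)) ≤ S.d := by
      rw [mul_assoc] at h3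
      omega
    have h6 : ((3 * (q * (q - 1)) : ℕ) : ℤ) ≤ (S.d : ℤ) := Int.ofNat_le.2 h5
    push_cast [Nat.cast_sub (show 1 ≤ q by omega)] at h6
    exact h6
  have h5 := S.small
  have h6 := S.vle
  have h7 : (5 : ℤ) ≤ (q : ℤ) := by exact_mod_cast hq5
  nlinarith

end CfsgLib.RankTwoModel
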