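import Cfsg.Agent.Lib.CharTheory.Irr
import Cfsg.Agent.Lib.CharTheory.Integral
import Cfsg.Agent.Lib.CharTheory.CyclicTI2

/-!
# The part of a character over a linear character of a subgroup

`part χ μ g` is the trace of `g` times the projection to the `μ`-eigenspace of the subgroup.
-/

set_option autoImplicit false
set_option linter.unusedSectionVars false
set_option linter.style.haveILetI false

namespace CfsgLib.RankTwo

open Cfsg CfsgLib.CharTheory
open scoped ComplexConjugate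

universe u

variable {X : Type u} [Group X] [Fintype X]

/-- The part of a class function over a linear character. -/
noncomputable def part (χ : X → ℂ) {Z : Subgroup X} [Fintype Z] (μ : ↥Z →* ℂˣ) (g : X) : ℂ :=
  (Nat.card Z : ℂ)⁻¹ * ∑ c : Z, (((μ c)⁻¹ : ℂˣ) : ℂ) * χ (g * c)

/-- The multiplicity of a linear character. -/
noncomputable def wgt (χ : X → ℂ) {Z : Subgroup X} [Fintype Z] (μ : ↥Z →* ℂˣ) : ℕ :=
  ⌊(part χ μ 1).re⌋₊

variable {χ : X → ℂ} {Z : Subgroup X} [Fintype Z] (μ : ↥Z →* ℂˣ)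

theorem natCast_card_ne_zero : (Nat.card Z : ℂ) ≠ 0 := Nat.cast_ne_zero.2 Nat.card_pos.ne'

theorem part_mul_mem (g : X) (c₀ : Z) : part χ μ (g * c₀) = (μ c₀ : ℂ) * part χ μ g := by
  rw [part, part, mul_left_comm, Finset.mul_sum]
  rw [Finset.mul_sum, ← Equiv.sum_comp (Equiv.mulLeft c₀⁻¹)]
  rw [← Finset.mul_sum]
  congr 1
  refine Finset.sum_congr rfl fun c _ => ?_
  simp only [Equiv.coe_mulLeft, map_mul, map_inv, mul_inv_rev, inv_inv, Subgroup.coe_mul, Subgroup.coe_inv,
    mul_assoc, mul_inv_cancel_left, Units.val_mul]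
  ring

theorem part_conj (hχ : IsClassFunction X χ) (ν : ↥Z →* ℂˣ) (x g : X) (σ : Z ≃ Z)
    (hσ : ∀ c : Z, ((σ c : Z) : X) = x * c * x⁻¹) (hν : ∀ c, ν (σ c) = μ c) :
    part χ ν (x * g * x⁻¹) = part χ μ g := by
  rw [part, part, ← Equiv.sum_comp σ]
  congr 1
  refine Finset.sum_congr rfl fun c _ => ?_
  rw [hν, hσ, show x * g * x⁻¹ * (x * (c : X) * x⁻¹) = x * (g * c) * x⁻¹ by group, hχ]

theorem sum_part [Fintype (↥Z →* ℂˣ)] (hc : ∀ a b : Z, a * b = b * a) (g : X) :
    ∑ ν : ↥Z →* ℂˣ, part χ ν g = χ g := by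
  classical
  simp only [part]
  rw [← Finset.mul_sum, Finset.sum_comm]
  have h : ∀ c : Z, ∑ ν : ↥Z →* ℂˣ, (((ν c)⁻¹ : ℂˣ) : ℂ) * χ (g * c) =
      if c = 1 then (Nat.card Z : ℂ) * χ g else 0 := by
    intro c
    rw [← Finset.sum_mul]
    simp only [← map_inv]
    rw [sum_hom_abelian hc c⁻¹]
    by_cases e : c = 1
    · subst e; simp
    · simp [e]
  rw [Finset.sum_congr rfl fun c _ => h c, Finset.sum_ite_eq' Finset.univ (1 : Z), if_pos (Finset.mem_univ _),
    inv_mul_cancel_left₀ natCast_card_ne_zero]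

theorem part_one_of_const {g : X} {v : ℂ} (h : ∀ c : Z, χ (g * c) = v) : part χ (1 : ↥Z →* ℂˣ) g = v := by
  simp only [part, MonoidHom.one_apply, inv_one, Units.val_one, one_mul, h, Finset.sum_const, nsmul_eq_mul,
    Finset.card_univ, ← Nat.card_eq_fintype_card]
  rw [inv_mul_cancel_left₀ natCast_card_ne_zero]

theorem part_zero_of_const {g : X} {v : ℂ} (hμ : μ ≠ 1) (h : ∀ c : Z, χ (g * c) = v) : part χ μ g = 0 := by
  obtain ⟨c₀, hc₀⟩ := DFunLike.ne_iff.1 hμ
  have h1 : ((μ c₀ : ℂˣ) : ℂ) ≠ 1 := fun e => hc₀ (Units.val_inj.1 (by simpa using e))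
  have h2 := part_mul_mem (χ := χ) μ g c₀
  have h3 : part χ μ (g * c₀) = part χ μ g := by
    simp only [part, mul_assoc g]
    congr 1
    refine Finset.sum_congr rfl fun c _ => ?_
    rw [h c, show g * ((c₀ : X) * c) = g * ((c₀ * c : Z) : X) from rfl, h]
  rw [h3] at h2
  by_contra h0
  exact h1 (mul_right_cancel₀ h0 (by rw [← h2, one_mul]))

theorem trace_idem {W : Type*} [AddCommGroup W] [Module ℂ W] [FiniteDimensional ℂ W] (P : W →ₗ[ℂ] W)
    (hP : ∀ x, P (P x) = P x) : LinearMap.trace ℂ W P = (Module.finrank ℂ (LinearMap.range P) : ℂ) :=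
  LinearMap.IsProj.trace ⟨fun x => LinearMap.mem_range_self P x, fun _ ⟨y, hy⟩ => hy ▸ hP y⟩

/-- The part is a character of every subgroup fixing the linear character, of at most the same degree. -/
theorem isCharacter_part (hχ : IsCharacter X χ) (H : Subgroup X)
    (hn : ∀ h ∈ H, ∀ c : Z, ∃ c' : Z, (c' : X) = h * c * h⁻¹ ∧ μ c' = μ c) :
    IsCharacter H (fun h => part χ μ h) ∧ ∃ m d : ℕ, part χ μ 1 = (m : ℂ) ∧ χ 1 = (d : ℂ) ∧ m ≤ d := by
  classical
  obtain ⟨n, ρ, rfl⟩ := hχ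
  set e : (Fin n → ℂ) →ₗ[ℂ] (Fin n → ℂ) :=
    (Nat.card Z : ℂ)⁻¹ • ∑ c : Z, (((μ c)⁻¹ : ℂˣ) : ℂ) • ρ (c : X) with he
  have hright : ∀ c₀ : Z, e * ρ (c₀ : X) = (μ c₀ : ℂ) • e := by
    intro c₀
    rw [he, smul_mul_assoc, smul_comm (μ c₀ : ℂ), Finset.sum_mul, Finset.smul_sum (r := (μ c₀ : ℂ))]
    congr 1
    refine Finset.sum_bij (fun c _ => c * c₀) (fun _ _ => Finset.mem_univ _)
      (fun _ _ _ _ h => mul_right_cancel h) (fun b _ => ⟨b * c₀⁻¹, Finset.mem_univ _, by simp⟩) fun c _ => ?_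
    rw [smul_mul_assoc, ← map_mul, smul_smul, map_mul μ, mul_inv_rev, Units.val_mul, ← mul_assoc,
      ← Units.val_mul, mul_inv_cancel, Units.val_one, one_mul, Subgroup.coe_mul]
  have hidem : e * e = e := by
    conv_lhs => arg 2; rw [he]
    rw [mul_smul_comm, Finset.mul_sum]
    have : ∀ c : Z, e * ((((μ c)⁻¹ : ℂˣ) : ℂ) • ρ (c : X)) = e := by
      intro c
      rw [mul_smul_comm, hright, smul_smul, ← Units.val_mul, inv_mul_cancel, Units.val_one, one_smul]
    rw [Finset.sum_congr rfl fun c _ => this c, Finset.sum_const, Finset.card_univ, ← Nat.card_eq_fintype_card,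
      ← Nat.cast_smul_eq_nsmul ℂ, smul_smul, inv_mul_cancel₀ natCast_card_ne_zero, one_smul]
  have hcomm : ∀ h ∈ H, ρ h * e = e * ρ h := by
    intro h hh
    choose c' hc' hμc' using hn h hh
    have hinj : Function.Injective c' := fun a b hab => Subtype.ext (by
      have := congrArg Subtype.val hab
      rw [hc', hc'] at this
      simpa using this)
    rw [he, mul_smul_comm, smul_mul_assoc, Finset.mul_sum, Finset.sum_mul]
    congr 1
    refine Finset.sum_bij (fun c _ => c' c) (fun _ _ => Finset.mem_univ _) (fun _ _ _ _ h => hinj h)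
      (fun b _ => ?_) fun c _ => ?_
    · obtain ⟨a, ha⟩ := (Finite.injective_iff_surjective.1 hinj) b
      exact ⟨a, Finset.mem_univ _, ha⟩
    · rw [mul_smul_comm, smul_mul_assoc, ← map_mul, ← map_mul, hμc', hc', inv_mul_cancel_right]
  have htrace : ∀ g : X, LinearMap.trace ℂ (Fin n → ℂ) (ρ g * e) = part ρ.character μ g := by
    intro g
    rw [he, mul_smul_comm, Finset.mul_sum, map_smul, map_sum, part, smul_eq_mul]
    congr 1
    refine Finset.sum_congr rfl fun c _ => ?_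
    rw [mul_smul_comm, map_smul, ← map_mul, smul_eq_mul]
    rfl
  set W := LinearMap.range e with hW
  have hfix : ∀ x ∈ W, e x = x := by
    rintro _ ⟨y, rfl⟩
    exact LinearMap.congr_fun hidem y
  have hinv : ∀ h : H, ∀ x ∈ W, ρ (h : X) x ∈ W := fun h x hx =>
    ⟨ρ (h : X) x, by
      rw [← Module.End.mul_apply, ← hcomm h h.2, Module.End.mul_apply, hfix x hx]⟩
  let σ : Representation ℂ H W :=
    { toFun := fun h => (ρ (h : X)).restrict (hinv h)
      map_one' := LinearMap.ext fun x => Subtype.ext (by simp [LinearMap.restrict_apply])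
      map_mul' := fun a b => LinearMap.ext fun x => Subtype.ext (by simp [LinearMap.restrict_apply]) }
  have hσ : σ.character = fun h : H => part ρ.character μ h := by
    funext h
    have hmem : ∀ x, (ρ (h : X) * e) x ∈ W := fun x => by
      rw [Module.End.mul_apply]; exact hinv h _ (LinearMap.mem_range_self e x)
    rw [← htrace, ← LinearMap.trace_restrict_eq_of_forall_mem W _ hmem]
    show LinearMap.trace ℂ W ((ρ (h : X)).restrict (hinv h)) = _
    congr 1
    refine LinearMap.ext fun x => Subtype.ext ?_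
    simp only [LinearMap.restrict_apply, Module.End.mul_apply, hfix x x.2]
  refine ⟨hσ ▸ isCharacter_character σ, Module.finrank ℂ W, n, ?_, ?_, ?_⟩
  · rw [← htrace, map_one, one_mul]
    exact trace_idem e fun x => LinearMap.congr_fun hidem x
  · rw [Representation.char_one, Module.finrank_fin_fun]
  · exact (Submodule.finrank_le W).trans (by rw [Module.finrank_fin_fun])

theorem part_eq_wgt (hχ : IsCharacter X χ) : part χ μ 1 = (wgt χ μ : ℂ) := by
  obtain ⟨-, m, d, hm, -, -⟩ := isCharacter_part μ hχ ⊥ fun h hh c => ⟨c, by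
    rw [Subgroup.mem_bot.1 hh]; simp, rfl⟩
  simp [wgt, hm]

theorem wgt_le (hχ : IsCharacter X χ) {d : ℕ} (hd : χ 1 = (d : ℂ)) : wgt χ μ ≤ d := by
  obtain ⟨-, m, d', hm, hd', hle⟩ := isCharacter_part μ hχ ⊥ fun h hh c => ⟨c, by
    rw [Subgroup.mem_bot.1 hh]; simp, rfl⟩
  have h1 : d = d' := by exact_mod_cast hd.symm.trans hd'
  simp [wgt, hm, h1, hle]

/-- The values of a character at an involution and at `1`. -/
theorem char_involution {H : Type u} [Group H] {F : H → ℂ} (hF : IsCharacter H F) {z : H} (hz : z * z = 1) :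
    ∃ a b : ℕ, F 1 = (a : ℂ) + b ∧ F z = (a : ℂ) - b := by
  obtain ⟨n, ρ, rfl⟩ := hF
  have hzz : ∀ x, ρ z (ρ z x) = x := fun x => by
    rw [← Module.End.mul_apply, ← map_mul, hz, map_one, Module.End.one_apply]
  have key : ∀ s : ℂ, s * s = 1 → ∃ a : ℕ, (1 / 2 : ℂ) * (n + s * ρ.character z) = a := by
    intro s hs
    set P : (Fin n → ℂ) →ₗ[ℂ] (Fin n → ℂ) := (1 / 2 : ℂ) • (1 + s • ρ z)
    refine ⟨_, Eq.trans ?_ (trace_idem P fun x => ?_)⟩
    · rw [map_smul, map_add, map_smul, LinearMap.trace_one, Module.finrank_fin_fun]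
      rfl
    · simp only [P, LinearMap.smul_apply, LinearMap.add_apply, Module.End.one_apply, map_add, map_smul,
        smul_add, smul_smul, hzz]
      linear_combination (norm := module) ((1 / 4 : ℂ) * hs) • x
  obtain ⟨a, ha⟩ := key 1 (one_mul 1)
  obtain ⟨b, hb⟩ := key (-1) (by ring)
  exact ⟨a, b, by rw [Representation.char_one, Module.finrank_fin_fun]; linear_combination ha + hb,
    by linear_combination ha - hb⟩

/-- A linear character fixed by an involution splits its multiplicity. -/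
theorem part_involution (hχ : IsCharacter X χ) {z : X} (hz : z * z = 1)
    (hn : ∀ c : Z, ∃ c' : Z, (c' : X) = z * c * z⁻¹ ∧ μ c' = μ c) :
    ∃ a b : ℕ, wgt χ μ = a + b ∧ part χ μ z = (a : ℂ) - b := by
  have hzi : z⁻¹ = z := inv_eq_of_mul_eq_one_right hz
  obtain ⟨hF, -⟩ := isCharacter_part μ hχ (Subgroup.zpowers z) fun h hh c => by
    obtain ⟨k, rfl⟩ := Subgroup.mem_zpowers_iff.1 hh
    rcases Int.even_or_odd k with ⟨j, rfl⟩ | ⟨j, rfl⟩
    · refine ⟨c, ?_, rfl⟩
      rw [← two_mul, zpow_mul, zpow_two, hz, one_zpow]; simp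
    · rw [zpow_add, zpow_mul, zpow_two, hz, one_zpow, one_mul, zpow_one]
      exact hn c
  obtain ⟨a, b, h1, h2⟩ := char_involution hF (z := ⟨z, Subgroup.mem_zpowers z⟩) (Subtype.ext hz)
  refine ⟨a, b, ?_, h2⟩
  have : (wgt χ μ : ℂ) = ((a + b : ℕ) : ℂ) := by
    push_cast
    rw [← part_eq_wgt μ hχ, ← h1]
    rfl
  exact_mod_cast this

end CfsgLib.RankTwo
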