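import Cfsg.Agent.Lib.SmallElements
import Cfsg.Agent.Lib.PSolvable
import Cfsg.Agent.Lib.Basic

/-!
# A perfect group of automorphisms of a solvable group

It is trivial as soon as it fixes every invariant normal abelian `r`-subgroup and every invariant normal `r`-subgroup of
class two whose centre it fixes.
-/

set_option autoImplicit false
set_option linter.unusedSectionVars false
set_option linter.style.haveILetI false

namespace CfsgLib.RankTwo

open Cfsg CfsgLib
open scoped commutatorElement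

universe u v

theorem range_perfect {K : Type u} [Group K] {M : Type v} [Group M] (hK : commutator K = ⊤) (f : K →* M) :
    commutator f.range = ⊤ := by
  have h := congrArg (Subgroup.map f.rangeRestrict) hK
  rw [Subgroup.map_top_of_surjective _ f.rangeRestrict_surjective, commutator_def, Subgroup.map_commutator,
    Subgroup.map_top_of_surjective _ f.rangeRestrict_surjective, ← commutator_def] at h
  exact h

/-- A perfect group has only trivial homomorphisms into solvable images. -/
theorem hom_trivial_of_solvable_range {K : Type u} [Group K] {M : Type v} [Group M] [Finite M]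
    (hK : commutator K = ⊤) (f : K →* M) (hs : Group.IsSolvable f.range) (k : K) : f k = 1 := by
  by_contra h
  haveI : Nontrivial f.range := ⟨⟨⟨f k, k, rfl⟩, 1, fun e => h (congrArg Subtype.val e)⟩⟩
  exact absurd (range_perfect hK f) (Group.IsSolvable.commutator_lt_top_of_nontrivial f.range).ne

/-- A perfect group has only trivial homomorphisms into commutative images. -/
theorem hom_trivial_of_comm {K : Type u} [Group K] {M : Type v} [Group M]
    (hK : commutator K = ⊤) (f : K →* M) (hc : ∀ a b : K, f a * f b = f b * f a) (k : K) : f k = 1 := by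
  have hle : commutator K ≤ f.ker := by
    rw [commutator_eq_closure, Subgroup.closure_le]
    rintro _ ⟨a, b, rfl⟩
    rw [SetLike.mem_coe, MonoidHom.mem_ker, map_commutatorElement, commutatorElement_eq_one_iff_mul_comm]
    exact hc a b
  exact MonoidHom.mem_ker.1 (hle (hK ▸ Subgroup.mem_top k))

variable {K : Type u} [Group K] {N : Type v} [Group N] [Finite N] (φ : K →* MulAut N)

/-- The action on an invariant subgroup. -/
noncomputable def restrictAut (E : Subgroup N) (hE : ∀ k, ∀ x ∈ E, φ k x ∈ E) : K →* MulAut E where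
  toFun k :=
    { toFun := fun x => ⟨φ k x, hE k x x.2⟩
      invFun := fun x => ⟨φ k⁻¹ x, hE k⁻¹ x x.2⟩
      left_inv := fun x => Subtype.ext (show φ k⁻¹ (φ k (x : N)) = x by rw [map_inv]; exact (φ k).symm_apply_apply _)
      right_inv := fun x => Subtype.ext (show φ k (φ k⁻¹ (x : N)) = x by rw [map_inv]; exact (φ k).apply_symm_apply _)
      map_mul' := fun a b => Subtype.ext (map_mul (φ k) (a : N) (b : N)) }
  map_one' := MulEquiv.ext fun x => Subtype.ext (by simp)
  map_mul' a b := MulEquiv.ext fun x => Subtype.ext (by simp)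

theorem restrictAut_apply (E : Subgroup N) (hE : ∀ k, ∀ x ∈ E, φ k x ∈ E) (k : K) (x : E) :
    ((restrictAut φ E hE k x : E) : N) = φ k x := rfl

/-- The criterion. -/
theorem fixed_of_criterion [Group.IsSolvable N] (hK : commutator K = ⊤)
    (hA : ∀ (r : ℕ) [Fact r.Prime] (A : Subgroup N), A.Normal → (∀ k, ∀ x ∈ A, φ k x ∈ A) → IsPGroup r A →
      (∀ x ∈ A, ∀ y ∈ A, x * y = y * x) → ∀ k, ∀ x ∈ A, φ k x = x)
    (hE : ∀ (r : ℕ) [Fact r.Prime] (E : Subgroup N), E.Normal → (∀ k, ∀ x ∈ E, φ k x ∈ E) → IsPGroup r E →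
      (∀ x ∈ E, ∀ y ∈ E, ∀ w ∈ E, x * y * x⁻¹ * y⁻¹ * w = w * (x * y * x⁻¹ * y⁻¹)) →
      (∀ k, ∀ x ∈ E, (∀ y ∈ E, x * y = y * x) → φ k x = x) → ∀ k, ∀ x ∈ E, φ k x = x)
    (k : K) (n : N) : φ k n = n := by
  classical
  have hcore : ∀ r : ℕ, r.Prime → ∀ k : K, ∀ x ∈ pCore r N, φ k x = x := by
    intro r hr
    haveI := Fact.mk hr
    set R := pCore r N with hR
    have hRp : IsPGroup r R := isPGroup_pCore r
    have hRinv : ∀ k, ∀ x ∈ R, φ k x ∈ R := fun k x hx => Small.apply_mem_of_char (φ k) hx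
    obtain ⟨C, hCc, hcom, hpow, hcen⟩ := Small.exists_critical (p := r) hRp
    haveI := hCc
    set E := C.map R.subtype with hEdef
    haveI hRn : R.Normal := inferInstance
    haveI hEn : E.Normal := inferInstance
    have hEinv : ∀ k, ∀ x ∈ E, φ k x ∈ E := by
      rintro k _ ⟨x, hx, rfl⟩
      exact ⟨restrictAut φ R hRinv k x, Small.apply_mem_of_char _ hx, rfl⟩
    have hEp : IsPGroup r E := (hRp.to_subgroup C).map _
    have hcl : ∀ x ∈ E, ∀ y ∈ E, ∀ w ∈ E, x * y * x⁻¹ * y⁻¹ * w = w * (x * y * x⁻¹ * y⁻¹) := by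
      rintro _ ⟨x, hx, rfl⟩ _ ⟨y, hy, rfl⟩ _ ⟨w, hw, rfl⟩
      have h := (Subgroup.mem_inf.1 (hcom x y hy)).2
      exact congrArg Subtype.val (Subgroup.mem_centralizer_iff.1 h w hw).symm
    have hfixZ : ∀ k, ∀ x ∈ E, (∀ y ∈ E, x * y = y * x) → φ k x = x := by
      intro k x hx hxc
      have hZ : (E ⊓ Subgroup.centralizer (E : Set N)).Normal := inferInstance
      refine hA r (E ⊓ Subgroup.centralizer (E : Set N)) hZ (fun k' y hy => ?_) (hEp.to_le inf_le_left)
        (fun a ha b hb => (Subgroup.mem_centralizer_iff.1 hb.2 a ha.1)) k x ⟨hx, Subgroup.mem_centralizer_iff.2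
          fun y hy => (hxc y hy).symm⟩
      refine ⟨hEinv k' y hy.1, Subgroup.mem_centralizer_iff.2 fun w hw => ?_⟩
      have h1 := Subgroup.mem_centralizer_iff.1 hy.2 (φ k'⁻¹ w) (hEinv _ w hw)
      have h2 := congrArg (φ k') h1
      rwa [map_mul, map_mul, map_inv, MulAut.apply_inv_self] at h2
    have hfixE := hE r E hEn hEinv hEp hcl hfixZ
    intro k x hx
    set ψ := restrictAut φ R hRinv with hψ
    have hψfix : ∀ k, ∀ c ∈ C, ψ k c = c := fun k c hc => Subtype.ext (hfixE k c ⟨c, hc, rfl⟩)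
    have hrange : IsPGroup r ψ.range := by
      intro a
      obtain ⟨m, hm⟩ : ∃ m, (orderOf ((a : MulAut R) ^ r ^ m)).Coprime r := by
        have hpos : 0 < orderOf (a : MulAut R) := orderOf_pos _
        obtain ⟨m, l, hl, he⟩ := Nat.exists_eq_pow_mul_and_not_dvd hpos.ne' r hr.ne_one
        refine ⟨m, ?_⟩
        rw [orderOf_pow' _ (pow_ne_zero _ hr.ne_zero), he, Nat.gcd_eq_right (dvd_mul_right _ _),
          Nat.mul_div_cancel_left _ (pow_pos hr.pos m)]
        exact ((Nat.Prime.coprime_iff_not_dvd hr).2 hl).symm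
      refine ⟨m, Subtype.ext ?_⟩
      obtain ⟨k', hk'⟩ := a.2
      refine Small.eq_one_of_fixes_critical hRp hcom hpow hcen hm fun c hc _ => ?_
      show ((a : MulAut R) ^ r ^ m) c = c
      rw [← hk', ← map_pow]
      exact hψfix _ c hc
    haveI : Group.IsNilpotent ψ.range := hrange.isNilpotent
    exact congrArg Subtype.val (DFunLike.congr_fun (hom_trivial_of_solvable_range hK ψ inferInstance k)
      (⟨x, hx⟩ : R))
  have hF : ∀ k : K, ∀ x ∈ fittingSubgroup N, φ k x = x := by
    intro k
    have hle : fittingSubgroup N ≤ (φ k).toMonoidHom.eqLocus (MonoidHom.id N) := by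
      rw [fittingSubgroup_eq_iSup_pCore]
      exact iSup_le fun q => fun x hx => hcore q q.2 k x hx
    exact fun x hx => hle hx
  -- the displacement of an element
  have hδF : ∀ k, n⁻¹ * φ k n ∈ fittingSubgroup N := by
    intro k
    refine centralizer_fitting_le (Subgroup.mem_centralizer_iff.2 fun f hf => ?_)
    have h1 : φ k (n * f * n⁻¹) = n * f * n⁻¹ := hF k _ ((inferInstance : (fittingSubgroup N).Normal).conj_mem f hf n)
    rw [map_mul, map_mul, hF k f hf, map_inv] at h1
    calc f * (n⁻¹ * φ k n) = n⁻¹ * (n * f * n⁻¹) * φ k n := by group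
      _ = n⁻¹ * (φ k n * f * (φ k n)⁻¹) * φ k n := by rw [h1]
      _ = n⁻¹ * φ k n * f := by group
  let δ : K →* N := MonoidHom.mk' (fun k => n⁻¹ * φ k n) fun a b => by
    have h1 : φ a (n⁻¹ * φ b n) = n⁻¹ * φ b n := hF a _ (hδF b)
    show n⁻¹ * φ (a * b) n = _
    rw [map_mul, MulAut.mul_apply, show φ b n = n * (n⁻¹ * φ b n) by rw [mul_inv_cancel_left], map_mul, h1]
    group
  have hδ := hom_trivial_of_comm hK δ (fun a b => by
    have hzc : ∀ k, δ k ∈ Subgroup.centralizer (fittingSubgroup N : Set N) := fun k =>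
      Subgroup.mem_centralizer_iff.2 fun f hf => by
        have h1 : φ k (n * f * n⁻¹) = n * f * n⁻¹ :=
          hF k _ ((inferInstance : (fittingSubgroup N).Normal).conj_mem f hf n)
        rw [map_mul, map_mul, hF k f hf, map_inv] at h1
        show f * (n⁻¹ * φ k n) = n⁻¹ * φ k n * f
        calc f * (n⁻¹ * φ k n) = n⁻¹ * (n * f * n⁻¹) * φ k n := by group
          _ = n⁻¹ * (φ k n * f * (φ k n)⁻¹) * φ k n := by rw [h1]
          _ = n⁻¹ * φ k n * f := by group
    exact Subgroup.mem_centralizer_iff.1 (hzc b) _ (hδF a)) k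
  have h : n⁻¹ * φ k n = 1 := hδ
  rwa [inv_mul_eq_one, eq_comm] at h

end CfsgLib.RankTwo
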