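import Cfsg.Agent.Lib.RankTwo.SmallModule

/-!
# Small abelian groups acted on by a minimal cover

`small_module_trivial`: a minimal cover acts trivially on an odd abelian `r`-group, `r` prime to `q`, of order below
`4 q ^ 2`.
-/

set_option autoImplicit false
set_option linter.unusedSectionVars false
set_option linter.style.haveILetI false

namespace CfsgLib.RankTwo

universe u v

variable {K : Type u} [Group K] [Finite K] {N : Subgroup K} [N.Normal] {q : ℕ}

/-- The endomorphisms of a finite elementary group as endomorphisms over an algebraically closed field. -/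
theorem exists_matrix_embedding (r : ℕ) [Fact r.Prime] (A : Type*) [AddCommGroup A] [Module (ZMod r) A] [Finite A] :
    ∃ M : Module.End (ZMod r) A →* Module.End (AlgebraicClosure (ZMod r))
      (Fin (Module.finrank (ZMod r) A) → AlgebraicClosure (ZMod r)), Function.Injective M := by
  classical
  haveI : Module.Finite (ZMod r) A := Module.Finite.of_finite
  set F := AlgebraicClosure (ZMod r)
  let b := Module.finBasis (ZMod r) A
  let e₁ := LinearMap.toMatrixAlgEquiv b
  let e₂ := Matrix.toLinAlgEquiv' (R := F) (n := Fin (Module.finrank (ZMod r) A))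
  refine ⟨{ toFun := fun f => e₂ ((algebraMap (ZMod r) F).mapMatrix (e₁ f))
            map_one' := by rw [map_one, map_one, map_one]
            map_mul' := fun f g => by rw [map_mul, map_mul, map_mul] }, fun f g h => ?_⟩
  exact e₁.injective (Matrix.map_injective (algebraMap (ZMod r) F).injective (e₂.injective h))

/-- The case of a module without proper invariant subgroup. -/
theorem irreducible_trivial (c : Cov N q) [Group.IsSolvable N] {r : ℕ} [Fact r.Prime] (hr2 : r ≠ 2)
    (hrq : ¬ r ∣ q) {V : Type v} [CommGroup V] [Finite V] (hV : IsPGroup r V) (hsize : Nat.card V < 4 * q ^ 2)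
    (φ : K →* MulAut V)
    (hirr : ∀ S : Subgroup V, (∀ k, ∀ x ∈ S, φ k x ∈ S) → S = ⊥ ∨ S = ⊤) (k : K) (v : V) : φ k v = v := by
  classical
  have hr : r.Prime := Fact.out
  rcases subsingleton_or_nontrivial V with hs | hn
  · exact Subsingleton.elim _ _
  have hexp : ∀ x : V, x ^ r = 1 := by
    rcases hirr (powMonoidHom r : V →* V).ker (fun k x hx => by
      rw [MonoidHom.mem_ker, powMonoidHom_apply] at hx ⊢
      rw [← map_pow, hx, map_one]) with hb | ht
    · exfalso
      obtain ⟨m, hm⟩ := hV.exists_card_eq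
      have hm0 : m ≠ 0 := fun e => by
        rw [e, pow_zero, Nat.card_eq_one_iff_unique] at hm
        exact not_nontrivial_iff_subsingleton.2 hm.1 hn
      obtain ⟨x, hx⟩ := exists_prime_orderOf_dvd_card' (G := V) r (hm ▸ dvd_pow_self r hm0)
      have hxk : x ∈ (powMonoidHom r : V →* V).ker := by
        rw [MonoidHom.mem_ker, powMonoidHom_apply, ← hx, pow_orderOf_eq_one]
      rw [hb, Subgroup.mem_bot] at hxk
      rw [hxk, orderOf_one] at hx
      exact hr.ne_one hx.symm
    · intro x
      have : x ∈ (powMonoidHom r : V →* V).ker := ht ▸ Subgroup.mem_top x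
      rwa [MonoidHom.mem_ker, powMonoidHom_apply] at this
  obtain ⟨hmod⟩ : Nonempty (Module (ZMod r) (Additive V)) :=
    ⟨AddCommGroup.zmodModule fun x => hexp (Additive.toMul x)⟩
  haveI : Module.Finite (ZMod r) (Additive V) := Module.Finite.of_finite
  set n := Module.finrank (ZMod r) (Additive V) with hn'
  have hcard : Nat.card V = r ^ n := by
    haveI : Fintype (Additive V) := Fintype.ofFinite _
    rw [show Nat.card V = Nat.card (Additive V) from Nat.card_congr Additive.ofMul, Nat.card_eq_fintype_card,
      Module.card_eq_pow_finrank (K := ZMod r), ZMod.card]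
  have hdim : n ^ 2 < q * (q - 1) := by
    refine small_dimension c.q5 (lt_of_le_of_lt (Nat.pow_le_pow_left ?_ n) (hcard ▸ hsize))
    have := hr.two_le; omega
  let F := AlgebraicClosure (ZMod r)
  let ψ : K →* Module.End (ZMod r) (Additive V) :=
    { toFun := fun k => (MonoidHom.toAdditive (φ k).toMonoidHom).toZModLinearMap r
      map_one' := LinearMap.ext fun x => by
        rw [map_one]; exact rfl
      map_mul' := fun a b => LinearMap.ext fun x => by rw [map_mul]; exact rfl }
  obtain ⟨M, hMinj⟩ := exists_matrix_embedding r (Additive V)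
  let ρ : K →* (Module.End F (Fin n → F))ˣ := (M.comp ψ).toHomUnits
  have hρ1 : ∀ k, ρ k = 1 → φ k = 1 := by
    intro k h
    have h1 : ψ k = 1 := hMinj (by rw [map_one]; exact congrArg Units.val h)
    exact MulEquiv.ext fun x => congrArg Additive.toMul (LinearMap.congr_fun h1 (Additive.ofMul x))
  have hqF : (q : F) ≠ 0 := by
    intro h
    haveI : CharP F r := charP_of_injective_algebraMap (algebraMap (ZMod r) F).injective r
    exact hrq ((CharP.cast_eq_zero_iff F r q).1 h)
  haveI : Finite (ρ.comp N.subtype).range := Finite.of_surjective _ (ρ.comp N.subtype).rangeRestrict_surjective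
  have hrank : Module.finrank F (Fin n → F) = n := Module.finrank_fin_fun F
  have hchar : ∀ (s : ℕ) [Fact s.Prime] (A : Subgroup (ρ.comp N.subtype).range), A.Normal →
      (∀ k, ∀ x ∈ A, imageAut N ρ k x ∈ A) → IsPGroup s A → (Nat.card A : F) ≠ 0 := by
    intro s _ A _ hAi hAp hzero
    haveI : CharP F r := charP_of_injective_algebraMap (algebraMap (ZMod r) F).injective r
    have hdvd : r ∣ Nat.card A := (CharP.cast_eq_zero_iff F r _).1 hzero
    obtain ⟨m, hm⟩ := hAp.exists_card_eq
    rw [hm] at hdvd
    have hsr : r = s := (Nat.prime_dvd_prime_iff_eq hr Fact.out).1 (hr.dvd_of_dvd_pow hdvd)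
    subst hsr
    -- the preimage fixes a non-trivial invariant subgroup
    let P : Subgroup N := A.comap (ρ.comp N.subtype).rangeRestrict
    let Sg : Subgroup (MulAut V) := P.map (φ.comp N.subtype)
    have hSg : IsPGroup r Sg := by
      rintro ⟨_, x, hx, rfl⟩
      obtain ⟨a, ha⟩ := hAp ⟨_, hx⟩
      refine ⟨a, Subtype.ext ?_⟩
      show φ (x : K) ^ r ^ a = 1
      rw [← map_pow]
      refine hρ1 _ ?_
      rw [map_pow]
      exact congrArg Subtype.val (congrArg Subtype.val ha)
    let FA : Subgroup V :=
      { carrier := {x | ∀ p : N, p ∈ P → φ (p : K) x = x}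
        one_mem' := fun p _ => map_one _
        mul_mem' := fun {a b} ha hb p hp => by rw [map_mul, ha p hp, hb p hp]
        inv_mem' := fun {a} ha p hp => by rw [map_inv, ha p hp] }
    have hFA : ∀ k, ∀ x ∈ FA, φ k x ∈ FA := by
      intro k x hx p hp
      have hp' : (⟨k⁻¹ * p * k, by
          simpa using Subgroup.Normal.conj_mem inferInstance _ p.2 k⁻¹⟩ : N) ∈ P := by
        have h := hAi k⁻¹ _ hp
        show (ρ.comp N.subtype).rangeRestrict _ ∈ A
        convert h using 1
        apply Subtype.ext
        show ρ (k⁻¹ * p * k) = ρ k⁻¹ * ρ (p : K) * (ρ k⁻¹)⁻¹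
        rw [map_mul, map_mul, map_inv, inv_inv]
      have h := congrArg (φ k) (hx _ hp')
      rwa [← MulAut.mul_apply, ← map_mul, ← mul_assoc, ← mul_assoc, mul_inv_cancel, one_mul, map_mul,
        MulAut.mul_apply] at h
    rcases hirr FA hFA with hb' | ht'
    · have hmod := hSg.card_modEq_card_fixedPoints V
      have hfix : ∀ x : MulAction.fixedPoints Sg V, (x : V) ∈ FA := fun x p hp => x.2 ⟨_, p, hp, rfl⟩
      haveI : Subsingleton (MulAction.fixedPoints Sg V) := ⟨fun a b => Subtype.ext (by
        have ha := hfix a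
        have hb2 := hfix b
        rw [hb', Subgroup.mem_bot] at ha hb2
        rw [ha, hb2])⟩
      have h1 : Nat.card (MulAction.fixedPoints Sg V) = 1 :=
        Nat.card_eq_one_iff_unique.2 ⟨inferInstance, ⟨⟨1, fun g => map_one (g : MulAut V)⟩⟩⟩
      obtain ⟨e, he⟩ := hV.exists_card_eq
      have he0 : e ≠ 0 := fun e0 => by
        rw [e0, pow_zero, Nat.card_eq_one_iff_unique] at he
        exact not_nontrivial_iff_subsingleton.2 he.1 hn
      rw [h1, he, Nat.ModEq, Nat.mod_eq_zero_of_dvd (dvd_pow_self r he0) |> id, Nat.one_mod_eq_one.2 hr.ne_one]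
        at hmod
      exact zero_ne_one hmod
    · have hbot : A = ⊥ := by
        rw [Subgroup.eq_bot_iff_forall]
        rintro ⟨_, p, rfl⟩ hx
        have h1 : φ (p : K) = 1 := MulEquiv.ext fun x => (ht' ▸ Subgroup.mem_top x : x ∈ FA) p hx
        refine Subtype.ext (Units.ext ?_)
        show M (ψ (p : K)) = 1
        have h2 : ψ (p : K) = 1 := LinearMap.ext fun x => congrArg Additive.ofMul (DFunLike.congr_fun h1 (Additive.toMul x))
        rw [h2, map_one]
      rw [hbot, Subgroup.card_bot, Nat.cast_one] at hzero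
      exact one_ne_zero hzero
  exact DFunLike.congr_fun (hρ1 k (linear_cover_trivial c hqF ρ (by rw [hrank]; exact hdim) hchar k)) v

/-- A minimal cover acts trivially on a small odd module of order prime to `q`. -/
theorem small_module_trivial (c : Cov N q) [Group.IsSolvable N] {r : ℕ} [Fact r.Prime] (hr2 : r ≠ 2)
    (hrq : ¬ r ∣ q) : ∀ (m : ℕ) {V : Type v} [CommGroup V] [Finite V], Nat.card V = m → IsPGroup r V →
      m < 4 * q ^ 2 → ∀ (φ : K →* MulAut V) (k : K) (v : V), φ k v = v := by
  intro m
  induction m using Nat.strong_induction_on with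
  | _ m ih =>
    intro V _ _ hm hV hsize φ k v
    classical
    by_cases hirr : ∀ S : Subgroup V, (∀ k, ∀ x ∈ S, φ k x ∈ S) → S = ⊥ ∨ S = ⊤
    · exact irreducible_trivial c hr2 hrq hV (hm ▸ hsize) φ hirr k v
    push Not at hirr
    obtain ⟨S, hSi, hSb, hSt⟩ := hirr
    have hS1 : 1 < Nat.card S := S.one_lt_card_iff_ne_bot.2 hSb
    have hidx : 1 < S.index := S.one_lt_index_of_ne_top hSt
    have hmul := S.card_mul_index
    rw [hm] at hmul
    have hpos : 0 < Nat.card S := Nat.card_pos
    have hlt1 : Nat.card S < m := hmul ▸ lt_mul_of_one_lt_right hpos hidx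
    have hlt2 : Nat.card (V ⧸ S) < m := by
      rw [← Subgroup.index_eq_card]
      exact hmul ▸ lt_mul_of_one_lt_left (by omega) hS1
    set φS := restrictAut φ S hSi with hφS
    have hfixS : ∀ k, ∀ x ∈ S, φ k x = x := fun k x hx =>
      congrArg Subtype.val (ih _ hlt1 rfl (hV.to_subgroup S) (hlt1.trans hsize) φS k ⟨x, hx⟩)
    have hmap : ∀ k, S.map (φ k).toMonoidHom = S := by
      intro k
      refine le_antisymm ?_ fun x hx => ⟨φ k⁻¹ x, hSi _ x hx, by rw [map_inv]; exact (φ k).apply_symm_apply x⟩
      rintro _ ⟨x, hx, rfl⟩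
      exact hSi k x hx
    let φQ : K →* MulAut (V ⧸ S) :=
      { toFun := fun k => QuotientGroup.congr S S (φ k) (hmap k)
        map_one' := MulEquiv.ext fun x => by
          induction x using QuotientGroup.induction_on with
          | H a => simp
        map_mul' := fun a b => MulEquiv.ext fun x => by
          induction x using QuotientGroup.induction_on with
          | H y => simp only [map_mul, MulAut.mul_apply]; exact rfl }
    have hfixQ : ∀ k (x : V), x⁻¹ * φ k x ∈ S := by
      intro k x
      have h := ih _ hlt2 rfl (hV.to_quotient S) (hlt2.trans hsize) φQ k (x : V ⧸ S)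
      have h' : ((φ k x : V) : V ⧸ S) = (x : V ⧸ S) := h
      exact QuotientGroup.eq.1 h'.symm
    let δ : K →* S := MonoidHom.mk' (fun k => ⟨v⁻¹ * φ k v, hfixQ k v⟩) fun a b => Subtype.ext (by
      have h1 : φ a (v⁻¹ * φ b v) = v⁻¹ * φ b v := hfixS a _ (hfixQ b v)
      show v⁻¹ * φ (a * b) v = (v⁻¹ * φ a v) * (v⁻¹ * φ b v)
      rw [map_mul φ, MulAut.mul_apply]
      calc v⁻¹ * φ a (φ b v) = v⁻¹ * φ a v * φ a (v⁻¹ * φ b v) := by rw [map_mul, map_inv]; group
        _ = _ := by rw [h1])
    have h' : v⁻¹ * φ k v = 1 :=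
      congrArg Subtype.val (hom_trivial_of_comm c.commutator_top δ (fun _ _ => mul_comm _ _) k)
    exact (inv_mul_eq_one.1 h').symm

end CfsgLib.RankTwo
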