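import Cfsg.Agent.Lib.RankTwo.Weights
import Cfsg.Agent.Lib.RankTwo.Module
import Cfsg.Agent.Lib.RankTwo.Criterion
import Cfsg.Agent.Lib.CharTheory.More

/-!
# A cover acting on an odd solvable group with small invariant characters

`descent`: if invariant irreducible characters of degree below `2 q` separate the points, the action is trivial.
-/

set_option autoImplicit false
set_option linter.unusedSectionVars false
set_option linter.style.haveILetI false

namespace CfsgLib.RankTwo

open Cfsg CfsgLib.CharTheory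
open scoped ComplexConjugate

universe u v

variable {K : Type v} [Group K] [Finite K] {N0 : Subgroup K} [N0.Normal] {q : ℕ} {N : Type u} [Group N] [Fintype N]

/-- A linear character composed with an automorphism has the same weight. -/
theorem wgt_comp {θ : N → ℂ} {A : Subgroup N} [Fintype A] (σ : A ≃* A) (hσ : ∀ a : A, θ ((σ a : A) : N) = θ a)
    (μ : ↥A →* ℂˣ) : wgt θ (μ.comp σ.toMonoidHom) = wgt θ μ := by
  have h : part θ (μ.comp σ.toMonoidHom) 1 = part θ μ 1 := by
    rw [part, part]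
    congr 1
    refine Fintype.sum_equiv σ.toEquiv _ _ fun a => ?_
    show _ = _ * θ (1 * ((σ a : A) : N))
    rw [one_mul, one_mul, hσ a]
    rfl
  rw [wgt, wgt, h]

/-- A cover centralises a commutative invariant subgroup on which the separating characters are small. -/
theorem abelian_fixed (c : Cov N0 q) (φ : K →* MulAut N) (P : (N → ℂ) → Prop)
    (hP : ∀ θ, P θ → IsCharacter N θ ∧ (∀ k n, θ (φ k n) = θ n) ∧ ∃ t : ℕ, θ 1 = (t : ℂ) ∧ t < 2 * q)
    (hsep : ∀ x : N, (∀ θ, P θ → θ x = θ 1) → x = 1) (A : Subgroup N) (hAi : ∀ k, ∀ x ∈ A, φ k x ∈ A)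
    (hAc : ∀ x ∈ A, ∀ y ∈ A, x * y = y * x) (k : K) {x : N} (hx : x ∈ A) : φ k x = x := by
  classical
  haveI : Fintype A := Fintype.ofFinite _
  haveI := (finite_hom_units A ℂ).1
  haveI : Fintype (↥A →* ℂˣ) := Fintype.ofFinite _
  have hc : ∀ a b : A, a * b = b * a := fun a b => Subtype.ext (hAc a a.2 b b.2)
  set ψ := restrictAut φ A hAi with hψ
  refine mul_inv_eq_one.1 (hsep _ fun θ hθ => ?_)
  obtain ⟨hθc, hθi, t, ht, htq⟩ := hP θ hθ
  have hinvw : ∀ (k : K) (μ : ↥A →* ℂˣ), wgt θ (μ.comp (ψ k).toMonoidHom) = wgt θ μ :=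
    fun k μ => wgt_comp (ψ k) (fun a => hθi k a) μ
  let Ω := {μ : ↥A →* ℂˣ // wgt θ μ ≠ 0}
  letI : MulAction K Ω :=
    { smul := fun k μ => ⟨μ.1.comp (ψ k⁻¹).toMonoidHom, by rw [hinvw]; exact μ.2⟩
      one_smul := fun μ => Subtype.ext (MonoidHom.ext fun a => by
        show μ.1 (ψ 1⁻¹ a) = μ.1 a
        rw [inv_one, map_one, MulAut.one_apply])
      mul_smul := fun a b μ => Subtype.ext (MonoidHom.ext fun y => by
        show μ.1 (ψ (a * b)⁻¹ y) = μ.1 (ψ b⁻¹ (ψ a⁻¹ y))
        rw [mul_inv_rev, map_mul, MulAut.mul_apply]) }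
  have hcard : Nat.card Ω < q ^ 2 := by
    have h1 := sum_wgt (Y := A) hθc hc ht
    have h2 : Nat.card Ω ≤ t := by
      rw [Nat.card_eq_fintype_card, Fintype.card_subtype, ← h1, Finset.card_eq_sum_ones]
      refine le_trans (Finset.sum_le_sum fun μ hμ => Nat.one_le_iff_ne_zero.2 (Finset.mem_filter.1 hμ).2)
        (Finset.sum_le_sum_of_subset (Finset.subset_univ _))
    have := c.q5
    nlinarith
  have hfix : ∀ μ : ↥A →* ℂˣ, wgt θ μ ≠ 0 → μ (ψ k ⟨x, hx⟩ * (⟨x, hx⟩ : A)⁻¹) = 1 := fun μ hμ => by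
    have h := DFunLike.congr_fun (congrArg Subtype.val (c.fixed_of_small hcard k⁻¹ (⟨μ, hμ⟩ : Ω))) (⟨x, hx⟩ : A)
    replace h : μ (ψ k⁻¹⁻¹ ⟨x, hx⟩) = μ ⟨x, hx⟩ := h
    rw [inv_inv] at h
    rw [map_mul, h, map_inv, mul_inv_cancel]
  have e : φ k x * x⁻¹ = ((ψ k ⟨x, hx⟩ * (⟨x, hx⟩ : A)⁻¹ : A) : N) := rfl
  rw [e, ← sum_part (χ := θ) hc ((ψ k ⟨x, hx⟩ * (⟨x, hx⟩ : A)⁻¹ : A) : N), ← sum_part (χ := θ) hc (1 : N)]
  refine Finset.sum_congr rfl fun μ _ => ?_
  have hm := part_mul_mem (χ := θ) μ 1 (ψ k ⟨x, hx⟩ * (⟨x, hx⟩ : A)⁻¹)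
  rw [one_mul] at hm
  rw [hm, part_eq_wgt μ hθc]
  by_cases h0 : wgt θ μ = 0
  · rw [h0, Nat.cast_zero, mul_zero]
  · rw [hfix μ h0, Units.val_one, one_mul]

/-- A weight of a character is a weight of a constituent of no larger degree. -/
theorem exists_constituent_weight {Y : Type u} [Group Y] [Fintype Y] {Z : Subgroup Y} [Fintype Z] {F : Y → ℂ}
    (hF : IsCharacter Y F) (μ : ↥Z →* ℂˣ) (h : wgt F μ ≠ 0) {t : ℕ} (ht : F 1 = (t : ℂ)) :
    ∃ ψ : Y → ℂ, IsIrrCharacter Y ψ ∧ wgt ψ μ ≠ 0 ∧ charDegree ψ ≤ t := by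
  classical
  obtain ⟨l, hl, rfl⟩ := exists_list_irr hF
  induction l generalizing t with
  | nil => simp [wgt, part] at h
  | cons a l ih =>
    have ha := hl a (by simp)
    have hlc : IsCharacter Y l.sum := isCharacter_listSum l fun x hx => isCharacter_of_irr (hl x (by simp [hx]))
    obtain ⟨s, hs⟩ := char_one_eq_natCast hlc
    have hst : charDegree a + s = t := by
      have h1 : (((charDegree a + s : ℕ)) : ℂ) = (t : ℂ) := by
        rw [Nat.cast_add, ← (charDegree_spec' ha).1, ← hs, ← ht, List.sum_cons, Pi.add_apply]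
      exact_mod_cast h1
    by_cases h0 : wgt a μ = 0
    · obtain ⟨ψ, hψ, hw, hle⟩ := ih (fun x hx => hl x (by simp [hx])) hlc
        (fun hl0 => h (by
          have e := part_eq_wgt μ hF
          rw [List.sum_cons, part_add, part_eq_wgt μ (isCharacter_of_irr ha), part_eq_wgt μ hlc, h0, hl0] at e
          exact_mod_cast (by simpa using e.symm : (wgt (a + l.sum) μ : ℂ) = 0)))
        hs
      exact ⟨ψ, hψ, hw, by omega⟩
    · exact ⟨a, ha, h0, by omega⟩

/-- A cover centralises an invariant subgroup of class two with fixed centre. -/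
theorem class_two_separated (c : Cov N0 q) [Group.IsSolvable N0] {p e : ℕ} (hp : p.Prime) (hqp : q = p ^ e)
    (hodd : Odd (Nat.card N)) (φ : K →* MulAut N) (P : (N → ℂ) → Prop)
    (hP : ∀ θ, P θ → IsCharacter N θ ∧ (∀ k n, θ (φ k n) = θ n) ∧ ∃ t : ℕ, θ 1 = (t : ℂ) ∧ t < 2 * q)
    (hsep : ∀ x : N, (∀ θ, P θ → θ x = θ 1) → x = 1) {r : ℕ} [hr : Fact r.Prime] (E : Subgroup N)
    (hEi : ∀ k, ∀ x ∈ E, φ k x ∈ E) (hEp : IsPGroup r E)
    (hcl : ∀ x ∈ E, ∀ y ∈ E, ∀ w ∈ E, x * y * x⁻¹ * y⁻¹ * w = w * (x * y * x⁻¹ * y⁻¹))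
    (hfix : ∀ k, ∀ x ∈ E, (∀ y ∈ E, x * y = y * x) → φ k x = x) (k : K) {x : N} (hx : x ∈ E) : φ k x = x := by
  classical
  haveI : Fintype E := Fintype.ofFinite _
  set ψ := restrictAut φ E hEi with hψ
  set Z := Subgroup.center E with hZ
  haveI : Fintype Z := Fintype.ofFinite _
  haveI := (finite_hom_units Z ℂ).1
  haveI : Fintype (↥Z →* ℂˣ) := Fintype.ofFinite _
  have hcomm : ∀ g h : E, g * h * g⁻¹ * h⁻¹ ∈ Z := fun g h =>
    Subgroup.mem_center_iff.2 fun w => Subtype.ext (hcl g g.2 h h.2 w w.2).symm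
  have hcen : ∀ a : Z, ∀ g : E, g * a = (a : E) * g := fun a g => Subgroup.mem_center_iff.1 a.2 g
  have hZfix : ∀ k, ∀ a ∈ Z, ψ k a = a := fun k a ha => Subtype.ext (hfix k a a.2 fun y hy =>
    congrArg Subtype.val (Subgroup.mem_center_iff.1 ha ⟨y, hy⟩).symm)
  -- the key step: each displacement is central
  have key : ∀ (k : K) (g : E), ψ k g * g⁻¹ ∈ Z := by
    intro k g
    refine Subgroup.mem_center_iff.2 fun h => ?_
    have hgoal : ∀ θ, P θ → θ (((ψ k g * g⁻¹) * h * (ψ k g * g⁻¹)⁻¹ * h⁻¹ : E) : N) = θ 1 := by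
      intro θ hθ
      obtain ⟨hθc, hθi, t, ht, htq⟩ := hP θ hθ
      set F : E → ℂ := fun y => θ y with hFdef
      have hF : IsCharacter E F := isCharacter_restrict hθc E
      have hF1 : F 1 = (t : ℂ) := ht
      -- all weights of the centre kill the commutator
      suffices hall : ∀ μ : ↥Z →* ℂˣ, wgt F μ ≠ 0 → μ ⟨_, hcomm (ψ k g * g⁻¹) h⟩ = 1 by
        have hzc : ∀ a b : Z, a * b = b * a := fun a b => Subtype.ext (hcen b a)
        set w : Z := ⟨_, hcomm (ψ k g * g⁻¹) h⟩
        show F (w : E) = F 1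
        rw [← sum_part (χ := F) hzc (w : E), ← sum_part (χ := F) hzc (1 : E)]
        refine Finset.sum_congr rfl fun μ _ => ?_
        have hm := part_mul_mem (χ := F) μ 1 w
        rw [one_mul] at hm
        rw [hm, part_eq_wgt μ hF]
        by_cases h0 : wgt F μ = 0
        · rw [h0, Nat.cast_zero, mul_zero]
        · rw [hall μ h0, Units.val_one, one_mul]
      intro μ hμ
      -- the radical
      have hleft : ∀ a b y : E, (⟨_, hcomm (a * b) y⟩ : Z) = ⟨_, hcomm b y⟩ * ⟨_, hcomm a y⟩ := fun a b y => by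
        refine Subtype.ext ?_
        show a * b * y * (a * b)⁻¹ * y⁻¹ = (b * y * b⁻¹ * y⁻¹) * (a * y * a⁻¹ * y⁻¹)
        have hc' := Subgroup.mem_center_iff.1 (hcomm b y) a
        calc a * b * y * (a * b)⁻¹ * y⁻¹ = a * (b * y * b⁻¹ * y⁻¹) * (y * a⁻¹ * y⁻¹) := by group
          _ = (b * y * b⁻¹ * y⁻¹) * a * (y * a⁻¹ * y⁻¹) := by rw [hc']
          _ = _ := by group
      let R : Subgroup E :=
        { carrier := {a | ∀ y : E, μ ⟨_, hcomm a y⟩ = 1}
          one_mem' := fun y => by
            have : (⟨_, hcomm 1 y⟩ : Z) = 1 := Subtype.ext (by simp)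
            rw [this, map_one]
          mul_mem' := fun {a b} ha hb y => by rw [hleft, map_mul, ha y, hb y, one_mul]
          inv_mem' := fun {a} ha y => by
            have h1 := hleft a⁻¹ a y
            have h2 : (⟨_, hcomm (a⁻¹ * a) y⟩ : Z) = 1 := Subtype.ext (by simp)
            rw [h2] at h1
            have h3 := congrArg μ h1
            rwa [map_one, map_mul, ha y, one_mul, eq_comm] at h3 }
      have hZR : Z ≤ R := fun a ha y => by
        have : (⟨_, hcomm a y⟩ : Z) = 1 := Subtype.ext (by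
          show a * y * a⁻¹ * y⁻¹ = 1
          rw [← Subgroup.mem_center_iff.1 ha y, mul_inv_cancel_right, mul_inv_cancel])
        rw [this, map_one]
      haveI hRn : R.Normal := ⟨fun a ha b => by
        have h1 : b * a * b⁻¹ * a⁻¹ ∈ R := hZR (hcomm b a)
        simpa using mul_mem h1 ha⟩
      have hRi : ∀ (k : K) (a : E), a ∈ R → ψ k a ∈ R := fun k a ha y => by
        obtain ⟨y, rfl⟩ := (ψ k).surjective y
        have e : (⟨_, hcomm (ψ k a) (ψ k y)⟩ : Z) = ⟨_, hcomm a y⟩ := Subtype.ext (by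
          show ψ k a * ψ k y * (ψ k a)⁻¹ * (ψ k y)⁻¹ = _
          rw [← map_inv, ← map_inv, ← map_mul, ← map_mul, ← map_mul]
          exact hZfix k _ (hcomm a y))
        rw [e]
        exact ha y
      have hmap : ∀ k, R.map (ψ k).toMonoidHom = R := by
        intro k
        refine le_antisymm ?_ fun a ha => ⟨ψ k⁻¹ a, hRi _ a ha, by rw [map_inv]; exact (ψ k).apply_symm_apply a⟩
        rintro _ ⟨a, ha, rfl⟩
        exact hRi k a ha
      letI : CommGroup (E ⧸ R) :=
        { (inferInstance : Group (E ⧸ R)) with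
          mul_comm := fun a b => by
            induction a using QuotientGroup.induction_on with
            | H a =>
              induction b using QuotientGroup.induction_on with
              | H b =>
                rw [← QuotientGroup.mk_mul, ← QuotientGroup.mk_mul, QuotientGroup.eq]
                have h1 : b⁻¹ * a⁻¹ * b⁻¹⁻¹ * a⁻¹⁻¹ ∈ R := hZR (hcomm _ _)
                have h2 := hRn.conj_mem _ h1 (1 : E)
                simp only [one_mul, inv_one, mul_one, inv_inv] at h2
                simpa [mul_assoc] using h2 }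
      let φQ : K →* MulAut (E ⧸ R) :=
        { toFun := fun k => QuotientGroup.congr R R (ψ k) (hmap k)
          map_one' := MulEquiv.ext fun a => by
            induction a using QuotientGroup.induction_on with
            | H a => simp
          map_mul' := fun a b => MulEquiv.ext fun y => by
            induction y using QuotientGroup.induction_on with
            | H y => simp only [map_mul, MulAut.mul_apply]; exact rfl }
      have hV : IsPGroup r (E ⧸ R) := hEp.to_quotient R
      have hbound : ∀ (F' : E → ℂ), IsCharacter E F' → wgt F' μ ≠ 0 →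
          Nat.card (E ⧸ R) ≤ wgt F' μ ^ 2 := fun F' hF' hw => by
        have h1 := index_bound hF' μ hcen hcomm R (fun a ha => ha) hw
        rw [← R.index_mul_card, Subgroup.index_eq_card] at h1
        exact Nat.le_of_mul_le_mul_right h1 Nat.card_pos
      have htriv : φQ k (g : E ⧸ R) = (g : E ⧸ R) := by
        by_cases hr2 : r = 2
        · have hcard : Nat.card (E ⧸ R) = 1 := by
            obtain ⟨m, hm⟩ := hV.exists_card_eq
            rcases m with _ | m
            · rw [hm, pow_zero]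
            · exfalso
              have h2 : 2 ∣ Nat.card N := by
                refine dvd_trans ?_ (Subgroup.card_subgroup_dvd_card E)
                refine dvd_trans ?_ (Subgroup.card_quotient_dvd_card R)
                rw [hm, hr2, pow_succ]
                exact dvd_mul_left 2 _
              exact Nat.not_even_iff_odd.2 hodd (even_iff_two_dvd.2 h2)
          haveI := (Nat.card_eq_one_iff_unique.1 hcard).1
          exact Subsingleton.elim _ _
        by_cases hrq : r ∣ q
        · -- at most `q ^ 2` elements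
          have hrp : r = p := (Nat.prime_dvd_prime_iff_eq hr.out hp).1 (hr.out.dvd_of_dvd_pow (hqp ▸ hrq))
          subst hrp
          obtain ⟨F', hF', hw, hdeg⟩ := exists_constituent_weight hF μ hμ hF1
          obtain ⟨m, hm⟩ := hEp.exists_card_eq
          have hd1 : charDegree F' ∣ r ^ m :=
            hm ▸ (charDegree_dvd_index_kernel hF').trans (Subgroup.index_dvd_card _)
          obtain ⟨j, -, hj⟩ := (Nat.dvd_prime_pow hr.out).1 hd1
          have hje : j ≤ e := by
            by_contra hje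
            have h1 : r ^ (e + 1) ≤ r ^ j := Nat.pow_le_pow_right hr.out.pos (by omega)
            have h2 : 2 * r ^ e ≤ r ^ (e + 1) := by
              rw [pow_succ, mul_comm 2]
              exact Nat.mul_le_mul_left _ hr.out.two_le
            omega
          have hV2 : Nat.card (E ⧸ R) ≤ q ^ 2 := by
            refine (hbound F' (isCharacter_of_irr hF') hw).trans (Nat.pow_le_pow_left ?_ 2)
            refine (wgt_le μ (isCharacter_of_irr hF') (charDegree_spec' hF').1).trans ?_
            rw [hj, hqp]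
            exact Nat.pow_le_pow_right hr.out.pos hje
          let Ω := {a : E ⧸ R // a ≠ 1}
          letI : MulAction K Ω :=
            { smul := fun k a => ⟨φQ k a.1, fun h1 => a.2 ((φQ k).injective (by rw [h1, map_one]))⟩
              one_smul := fun a => Subtype.ext (by show φQ 1 a.1 = a.1; rw [map_one, MulAut.one_apply])
              mul_smul := fun a b y => Subtype.ext (by
                show φQ (a * b) y.1 = φQ a (φQ b y.1)
                rw [map_mul, MulAut.mul_apply]) }
          by_cases hg1 : (g : E ⧸ R) = 1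
          · rw [hg1, map_one]
          have hlt : Nat.card Ω < q ^ 2 := by
            refine lt_of_lt_of_le ?_ hV2
            exact Finite.card_subtype_lt (x := 1) fun h => h rfl
          exact congrArg Subtype.val (c.fixed_of_small hlt k (⟨(g : E ⧸ R), hg1⟩ : Ω))
        · refine small_module_trivial c hr2 hrq _ rfl hV ?_ φQ k _
          refine lt_of_le_of_lt (hbound F hF hμ) ?_
          have h1 := wgt_le μ hF hF1
          calc wgt F μ ^ 2 ≤ t ^ 2 := Nat.pow_le_pow_left h1 2
            _ < (2 * q) ^ 2 := Nat.pow_lt_pow_left htq two_ne_zero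
            _ = _ := by ring
      have hmem : ψ k g * g⁻¹ ∈ R := by
        have h' : ((ψ k g : E) : E ⧸ R) = (g : E ⧸ R) := htriv
        rw [← QuotientGroup.eq_one_iff, QuotientGroup.mk_mul, h', QuotientGroup.mk_inv, mul_inv_cancel]
      exact hmem h
    have h1 := hsep _ hgoal
    have h2 : (ψ k g * g⁻¹) * h * (ψ k g * g⁻¹)⁻¹ * h⁻¹ = 1 := Subtype.ext h1
    rw [mul_inv_eq_one, mul_inv_eq_iff_eq_mul] at h2
    exact h2.symm
  let δ : K →* Z :=
    MonoidHom.mk' (fun k => ⟨_, key k ⟨x, hx⟩⟩) fun a b => Subtype.ext (by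
      show ψ (a * b) ⟨x, hx⟩ * (⟨x, hx⟩ : E)⁻¹ = (ψ a ⟨x, hx⟩ * (⟨x, hx⟩ : E)⁻¹) * (ψ b ⟨x, hx⟩ * (⟨x, hx⟩ : E)⁻¹)
      rw [Subgroup.mem_center_iff.1 (key b ⟨x, hx⟩) (ψ a ⟨x, hx⟩ * (⟨x, hx⟩ : E)⁻¹)]
      conv_rhs => arg 1; rw [← hZfix a _ (key b ⟨x, hx⟩)]
      rw [map_mul, MulAut.mul_apply, map_mul, map_inv, ← mul_assoc, inv_mul_cancel_right])
  have h := c.hom_comm_trivial δ (fun a b => Subtype.ext (hcen (δ b) (δ a))) k
  exact congrArg Subtype.val (mul_inv_eq_one.1 (congrArg Subtype.val h))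

/-- The action is trivial. -/
theorem descent (c : Cov N0 q) [Group.IsSolvable N0] [Group.IsSolvable N] {p e : ℕ} (hp : p.Prime) (hqp : q = p ^ e)
    (hodd : Odd (Nat.card N)) (φ : K →* MulAut N) (P : (N → ℂ) → Prop)
    (hP : ∀ θ, P θ → IsCharacter N θ ∧ (∀ k n, θ (φ k n) = θ n) ∧ ∃ t : ℕ, θ 1 = (t : ℂ) ∧ t < 2 * q)
    (hsep : ∀ x : N, (∀ θ, P θ → θ x = θ 1) → x = 1) (k : K) (n : N) : φ k n = n :=
  fixed_of_criterion φ c.commutator_top
    (fun _ _ A _ hAi _ hAc k _ hx => abelian_fixed c φ P hP hsep A hAi hAc k hx)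
    (fun _ _ E _ hEi hEp hcl hfix k _ hx => class_two_separated c hp hqp hodd φ P hP hsep E hEi hEp hcl hfix k hx)
    k n

end CfsgLib.RankTwo
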