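import Cfsg.Agent.Lib.BrauerOrder.Main
import Cfsg.Agent.Lib.BrauerOrder.Instance

/-!
# A small irreducible character of a simple group of 2-rank two

`G` is simple, its Sylow 2-subgroup is semidihedral or wreathed, the centraliser of the involution `z` covers
`SL₂(q)`.  Among the characters of Brauer's system there is one of degree `d`, with value `v` on `z * O(C(z))`,
such that `d - |v| < 2 (q ^ 2 - 1)`.
-/

set_option autoImplicit false
set_option linter.unusedSectionVars false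
set_option linter.style.haveILetI false

namespace CfsgLib.RankTwo

open Cfsg CfsgLib.CharTheory CfsgLib.Blocks CfsgLib.Blocks.AbelianFree CfsgLib.BrauerOrder

universe u w

/-- A faithful irreducible character of small degree, constant on the coset of the odd core. -/
structure SmallChar {G : Type u} [Group G] (z : G) (q : ℕ) where
  /-- The character. -/
  χ : G → ℂ
  /-- Its degree. -/
  d : ℕ
  /-- Its value at the involution. -/
  v : ℤ
  irr : IsIrrCharacter G χ
  deg : χ 1 = (d : ℂ)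
  val : χ z = (v : ℂ)
  const : ∀ y ∈ oddCore ↥(Subgroup.centralizer ({z} : Set G)), χ (z * (y : G)) = (v : ℂ)
  small : (d : ℤ) - |v| < 2 * ((q : ℤ) ^ 2 - 1)
  faithful : ∀ x : G, x ≠ 1 → χ x ≠ χ 1

/-- An odd normal subgroup acts trivially in a doubly transitive action on an even number of points. -/
theorem odd_normal_trivial {C : Type u} [Group C] {Ω : Type w} [MulAction C Ω] [Finite Ω] (hev : Even (Nat.card Ω))
    (h2 : ∀ a b c e : Ω, a ≠ b → c ≠ e → ∃ g : C, g • a = c ∧ g • b = e)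
    (N : Subgroup C) [N.Normal] (hN : Odd (Nat.card N)) : ∀ n ∈ N, ∀ a : Ω, n • a = a := by
  intro n hn a
  by_contra hne
  have horb : ∀ c : Ω, c ∈ MulAction.orbit N a := by
    intro c
    by_cases hc : c = a
    · rw [hc]; exact MulAction.mem_orbit_self a
    · obtain ⟨g, ga, gb⟩ := h2 a (n • a) a c (Ne.symm hne) (Ne.symm hc)
      refine ⟨⟨g * n * g⁻¹, Subgroup.Normal.conj_mem inferInstance n hn g⟩, ?_⟩
      show (g * n * g⁻¹) • a = c
      rw [mul_smul, mul_smul, inv_smul_eq_iff.mpr ga.symm, gb]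
  have hd : Nat.card (MulAction.orbit N a) ∣ Nat.card N := by
    haveI : Finite N := Nat.finite_of_card_ne_zero (Nat.ne_of_gt hN.pos)
    rw [Nat.card_congr (MulAction.orbitEquivQuotientStabilizer N a)]
    exact Subgroup.card_quotient_dvd_card _
  rw [show MulAction.orbit N a = Set.univ from Set.eq_univ_of_forall horb, Nat.card_congr (Equiv.Set.univ Ω)] at hd
  exact (Nat.not_even_iff_odd.mpr hN) ((even_iff_two_dvd.1 hev).trans hd |> even_iff_two_dvd.2)

variable {G : Type u} [Group G] [Fintype G] [IsSimpleGroup G] {z : G} [Fintype (Cz z)] {Ω : Type u}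
  [MulAction (Cz z) Ω] [Finite Ω] {D : Sys G z}

/-- A member of the system gives the small character. -/
theorem smallChar_of_member (hD : D.Spec Ω) {M : Ideal AlgInt} (hM : IsPModular 2 M) (hq : Odd D.core.q) {a : G → ℂ}
    (ha : InB0 M a) (hs : IsSignedIrr a) (h1 : classInner a (fun _ : G => (1 : ℂ)) = 0) {B V : ℤ}
    (hB : a 1 = (B : ℂ)) (hV : a z = (V : ℂ)) (hsmall : |B| - |V| < 2 * ((D.core.q : ℤ) ^ 2 - 1)) :
    Nonempty (SmallChar z D.core.q) := by
  classical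
  obtain ⟨χ, hχ, e⟩ := ha
  obtain ⟨ε, hε, hae⟩ : ∃ ε : ℤ, (ε = 1 ∨ ε = -1) ∧ a = fun g => (ε : ℂ) * (χ : G → ℂ) g := by
    rcases e with e | e
    · exact ⟨1, Or.inl rfl, by rw [e]; funext g; simp⟩
    · exact ⟨-1, Or.inr rfl, by rw [e]; funext g; simp⟩
  have hεε : (ε : ℂ) * (ε : ℂ) = 1 := by rcases hε with rfl | rfl <;> norm_num
  have hχa : ∀ g, (χ : G → ℂ) g = (ε : ℂ) * a g := fun g => by rw [hae]; linear_combination (-(χ : G → ℂ) g) * hεε
  obtain ⟨d, -, hd⟩ := irr_degree_pos χ.2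
  have hdB : (d : ℤ) = |B| := by
    have h : ((d : ℤ) : ℂ) = ((ε * B : ℤ) : ℂ) := by push_cast; rw [← hd, hχa 1, hB]
    have h' : (d : ℤ) = ε * B := by exact_mod_cast h
    have habs : |(d : ℤ)| = |B| := by
      rw [h', abs_mul]
      rcases hε with rfl | rfl <;> simp
    rwa [abs_of_nonneg (Int.natCast_nonneg d)] at habs
  haveI : Fintype (↥(D.core.T false) →* ℂˣ) := Fintype.ofFinite _
  obtain ⟨p, r, hp, hpz, -, -⟩ := zsection hD hM hχ
  have hval : (χ : G → ℂ) z = ((ε * V : ℤ) : ℂ) := by rw [hχa z, hV]; push_cast; rfl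
  have hev : Even (Nat.card Ω) := by rw [hD.core.card]; exact hq.add_one
  refine ⟨⟨χ, d, ε * V, χ.2, hd, hval, ?_, ?_, ?_⟩⟩
  · intro y hy
    have hodd := CfsgLib.odd_card_oddCore (G := Cz z)
    have hy2 : ¬ 2 ∣ orderOf y := fun h => by
      have h' := h.trans (Subgroup.orderOf_dvd_natCard _ hy)
      exact (Nat.not_even_iff_odd.mpr hodd) (even_iff_two_dvd.mpr h')
    have hfix : MulAction.fixedBy Ω y = MulAction.fixedBy Ω (1 : Cz z) := by
      ext a
      simp only [MulAction.mem_fixedBy, one_smul, iff_true]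
      exact odd_normal_trivial hev hD.core.two _ hodd y hy a
    have hSh : D.Sh Ω y = D.Sh Ω 1 := by simp only [Sys.Sh, St, hfix]
    rw [hp y hy2, hSh, Sh_one hD, ← hpz, hval]
  · rw [hdB, abs_mul]
    rcases hε with rfl | rfl <;> simpa using hsmall
  · intro x hx h
    refine no_kernel hs h1 hx ?_
    rw [hae]
    simp only [h]

/-- The arithmetic of the semidihedral case. -/
theorem qd_small {Q B C : ℤ} {q : ℕ} (hq : 1 ≤ q) (hQ : |Q| = (q : ℤ)) (h : C * (Q ^ 2 - B) = Q ^ 2 * (B - 1)) :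
    |B| ≤ 2 * (q : ℤ) ^ 2 - 1 ∨ |C| ≤ 2 * (q : ℤ) ^ 2 - 1 := by
  have hQ2 : Q ^ 2 = (q : ℤ) ^ 2 := by rw [← hQ, sq_abs]
  have hq0 : (0 : ℤ) ≤ (q : ℤ) ^ 2 := sq_nonneg _
  have hprod : |Q ^ 2 - B| * |C + Q ^ 2| = |(q : ℤ) ^ 2 * ((q : ℤ) ^ 2 - 1)| := by
    rw [← abs_mul, ← hQ2]
    congr 1
    linear_combination h
  by_contra hcon
  rw [not_or, not_le, not_le] at hcon
  obtain ⟨hb, hc⟩ := hcon
  have h1 : (q : ℤ) ^ 2 ≤ |Q ^ 2 - B| := by
    have := abs_sub_abs_le_abs_sub B (Q ^ 2)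
    rw [abs_sub_comm, abs_of_nonneg (sq_nonneg Q), hQ2] at this
    rw [hQ2]; omega
  have h2 : (q : ℤ) ^ 2 ≤ |C + Q ^ 2| := by
    have := abs_sub_abs_le_abs_sub C (-(Q ^ 2))
    rw [abs_neg, abs_of_nonneg (sq_nonneg Q), sub_neg_eq_add, hQ2] at this
    rw [hQ2]; omega
  have h3 := mul_le_mul h1 h2 hq0 (abs_nonneg _)
  rw [hprod] at h3
  have hpos : (1 : ℤ) ≤ (q : ℤ) ^ 2 := one_le_pow₀ (by exact_mod_cast hq)
  rw [abs_of_nonneg (mul_nonneg hq0 (by omega))] at h3
  nlinarith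

/-- The small character from the system. -/
theorem smallChar_of_sys (hD : D.Spec Ω) (hq : Odd D.core.q) : Nonempty (SmallChar z D.core.q) := by
  classical
  obtain ⟨M, hM⟩ := exists_isPModular Nat.prime_two
  have hgen := hgen_all hD
  obtain ⟨e, he⟩ := exists_six hD hgen (M := M) hM
  obtain ⟨hC3, hY2, hcase⟩ := values hD hgen he hM
  obtain ⟨q1, q2, q3⟩ := class_equations hD hgen he
  obtain ⟨B, C, hB, hC, hA, hY, hF, nB, nC, nA, nY, nF, -, -, -⟩ := signed_degrees hD hgen he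
  have hz1 : z ≠ 1 := fun h => by have := hD.zord; rw [h, orderOf_one] at this; omega
  have horth : ∀ i : Fin 6, i ≠ 0 → classInner (e i) (fun _ : G => (1 : ℂ)) = 0 := by
    intro i hi
    rw [← he.zero, he.orth, if_neg hi]
  have hQabs : |D.Q| = (D.core.q : ℤ) := by
    rcases hD.core.sgn true with h | h <;> rw [Sys.Q, h] <;> simp
  have hq3 := hD.core.qlb
  obtain ⟨hQ0, hQ1, hQm⟩ := Q_facts hD
  rw [kappa_cast hD] at q1 q2 q3
  set K : ℚ := (Nat.card (Cz z) : ℚ) ^ 3 /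
    ((Nat.card G : ℚ) * (Nat.card (Subgroup.centralizer ({(D.w : G), z} : Set G)) : ℚ) ^ 2) with hK
  have mA : (1 : ℚ) - B ≠ 0 := by exact_mod_cast nA
  have mB : (B : ℚ) ≠ 0 := by exact_mod_cast nB
  have mC : (C : ℚ) ≠ 0 := by exact_mod_cast nC
  have mY : (-1 : ℚ) - C ≠ 0 := by exact_mod_cast nY
  have mF : (B : ℚ) - 1 - C ≠ 0 := by exact_mod_cast nF
  rcases hcase with ⟨-, hδ, a1, a2, a5⟩ | ⟨-, hδ, hv⟩
  · rw [hδ, hA, a1, a2, hB] at q1
    rw [hδ, hA, hC, hF, a1, hC3, a5] at q3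
    have E1 : (-1 : ℚ) + ((D.Q : ℚ) + 1) ^ 2 / (1 - B) + (D.Q : ℚ) ^ 2 / B = K * (-1 - 1 / (D.Q : ℚ)) := by
      apply Rat.cast_injective (α := ℂ)
      push_cast
      linear_combination q1
    have E3 : ((D.Q : ℚ) + 1) ^ 2 / (1 - B) + (D.Q : ℚ) ^ 2 / C + 1 / (B - 1 - C) =
        K * (-1 - 1 / (D.Q : ℚ)) := by
      apply Rat.cast_injective (α := ℂ)
      push_cast
      linear_combination q3
    have hne : (C : ℚ) ≠ B := by
      intro h
      refine no_kernel (he.signed 5) (horth 5 (by decide)) hz1 ?_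
      rw [a5, hF, show (C : ℂ) = ((C : ℚ) : ℂ) by norm_cast, h]
      push_cast; ring
    obtain ⟨r1, -⟩ := Arith.qd_key hQ0 mA mB mC mF hne E1 E3
    have r1' : C * (D.Q ^ 2 - B) = D.Q ^ 2 * (B - 1) := by exact_mod_cast r1
    rcases qd_small (by omega) hQabs r1' with hsm | hsm
    · refine smallChar_of_member hD hM hq (he.inB0 2) (he.signed 2) (horth 2 (by decide)) hB
        (V := -D.Q) (by rw [a2]; push_cast; rfl) ?_
      rw [abs_neg, hQabs]
      have : (3 : ℤ) ≤ (D.core.q : ℤ) := by exact_mod_cast hq3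
      omega
    · refine smallChar_of_member hD hM hq (he.inB0 3) (he.signed 3) (horth 3 (by decide)) hC
        (V := -D.Q) (by rw [hC3]; push_cast; rfl) ?_
      rw [abs_neg, hQabs]
      have : (3 : ℤ) ≤ (D.core.q : ℤ) := by exact_mod_cast hq3
      omega
  · rw [hδ, hA] at q1 q3
    rw [hB] at q1
    rw [hY2, hC3, hY, hC] at q2
    rw [hC, hC3, hF] at q3
    have E2 : (1 : ℚ) + ((D.Q : ℚ) - 1) ^ 2 / (-1 - C) + (D.Q : ℚ) ^ 2 / C = K * (1 - 1 / (D.Q : ℚ)) := by
      apply Rat.cast_injective (α := ℂ)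
      push_cast
      linear_combination q2
    rcases hv with ⟨a1, a2, a5⟩ | ⟨a1, a2, a5⟩
    · rw [a1, a2] at q1
      rw [a1, a5] at q3
      have E1 : (-1 : ℚ) + ((D.Q : ℚ) + 1) ^ 2 / (1 - B) + ((D.Q : ℚ) + 2) ^ 2 / B =
          K * (4 / ((D.Q : ℚ) + 1) - 1 - 1 / (D.Q : ℚ)) := by
        apply Rat.cast_injective (α := ℂ)
        push_cast
        linear_combination q1
      have E3 : ((D.Q : ℚ) + 1) ^ 2 / (1 - B) + (D.Q : ℚ) ^ 2 / C + (2 * (D.Q : ℚ) + 1) ^ 2 / (B - 1 - C) =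
          K * (4 / ((D.Q : ℚ) + 1) - 1 - 1 / (D.Q : ℚ)) := by
        apply Rat.cast_injective (α := ℂ)
        push_cast
        linear_combination q3
      have hker : (B : ℚ) ≠ (D.Q : ℚ) + 2 := by
        intro h
        refine no_kernel (he.signed 2) (horth 2 (by decide)) hz1 ?_
        rw [a2, hB, show (B : ℂ) = ((B : ℚ) : ℂ) by norm_cast, h]
        push_cast; ring
      obtain ⟨r1, -⟩ := Arith.wreathed_normal hQ0 hQ1 hQm mA mB mC mY mF hker E1 E2 E3
      have r1' : B = D.Q ^ 2 + D.Q + 1 := by exact_mod_cast r1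
      refine smallChar_of_member hD hM hq (he.inB0 2) (he.signed 2) (horth 2 (by decide)) hB
        (V := D.Q + 2) (by rw [a2]; push_cast; rfl) ?_
      have h3 : (3 : ℤ) ≤ (D.core.q : ℤ) := by exact_mod_cast hq3
      rcases hD.core.sgn true with h | h <;> rw [Sys.Q, h] at r1' ⊢
      · rw [one_mul] at r1' ⊢
        rw [r1', abs_of_nonneg (by positivity), abs_of_nonneg (by omega)]
        nlinarith
      · rw [neg_one_mul] at r1' ⊢
        rw [r1', abs_of_nonneg (by nlinarith), abs_of_nonpos (by omega)]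
        nlinarith
    · rw [a1, a2] at q1
      rw [a1, a5] at q3
      have E1 : (-1 : ℚ) + ((D.Q : ℚ) + 1) ^ 2 / (1 - B) + (D.Q : ℚ) ^ 2 / B =
          K * (4 / ((D.Q : ℚ) + 1) - 1 - 1 / (D.Q : ℚ)) := by
        apply Rat.cast_injective (α := ℂ)
        push_cast
        linear_combination q1
      have E3 : ((D.Q : ℚ) + 1) ^ 2 / (1 - B) + (D.Q : ℚ) ^ 2 / C + 1 / (B - 1 - C) =
          K * (4 / ((D.Q : ℚ) + 1) - 1 - 1 / (D.Q : ℚ)) := by
        apply Rat.cast_injective (α := ℂ)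
        push_cast
        linear_combination q3
      have hker : (B : ℚ) ≠ -(D.Q : ℚ) := by
        intro h
        refine no_kernel (he.signed 2) (horth 2 (by decide)) hz1 ?_
        rw [a2, hB, show (B : ℂ) = ((B : ℚ) : ℂ) by norm_cast, h]
        push_cast; ring
      exact (Arith.wreathed_alt hQ0 hQ1 hQm mA mB mC mY mF hker E1 E2 E3).elim

/-- The small character from the local hypotheses. -/
theorem exists_smallChar (hG : ¬ IsMulCommutative G) (S : Sylow 2 G)
    (hS : IsQuasiDihedral (S : Subgroup G) ∨ IsWreathed (S : Subgroup G))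
    (hz : orderOf z = 2) (hzS : z ∈ S) (hzc : ∀ s ∈ (S : Subgroup G), s * z = z * s)
    (U : Subgroup G) (hUS : U ≤ S) (hU : IsKleinFour U)
    (hUn : IsWreathed (S : Subgroup G) → ∀ s ∈ (S : Subgroup G), ∀ t ∈ U, s * t * s⁻¹ ∈ U)
    {p : ℕ} [Fact p.Prime] (hp : p ≠ 2) (n : ℕ) (hn : 1 ≤ n) (F : Type w) [Field F] [Fintype F]
    (hF : Fintype.card F = p ^ n)
    (hL : ∃ N : Subgroup (↥(Subgroup.centralizer ({z} : Set G)) ⧸ oddCore ↥(Subgroup.centralizer ({z} : Set G))),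
      N.Normal ∧ Nonempty (↥N ≃* Matrix.SpecialLinearGroup (Fin 2) F)) :
    Nonempty (SmallChar z (p ^ n)) := by
  obtain ⟨Ω', hΩ, D, hD, hDq, -⟩ := exists_sys hG S hS z hz hzS hzc U hUS hU hUn hp n hn F hF hL
  haveI : Finite Ω' := Nat.finite_of_card_ne_zero (by rw [hD.core.card]; omega)
  have hodd : Odd D.core.q := hDq ▸ ((Fact.out : p.Prime).odd_of_ne_two hp).pow
  exact hDq ▸ smallChar_of_sys hD hodd

end CfsgLib.RankTwo
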