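import Cfsg.Agent.Lib.RankTwo.Degree
import Cfsg.Agent.Lib.RankTwo.Descent
import Cfsg.Agent.Lib.RankTwo.SmallChar
import Cfsg.Agent.Lib.OddOrder.FeitThompson

/-!
# A small faithful character kills the action on the odd core

`core`: `N` odd normal in `X`, `X / N` simple with a Heisenberg subgroup at the image of the involution `z`, and a
faithful character constant on `z * C_N(z)` with `d - |v| < 2 (q ^ 2 - 1)`.  Then the centraliser of `N` covers
`X / N`; in particular `z` centralises `N`.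

Blueprint: `blueprint/RankTwo_L5.md`, section B'.
-/

set_option autoImplicit false
set_option linter.unusedSectionVars false
set_option linter.style.haveILetI false

namespace CfsgLib.RankTwo

open Cfsg CfsgLib.CharTheory
open scoped ComplexConjugate

universe u v

/-- Heisenberg data along an isomorphism. -/
def Heis.map {L : Type u} [Group L] {M : Type v} [Group M] {z : L} {q : ℕ} (H : Heis L z q) (f : L ≃* M) :
    Heis M (f z) q where
  Q := H.Q.map f.toMonoidHom
  R := H.R.map f.toMonoidHom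
  A := H.A.map f.toMonoidHom
  RA := Subgroup.map_mono H.RA
  AQ := Subgroup.map_mono H.AQ
  cardR := by rw [Subgroup.card_map_of_injective f.injective, H.cardR]
  cardA := by rw [Subgroup.card_map_of_injective f.injective, H.cardA]
  cardQ := by rw [Subgroup.card_map_of_injective f.injective, H.cardQ]
  central := by
    rintro _ ⟨r, hr, rfl⟩ _ ⟨g, hg, rfl⟩
    rw [← map_mul, ← map_mul, H.central r hr g hg]
  acomm := by
    rintro _ ⟨r, hr, rfl⟩ _ ⟨g, hg, rfl⟩
    rw [← map_mul, ← map_mul, H.acomm r hr g hg]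
  comm := by
    rintro _ ⟨g, hg, rfl⟩ _ ⟨k, hk, rfl⟩
    exact ⟨_, H.comm g hg k hk, by simp⟩
  surjQ := by
    rintro _ ⟨g, hg, rfl⟩ hgR _ ⟨r, hr, rfl⟩
    obtain ⟨k, hk, rfl⟩ := H.surjQ g hg (fun h => hgR ⟨g, h, rfl⟩) r hr
    exact ⟨_, ⟨k, hk, rfl⟩, by simp⟩
  surjA := by
    rintro _ ⟨g, hg, rfl⟩ hgR _ ⟨r, hr, rfl⟩
    obtain ⟨k, hk, rfl⟩ := H.surjA g hg (fun h => hgR ⟨g, h, rfl⟩) r hr
    exact ⟨_, ⟨k, hk, rfl⟩, by simp⟩
  zQ := by
    rintro _ ⟨g, hg, rfl⟩
    exact ⟨_, H.zQ g hg, by simp⟩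
  zR := by
    rintro _ ⟨r, hr, rfl⟩
    simpa using congrArg f (H.zR r hr)
  T := H.T.map f.toEquiv.toEmbedding
  cardT := by rw [Finset.card_map]; exact H.cardT
  TQ := by
    intro t ht g
    obtain ⟨t, ht', rfl⟩ := Finset.mem_map.1 ht
    obtain ⟨g, rfl⟩ := f.surjective g
    show f g ∈ H.Q.map f.toMonoidHom ↔ f t * f g * (f t)⁻¹ ∈ H.Q.map f.toMonoidHom
    rw [← map_inv, ← map_mul, ← map_mul]
    exact (Subgroup.mem_map_iff_mem f.injective).trans
      ((H.TQ t ht' g).trans (Subgroup.mem_map_iff_mem f.injective).symm)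
  TR := by
    intro t ht g
    obtain ⟨t, ht', rfl⟩ := Finset.mem_map.1 ht
    obtain ⟨g, rfl⟩ := f.surjective g
    show f g ∈ H.R.map f.toMonoidHom ↔ f t * f g * (f t)⁻¹ ∈ H.R.map f.toMonoidHom
    rw [← map_inv, ← map_mul, ← map_mul]
    exact (Subgroup.mem_map_iff_mem f.injective).trans
      ((H.TR t ht' g).trans (Subgroup.mem_map_iff_mem f.injective).symm)
  Tfree := by
    intro t ht t' ht' hne r hr hr1 he
    obtain ⟨t, htT, rfl⟩ := Finset.mem_map.1 ht
    obtain ⟨t', htT', rfl⟩ := Finset.mem_map.1 ht'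
    obtain ⟨r, hrR, rfl⟩ := hr
    refine H.Tfree t htT t' htT' (fun e => hne (e ▸ rfl)) r hrR (fun e => hr1 (by rw [e, map_one])) (f.injective ?_)
    simpa using he

variable {X : Type u} [Group X] [Finite X]

/-- The centraliser of the odd normal subgroup covers the quotient. -/
theorem core (N : Subgroup X) [N.Normal] (hN : Odd (Nat.card N)) {χ : X → ℂ} (hχ : IsCharacter X χ)
    (hf : ∀ x : X, x ≠ 1 → χ x ≠ χ 1) {d : ℕ} (hd : χ 1 = (d : ℂ)) {z : X} (hz : z * z = 1) (hzN : z ∉ N) {v : ℤ}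
    (hv : ∀ n ∈ N, n * z = z * n → χ (z * n) = (v : ℂ)) {q p e : ℕ} (hp : p.Prime) (hqp : q = p ^ e) (hq5 : 5 ≤ q)
    (hqodd : Odd q) [IsSimpleGroup (X ⧸ N)] (H : Heis (X ⧸ N) (z : X ⧸ N) q)
    (hsmall : (d : ℤ) - |v| < 2 * ((q : ℤ) ^ 2 - 1)) :
    Subgroup.centralizer (N : Set X) ⊔ N = ⊤ := by
  classical
  haveI : Fintype X := Fintype.ofFinite X
  haveI : Fintype N := Fintype.ofFinite _
  haveI : Group.IsSolvable N := CfsgLib.OddOrder.feitThompson hN
  have hv' : ∀ n : N, χ (z * n) = (v : ℂ) :=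
    coset_const (isClassFunction_char hχ) N hN hz (fun n hn => Subgroup.Normal.conj_mem inferInstance n hn z) hv
  have hfacts : ∀ θ : N → ℂ, IsIrrCharacter N θ → mlt χ θ ≠ 0 →
      (∀ x : X, conjNormFun N x θ = θ) ∧ charDegree θ < 2 * q := by
    intro θ hθ hm
    have hinv := constituent_invariant hχ hd hz hv' hqodd (by omega) H hzN hsmall hθ hm
    exact ⟨hinv, degree_bound hχ hd hz hzN hv' hq5 H hsmall hθ hm hinv⟩
  -- a minimal cover
  obtain ⟨K, hK, hKmin⟩ : ∃ K : Subgroup X, K ⊔ N = ⊤ ∧ ∀ K' : Subgroup X, K' ⊔ N = ⊤ → K' ≤ K → K' = K := by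
    obtain ⟨K, hK⟩ := (Set.toFinite {K : Subgroup X | K ⊔ N = ⊤}).exists_minimal ⟨⊤, by simp⟩
    exact ⟨K, hK.1, fun K' h hle => le_antisymm hle (hK.2 h hle)⟩
  set π : K →* X ⧸ N := (QuotientGroup.mk' N).comp K.subtype with hπ
  have hker : π.ker = N.subgroupOf K := by
    rw [hπ, ← MonoidHom.comap_ker, QuotientGroup.ker_mk']
    rfl
  have hsurj : Function.Surjective π := by
    intro y
    obtain ⟨x, rfl⟩ := QuotientGroup.mk'_surjective N y
    obtain ⟨a, ha, n, hn, rfl⟩ := Subgroup.mem_sup_of_normal_right.1 (hK.symm ▸ Subgroup.mem_top x : x ∈ K ⊔ N)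
    refine ⟨⟨a, ha⟩, ?_⟩
    show QuotientGroup.mk' N a = QuotientGroup.mk' N (a * n)
    rw [map_mul, show QuotientGroup.mk' N n = 1 from (QuotientGroup.eq_one_iff n).2 hn, mul_one]
  let f : X ⧸ N ≃* K ⧸ N.subgroupOf K :=
    ((QuotientGroup.quotientMulEquivOfEq hker.symm).trans
      (QuotientGroup.quotientKerEquivOfSurjective π hsurj)).symm
  haveI : IsSimpleGroup (K ⧸ N.subgroupOf K) := f.symm.isSimpleGroup
  haveI : Group.IsSolvable (N.subgroupOf K) :=
    Group.isSolvable_of_isSolvable_injective (f := (Subgroup.inclusion (inf_le_left : N ⊓ K ≤ N)).comp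
      (MonoidHom.codRestrict (K.subtype.comp (N.subgroupOf K).subtype) (N ⊓ K) fun x => ⟨x.2, x.1.2⟩))
      fun a b h => Subtype.ext (Subtype.ext (congrArg (fun t : N => (t : X)) h))
  let c : Cov (N.subgroupOf K) q :=
    { z := f (z : X ⧸ N)
      heis := H.map f
      simple := inferInstance
      zz := by rw [← map_mul, ← QuotientGroup.mk_mul, hz, QuotientGroup.mk_one, map_one]
      qodd := hqodd
      q5 := hq5
      min := fun K' hK' => by
        have hmem : ∀ x : X, x ∈ K'.map K.subtype ⊔ N := fun x => by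
          obtain ⟨a, ha, n, hn, rfl⟩ := Subgroup.mem_sup_of_normal_right.1 (hK.symm ▸ Subgroup.mem_top x : x ∈ K ⊔ N)
          obtain ⟨b, hb, m, hm, hbm⟩ := Subgroup.mem_sup_of_normal_right.1
            (hK'.symm ▸ Subgroup.mem_top (⟨a, ha⟩ : K) : (⟨a, ha⟩ : K) ∈ K' ⊔ N.subgroupOf K)
          refine mul_mem ?_ (Subgroup.mem_sup_right hn)
          rw [show a = ((b * m : K) : X) from (congrArg Subtype.val hbm).symm, Subgroup.coe_mul]
          exact mul_mem (Subgroup.mem_sup_left ⟨b, hb, rfl⟩) (Subgroup.mem_sup_right hm)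
        have h := hKmin _ (eq_top_iff.2 fun x _ => hmem x) (Subgroup.map_subtype_le K')
        exact eq_top_iff.2 fun k _ => by
          obtain ⟨b, hb, e⟩ := (h.symm ▸ k.2 : (k : X) ∈ K'.map K.subtype)
          rwa [show k = b from Subtype.ext e.symm] }
  set φ : K →* MulAut N := MulAut.conjNormal.comp K.subtype with hφ
  have key := descent c hp hqp hN φ (fun θ => IsIrrCharacter N θ ∧ mlt χ θ ≠ 0)
    (fun θ hθ => ⟨isCharacter_of_irr hθ.1, fun k n => by
      have h := congrFun ((hfacts θ hθ.1 hθ.2).1 k) n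
      refine Eq.trans (congrArg θ (Subtype.ext ?_)) h
      exact MulAut.conjNormal_apply (k : X) n,
      charDegree θ, (charDegree_spec' hθ.1).1, (hfacts θ hθ.1 hθ.2).2⟩)
    (fun n hn => by
      have hdec := eq_sum_irr (isClassFunction_char (isCharacter_restrict hχ N))
      by_contra hne
      refine hf n (fun e => hne (Subtype.ext e)) ?_
      have e1 : (fun x : N => χ x) n = (fun x : N => χ x) 1 := by
        refine (congrFun hdec n).trans (Eq.trans ?_ (congrFun hdec 1).symm)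
        simp only [Finset.sum_apply, Pi.smul_apply, smul_eq_mul]
        refine Finset.sum_congr rfl fun θ _ => ?_
        by_cases h0 : classInner (fun x : N => χ x) (θ : N → ℂ) = 0
        · rw [h0, zero_mul, zero_mul]
        · rw [hn θ ⟨θ.2, fun e => h0 (by rw [mlt_eq hχ (isCharacter_of_irr θ.2), e, Nat.cast_zero])⟩]
      exact e1)
  refine eq_top_iff.2 (hK ▸ sup_le_sup_right (fun k hk => Subgroup.mem_centralizer_iff.2 fun n hn => ?_) N)
  have h := congrArg Subtype.val (key ⟨k, hk⟩ ⟨n, hn⟩)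
  rw [hφ, MonoidHom.comp_apply, MulAut.conjNormal_apply] at h
  exact (mul_inv_eq_iff_eq_mul.1 h).symm

/-- The involution centralises the odd normal subgroup. -/
theorem commute_of_cover (N : Subgroup X) [N.Normal] (hN : Odd (Nat.card N)) {z : X} (hz : z * z = 1)
    (h : Subgroup.centralizer (N : Set X) ⊔ N = ⊤) {n : X} (hn : n ∈ N) : n * z = z * n := by
  obtain ⟨c, hc, a, ha, hca⟩ := Subgroup.mem_sup_of_normal_right.1 (h.symm ▸ Subgroup.mem_top z : z ∈ _ ⊔ N)
  have hcn : ∀ m ∈ N, m * c = c * m := fun m hm => Subgroup.mem_centralizer_iff.1 hc m hm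
  have hsq : ∀ m ∈ N, m * (a * a) = (a * a) * m := by
    intro m hm
    have h1 : c * c * (a * a) = 1 := by
      rw [show c * c * (a * a) = c * (c * a) * a by group, ← hcn a ha, ← mul_assoc c a c, mul_assoc (c * a) c a,
        hca, hz]
    have h2 : m * (c * c) = c * c * m := by rw [← mul_assoc, hcn m hm, mul_assoc, hcn m hm, ← mul_assoc]
    have h3 : c * c = (a * a)⁻¹ := eq_inv_of_mul_eq_one_left h1
    rw [h3] at h2
    have h4 : (a * a) * m * (a * a)⁻¹ = m := by rw [mul_assoc, h2]; group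
    exact (mul_inv_eq_iff_eq_mul.1 h4).symm
  obtain ⟨j, hj⟩ : ∃ j : ℕ, a ^ (2 * j) = a := by
    obtain ⟨t, ht⟩ := hN.of_dvd_nat (Subgroup.orderOf_dvd_natCard N ha)
    refine ⟨t + 1, ?_⟩
    rw [show 2 * (t + 1) = orderOf a + 1 by omega, pow_succ, pow_orderOf_eq_one, one_mul]
  have hna : n * a = a * n := by
    have hcomm : Commute n (a * a) := hsq n hn
    have h' := hcomm.pow_right j
    rwa [← pow_two, ← pow_mul, hj] at h'
  rw [← hca, ← mul_assoc, hcn n hn, mul_assoc, hna, ← mul_assoc]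

/-- `core` for the small character of an ambient group. -/
theorem core_of_smallChar {G : Type u} [Group G] [Finite G] {z : G} {q : ℕ} (S : SmallChar z q) (hz : z * z = 1)
    {X : Subgroup G} (hzX : z ∈ X) (N : Subgroup X) [N.Normal] (hN : Odd (Nat.card N)) (hzN : (⟨z, hzX⟩ : X) ∉ N)
    (hC : ∀ n ∈ N, (n : G) * z = z * n → ∃ y ∈ oddCore ↥(Subgroup.centralizer ({z} : Set G)), (y : G) = (n : G))
    {p e : ℕ} (hp : p.Prime) (hqp : q = p ^ e) (hq5 : 5 ≤ q) (hqodd : Odd q) [IsSimpleGroup (X ⧸ N)]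
    (H : Heis (X ⧸ N) ((⟨z, hzX⟩ : X) : X ⧸ N) q) :
    Subgroup.centralizer (N : Set X) ⊔ N = ⊤ := by
  refine core N hN (isCharacter_restrict (isCharacter_of_irr S.irr) X) (fun x hx => ?_) S.deg (Subtype.ext hz) hzN
    (fun n hn hnz => ?_) hp hqp hq5 hqodd H S.small
  · exact S.faithful (x : G) fun e => hx (Subtype.ext e)
  · obtain ⟨y, hy, e⟩ := hC n hn (congrArg Subtype.val hnz)
    show S.χ (z * (n : G)) = _
    rw [← e]
    exact S.const y hy

end CfsgLib.RankTwo
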