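import Cfsg.Agent.Lib.RankTwoModel.Rep
import Cfsg.Agent.Lib.RankTwoModel.NatLinear

/-!
An automorphism of `SL₂(q)` of odd order commuting with a trace zero matrix and fixing the squares of its torus is
conjugation by a matrix commuting with it.

Blueprint: `blueprint/RankTwo.md` (P7).
-/

set_option autoImplicit false
set_option linter.unusedSectionVars false
set_option linter.style.haveILetI false

namespace CfsgLib.RankTwoModel.SL2

open Matrix Cfsg
open scoped MatrixGroups

variable {F : Type} [Field F] [Fintype F]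

local notation "M2" => Matrix (Fin 2) (Fin 2) F
local notation "SL" => Matrix.SpecialLinearGroup (Fin 2) F

/-- A matrix commuting with `SL₂` is scalar. -/
theorem scalar_of_commute_all {X : M2} (h : ∀ A : SL, X * A.1 = A.1 * X) : ∃ a : F, X = a • (1 : M2) := by
  refine ⟨X 0 0, ?_⟩
  have a1 := congrFun (congrFun (h (PSL2.uSL 1)) 0)
  have a2 := congrFun (congrFun (h (PSL2.vSL 1)) 0) 0
  have e1 := a1 0
  have e2 := a1 1
  simp [PSL2.coe_uSL, PSL2.coe_vSL, Matrix.mul_apply, Fin.sum_univ_two] at e1 e2 a2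
  ext i j
  fin_cases i <;> fin_cases j <;> simp
  · exact a2
  · exact e1
  · linear_combination -e2

/-- **No field part, and conjugation by the torus.** -/
theorem exists_conj_torus (p : ℕ) [Fact p.Prime] [CharP F p] (hodd : Odd (Fintype.card F)) (h3 : 3 < Fintype.card F)
    {g : GL (Fin 2) F} (htr : g.1.trace = 0) {φ ψ : MulAut SL} (hφ : Odd (orderOf φ))
    (hψ : ∀ A : SL, (ψ A).1 = g.1 * A.1 * (g⁻¹).1) (hcomm : Commute φ ψ)
    (hfix : ∀ A : SL, Commute A.1 g.1 → φ (A * A) = A * A) :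
    ∃ h : GL (Fin 2) F, Commute h.1 g.1 ∧ ∀ A : SL, (φ A).1 = h.1 * A.1 * (h⁻¹).1 := by
  classical
  have h2 := GW.Model.two_ne_zero_of_odd hodd
  obtain ⟨h, e, he⟩ := exists_semi p h3 φ
  have herefl : e = RingEquiv.refl F := by
    by_contra hne
    haveI : Finite (RingAut F) := Finite.of_injective (fun g : RingAut F => (g : F → F)) DFunLike.coe_injective
    set o := orderOf (e : RingAut F) with ho
    have hpe : (e : RingAut F) ^ orderOf φ = 1 := by
      have h1 := congrArg (fun χ => PSL2.fieldPart p (toPSL χ)) (pow_orderOf_eq_one φ)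
      simp only [toPSL, map_pow, map_one] at h1
      rwa [← toPSL, fieldPart_toPSL p he] at h1
    have ho1 : o ≠ 1 := fun e1 => hne (orderOf_eq_one_iff.mp (ho.symm.trans e1))
    obtain ⟨r, hr, hro⟩ := Nat.exists_prime_and_dvd ho1
    have hoo : Odd o := hφ.of_dvd_nat (orderOf_dvd_of_pow_eq_one hpe)
    have hr2 : r ≠ 2 := fun e2 => by
      obtain ⟨k, hk⟩ := hoo
      subst e2
      omega
    obtain ⟨k, hk⟩ := hro
    obtain ⟨h', e', he'⟩ := exists_semi p h3 (φ ^ k)
    have hee : (e' : RingAut F) = (e : RingAut F) ^ k := by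
      have h1 : PSL2.fieldPart p (toPSL (φ ^ k)) = e' := fieldPart_toPSL p he'
      simp only [toPSL, map_pow] at h1
      rw [← toPSL, fieldPart_toPSL p he] at h1
      exact h1.symm
    have hk0 : k ≠ 0 := fun e0 => by
      rw [e0, mul_zero] at hk
      have := orderOf_pos (e : RingAut F)
      omega
    have hord : orderOf (e' : RingAut F) = r := by
      rw [hee, orderOf_pow, ← ho, hk, Nat.gcd_eq_right (dvd_mul_left k r), Nat.mul_div_cancel _ (Nat.pos_of_ne_zero hk0)]
    obtain ⟨b, hb, -, hbA⟩ := exists_torus hodd h3 htr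
    obtain ⟨-, hcard⟩ := SL2Tori.isCyclic_centralizer hb
    obtain ⟨s, hs, -, hs2, hsN, -, hmove⟩ := exists_prime p hodd hr hr2 hord hcard
    haveI := Fact.mk hs
    obtain ⟨A, hA⟩ := exists_prime_orderOf_dvd_card' s hsN
    have hA1 : orderOf (A : SL) = s := by rw [Subgroup.orderOf_coe]; exact hA
    have hA2 : orderOf ((A : SL) * A) = s := by
      rw [← pow_two, Nat.Coprime.orderOf_pow (by rw [hA1]; exact (Nat.coprime_primes hs Nat.prime_two).mpr hs2), hA1]
    refine hmove (φ ^ k) h' he' _ hA2 ?_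
    have hpow : ∀ n : ℕ, (φ ^ n) ((A : SL) * A) = (A : SL) * A := fun n => by
      induction n with
      | zero => simp
      | succ n ih => rw [pow_succ, MulAut.mul_apply, hfix _ ((hbA _).1 A.2), ih]
    exact hpow k
  have hφA : ∀ A : SL, (φ A).1 = h.1 * A.1 * (h⁻¹).1 := fun A => by
    rw [he A, herefl, show A.1.map (RingEquiv.refl F) = A.1 from Matrix.ext fun _ _ => rfl]
  refine ⟨h, ?_, hφA⟩
  -- `h g = ± g h`
  set k : GL (Fin 2) F := (g * h)⁻¹ * (h * g) with hk
  obtain ⟨a, ha⟩ := scalar_of_commute_all (X := k.1) fun A => by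
    have h1 := congrArg (fun χ => (χ A).1) hcomm.eq
    simp only [MulAut.mul_apply, hφA, hψ] at h1
    have h2 := congrArg (fun M => (h⁻¹).1 * ((g⁻¹).1 * M * g.1) * h.1 * k.1) h1
    rw [hk] at h2 ⊢
    simp [Units.val_mul, Matrix.mul_assoc] at h2 ⊢
    exact h2
  have hdet : k.1.det = 1 := by
    rw [hk, ← Matrix.GeneralLinearGroup.val_det_apply, map_mul, map_inv, map_mul, map_mul, mul_comm (GeneralLinearGroup.det h),
      inv_mul_cancel]
    rfl
  rw [ha, Matrix.det_smul, Fintype.card_fin, Matrix.det_one, mul_one, sq_eq_one_iff] at hdet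
  have hgh : h.1 * g.1 = a • (g.1 * h.1) := by
    calc h.1 * g.1 = (g * h).1 * k.1 := by rw [hk, ← Units.val_mul, ← Units.val_mul, mul_inv_cancel_left]
      _ = a • (g.1 * h.1) := by rw [ha, Matrix.mul_smul, mul_one, Units.val_mul]
  rcases hdet with rfl | rfl
  · show h.1 * g.1 = g.1 * h.1
    rw [hgh, one_smul]
  exfalso
  set m := orderOf φ with hm
  have hpow : ∀ (n : ℕ), (h ^ n).1 * g.1 = ((-1 : F) ^ n) • (g.1 * (h ^ n).1) ∧
      ∀ A : SL, ((φ ^ n) A).1 = (h ^ n).1 * A.1 * ((h ^ n)⁻¹).1 := fun n => by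
    induction n with
    | zero => simp
    | succ n ih =>
      refine ⟨?_, fun A => ?_⟩
      · rw [pow_succ' h n, Units.val_mul, Matrix.mul_assoc, ih.1, Matrix.mul_smul, ← Matrix.mul_assoc, hgh,
          Matrix.smul_mul, smul_smul, Matrix.mul_assoc, ← pow_succ]
      · rw [pow_succ' φ n, MulAut.mul_apply, hφA, ih.2, pow_succ' h n, _root_.mul_inv_rev, Units.val_mul, Units.val_mul]
        simp only [Matrix.mul_assoc]
  obtain ⟨c, hc⟩ := scalar_of_commute_all (X := (h ^ m).1) fun A => by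
    have h1 := ((hpow m).2 A)
    rw [hm, pow_orderOf_eq_one, MulAut.one_apply] at h1
    rw [hm]
    conv_rhs => rw [h1]
    rw [Matrix.mul_assoc, ← Units.val_mul, inv_mul_cancel, Units.val_one, mul_one]
  have h5 := (hpow m).1
  rw [hφ.neg_one_pow, hc, Matrix.smul_mul, one_mul, Matrix.mul_smul, mul_one, neg_one_smul] at h5
  have hc0 : c ≠ 0 := fun e0 => by
    have := GW.Model.det_ne (h ^ m)
    rw [hc, e0, zero_smul, Matrix.det_zero] at this
    exact this rfl
  have h6 : ((2 : F) * c) • g.1 = 0 := by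
    rw [mul_smul, two_smul]
    nth_rewrite 1 [h5]
    exact neg_add_cancel _
  have h7 : g.1 = 0 := (smul_eq_zero.mp h6).resolve_left (mul_ne_zero h2 hc0)
  have := GW.Model.det_ne g
  rw [h7, Matrix.det_zero] at this
  exact this rfl

/-- Two such conjugations commute. -/
theorem commute_conj_torus {g : GL (Fin 2) F} (hns : ∀ a : F, g.1 ≠ a • (1 : M2)) {φ φ' : MulAut SL}
    {h h' : GL (Fin 2) F} (hh : Commute h.1 g.1) (hh' : Commute h'.1 g.1)
    (hA : ∀ A : SL, (φ A).1 = h.1 * A.1 * (h⁻¹).1) (hA' : ∀ A : SL, (φ' A).1 = h'.1 * A.1 * (h'⁻¹).1) :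
    φ * φ' = φ' * φ := by
  obtain ⟨x, y, hxy⟩ := SL2Centralizer.exists_of_commute hns hh
  have hc : Commute h.1 h'.1 := by
    rw [hxy]
    exact ((Commute.one_left h'.1).smul_left x).add_left (hh'.symm.smul_left y)
  have hc' : h * h' = h' * h := Units.ext hc.eq
  refine MulEquiv.ext fun A => Subtype.ext ?_
  rw [MulAut.mul_apply, MulAut.mul_apply, hA, hA', hA', hA]
  calc h.1 * (h'.1 * A.1 * (h'⁻¹).1) * (h⁻¹).1 = (h * h').1 * A.1 * ((h * h')⁻¹).1 := by
        simp [Matrix.mul_assoc]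
    _ = (h' * h).1 * A.1 * ((h' * h)⁻¹).1 := by rw [hc']
    _ = _ := by simp [Matrix.mul_assoc]

end CfsgLib.RankTwoModel.SL2
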