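import Cfsg.Agent.Lib.RankTwo.PairElem
import Cfsg.Agent.Lib.RankTwo.TorusFix

/-!
For `[O, D] = 1` the fixed points of a commuting involution on the core commute.

Blueprint: `blueprint/RankTwo.md` (P7).
-/

set_option autoImplicit false
set_option linter.unusedSectionVars false
set_option linter.style.haveILetI false

namespace CfsgLib.RankTwoModel

open Cfsg CfsgLib.BG CfsgLib.GW CfsgLib.BenderMax
open scoped MatrixGroups commutatorElement

universe u

variable {G : Type u} [Group G] [Finite G] {d : Frame G}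

local notation "SL[" d "]" => Matrix.SpecialLinearGroup (Fin 2) (Frame.F d)

/-- Fixed elements of `SL₂` lift to elements of `D` commuting with the involution. -/
theorem Rep.lift_fixed_D (R : Rep d) (hd : d.Spec) (hq : 3 < d.q) {i : G} (hiC : i ∈ d.C) (hi : i * i = 1)
    {A : SL[d]} (hA : R.σ ⟨i, hiC⟩ A = A) :
    ∃ (y : G) (hy : y ∈ d.D), R.π ⟨y, hd.D_le_L hq hy⟩ = A ∧ y * i = i * y := by
  obtain ⟨x, hx, rfl⟩ := R.surj_D hd hq A
  rw [R.compat, ← inv_mul_eq_one, ← map_inv, ← map_mul] at hA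
  have hO : (i * x * i⁻¹)⁻¹ * x ∈ d.O := (R.ker _).1 hA
  have hmem : x * i * x⁻¹ * i⁻¹ ∈ d.O ⊓ d.D := by
    constructor
    · have h1 := Frame.Spec.O_conj (d.D_le hx) hO
      rw [show x * ((i * x * i⁻¹)⁻¹ * x) * x⁻¹ = x * (i * x * i⁻¹)⁻¹ by group] at h1
      rwa [show x * i * x⁻¹ * i⁻¹ = x * (i * x * i⁻¹)⁻¹ by group]
    · show _ ∈ d.D
      rw [show x * i * x⁻¹ * i⁻¹ = x * (i * x⁻¹ * i⁻¹) by group]
      exact mul_mem hx (d.D_conj hiC (inv_mem hx))
  obtain ⟨b, hb, hbx⟩ := lift_comm (d.O_odd.of_dvd_nat (Subgroup.card_dvd_of_le inf_le_left)) hi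
    (fun o ho => ⟨Frame.Spec.O_conj hiC ho.1, d.D_conj hiC ho.2⟩) hmem
  refine ⟨b * x, mul_mem hb.2 hx, ?_, hbx⟩
  rw [show (⟨b * x, hd.D_le_L hq (mul_mem hb.2 hx)⟩ : ↥d.L) = ⟨b, d.O_le_L hb.1⟩ * ⟨x, hd.D_le_L hq hx⟩ from rfl,
    map_mul, (R.ker _).mpr hb.1, one_mul]

/-- **The fixed points of a commuting involution on the core commute.** -/
theorem Hyp.fixed_core_comm (h : Hyp G) (hd : d.Spec) (hq : 3 < d.q)
    (hOD : ∀ x ∈ d.O, ∀ y ∈ d.D, x * y = y * x) {g : G} (hne : g * d.z * g⁻¹ ≠ d.z)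
    (hcm : g * d.z * g⁻¹ * d.z = d.z * (g * d.z * g⁻¹)) {x y : G} (hx : x ∈ d.O) (hy : y ∈ d.O)
    (hxu : x * (g * d.z * g⁻¹) = g * d.z * g⁻¹ * x) (hyu : y * (g * d.z * g⁻¹) = g * d.z * g⁻¹ * y) :
    x * y = y * x := by
  classical
  haveI : Fact d.p.Prime := ⟨hd.prime⟩
  haveI := hd.charP
  set v := g⁻¹ * d.z * g with hv
  have hvC : v ∈ d.C := by
    refine Subgroup.mem_centralizer_singleton_iff.2 ?_
    calc g⁻¹ * d.z * g * d.z = g⁻¹ * (d.z * (g * d.z * g⁻¹)) * g := by group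
      _ = g⁻¹ * (g * d.z * g⁻¹ * d.z) * g := by rw [hcm]
      _ = d.z * (g⁻¹ * d.z * g) := by group
  have hv2 : orderOf v = 2 := by rw [hv]; simpa using (orderOf_cj g⁻¹ d.z).trans hd.zord
  have hvz : v ≠ d.z := fun e => hne (by
    calc g * d.z * g⁻¹ = g * v * g⁻¹ := by rw [e]
      _ = d.z := by rw [hv]; group)
  have hvv : v * v = 1 := invol_mul_self hv2
  have hzz : d.z * d.z = 1 := invol_mul_self hd.zord
  have hzv : v * d.z = d.z * v := Frame.Spec.z_central hvC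
  obtain ⟨R⟩ := hd.exists_rep
  obtain ⟨g₀, htr, hns, hg₀⟩ := R.invol hd hq h hvC hv2 hvz
  obtain ⟨w, hw, hwv⟩ := h.swap_D hd hq hvC hv2 hvz
  have hwC := d.D_le hw
  have hwv' : w * (d.z * v) * w⁻¹ = v := by
    calc w * (d.z * v) * w⁻¹ = (w * d.z * w⁻¹) * (w * v * w⁻¹) := by group
      _ = d.z * (d.z * v) := by rw [hwv, Frame.Spec.z_central hwC, mul_inv_cancel_right]
      _ = v := by rw [← mul_assoc, hzz, one_mul]
  -- the torus
  set T : Subgroup G := d.D ⊓ Subgroup.centralizer ({v} : Set G) with hT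
  have hmemT : ∀ {t : G}, t ∈ d.D → t * v = v * t → t ∈ T := fun h1 h2 =>
    ⟨h1, Subgroup.mem_centralizer_singleton_iff.2 h2⟩
  have hTv : ∀ {t : G}, t ∈ T → t * v = v * t := fun ht => Subgroup.mem_centralizer_singleton_iff.1 ht.2
  obtain ⟨b, hb, -, hbA⟩ := SL2.exists_torus hd.odd_card (hd.three_lt hq) htr
  obtain ⟨hcyc, -⟩ := SL2Tori.isCyclic_centralizer hb
  haveI := hcyc
  have hσv : ∀ (A : SL[d]), R.σ ⟨v, hvC⟩ A = A → Commute A.1 g₀.1 := fun A hA => by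
    have h1 := congrArg Subtype.val hA
    rw [hg₀] at h1
    show A.1 * g₀.1 = g₀.1 * A.1
    conv_lhs => rw [← h1]
    simp [Matrix.mul_assoc]
  have hTcen : ∀ t : T, R.π ⟨t, hd.D_le_L hq t.2.1⟩ ∈ Subgroup.centralizer ({b} : Set SL[d]) := fun t => by
    refine (hbA _).2 (hσv _ ?_)
    rw [R.compat]
    congr 1
    exact Subtype.ext (by show v * (t : G) * v⁻¹ = t; rw [← hTv t.2, mul_inv_cancel_right])
  let f : T →* Subgroup.centralizer ({b} : Set SL[d]) :=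
    (R.π.comp (Subgroup.inclusion (inf_le_left.trans (hd.D_le_L hq) : T ≤ d.L))).codRestrict _ hTcen
  have hfker : f.ker ≤ Subgroup.center T := fun t ht => Subgroup.mem_center_iff.2 fun t' => Subtype.ext
    (hOD _ ((R.ker _).1 (congrArg Subtype.val ht)) _ t'.2.1).symm
  have hTab : ∀ a ∈ T, ∀ c ∈ T, a * c = c * a := fun a ha c hc =>
    congrArg Subtype.val (commutative_of_cyclic_center_quotient f hfker ⟨a, ha⟩ ⟨c, hc⟩)
  have hwT : ∀ t ∈ T, w * t * w⁻¹ ∈ T := fun t ht => hmemT (mul_mem (mul_mem hw ht.1) (inv_mem hw)) (by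
    have h1 : Commute t (d.z * v) := (show Commute t d.z from Frame.Spec.z_central (d.D_le ht.1)).mul_right (hTv ht)
    have h2 := (Commute.conj_iff w).2 h1
    rw [hwv'] at h2
    exact h2.eq)
  have hw2 : w * w ∈ T := hmemT (mul_mem hw hw) (by
    calc w * w * v = w * (w * v * w⁻¹) * w⁻¹ * (w * w) := by group
      _ = v * (w * w) := by rw [hwv, hwv'])
  have hcar : ∀ k ∈ d.O, k * (g * d.z * g⁻¹) = g * d.z * g⁻¹ * k →
      g⁻¹ * k * g ∈ d.C ∧ (g⁻¹ * k * g) * v = v * (g⁻¹ * k * g) := fun k hk hku => by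
    refine ⟨Subgroup.mem_centralizer_singleton_iff.2 ?_, ?_⟩
    · calc g⁻¹ * k * g * d.z = g⁻¹ * (k * (g * d.z * g⁻¹)) * g := by group
        _ = g⁻¹ * (g * d.z * g⁻¹ * k) * g := by rw [hku]
        _ = d.z * (g⁻¹ * k * g) := by group
    · have e := Frame.Spec.z_central (d.O_le hk)
      rw [hv]
      calc g⁻¹ * k * g * (g⁻¹ * d.z * g) = g⁻¹ * (k * d.z) * g := by group
        _ = g⁻¹ * (d.z * k) * g := by rw [e]
        _ = _ := by group
  -- the squares of the torus are fixed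
  have key : ∀ k ∈ d.O, ∀ hku : k * (g * d.z * g⁻¹) = g * d.z * g⁻¹ * k, ∀ (hk' : g⁻¹ * k * g ∈ d.C),
      ∃ h' : GL (Fin 2) d.F, Commute h'.1 g₀.1 ∧
        ∀ A : SL[d], (R.σ ⟨g⁻¹ * k * g, hk'⟩ A).1 = h'.1 * A.1 * (h'⁻¹).1 := by
    intro k hk hku hk'
    set k' := g⁻¹ * k * g with hkk
    have hk'v : k' * v = v * k' := (hcar k hk hku).2
    have hodd : Odd (orderOf (⟨k', hk'⟩ : ↥d.C)) := by
      rw [Subgroup.orderOf_mk, show orderOf k' = orderOf k from by rw [hkk]; simpa using orderOf_cj g⁻¹ k]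
      exact d.O_odd.of_dvd_nat (Subgroup.orderOf_dvd_natCard _ hk)
    refine SL2.exists_conj_torus d.p hd.odd_card (hd.three_lt hq) htr (hodd.of_dvd_nat (orderOf_map_dvd R.σ _))
      hg₀ ?_ fun A hA => ?_
    · exact (show Commute (⟨k', hk'⟩ : ↥d.C) ⟨v, hvC⟩ from Subtype.ext hk'v).map R.σ
    have hAfix : R.σ ⟨v, hvC⟩ A = A := Subtype.ext (by
      rw [hg₀, ← hA.eq, Matrix.mul_assoc, ← Units.val_mul, mul_inv_cancel, Units.val_one, Matrix.mul_one])
    obtain ⟨t, htD, htA, htv⟩ := R.lift_fixed_D hd hq hvC hvv hAfix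
    have htT : t ∈ T := hmemT htD htv
    -- `π w` inverts the torus
    set W := R.π ⟨w, hd.D_le_L hq hw⟩ with hW
    have hgW : g₀.1 * W.1 * (g₀⁻¹).1 = -W.1 := by
      have hc := R.compat ⟨v, hvC⟩ ⟨w, hd.D_le_L hq hw⟩
      have e1 : v * w * v⁻¹ = d.z * w := by
        calc v * w * v⁻¹ = v * (w * v * w⁻¹)⁻¹ * w := by group
          _ = v * (v * d.z)⁻¹ * w := by rw [hwv, hzv]
          _ = d.z * w := by rw [mul_inv_rev, inv_eq_of_mul_eq_one_right hvv, inv_eq_of_mul_eq_one_right hzz,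
              ← mul_assoc v, hzv, mul_assoc d.z, hvv, mul_one]
      have e2 : (⟨v * w * v⁻¹, d.L_conj hvC (hd.D_le_L hq hw)⟩ : ↥d.L) = ⟨d.z, hd.z_mem_L⟩ * ⟨w, hd.D_le_L hq hw⟩ :=
        Subtype.ext e1
      rw [show R.π ⟨(⟨v, hvC⟩ : ↥d.C) * ((⟨w, hd.D_le_L hq hw⟩ : ↥d.L) : G) * ((⟨v, hvC⟩ : ↥d.C) : G)⁻¹, _⟩ = _
        from congrArg R.π e2, map_mul, R.pi_z hd, ← hW] at hc
      have h1 := congrArg Subtype.val hc
      rw [hg₀] at h1
      simpa using h1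
    have hinv : A * (W * A * W⁻¹) = 1 := by
      obtain ⟨a, c, hac⟩ := SL2Centralizer.exists_of_commute hns hA
      have hgW' : W.1 * g₀.1 = -(g₀.1 * W.1) := by
        have h1 := congrArg (fun M => M * g₀.1) hgW
        simp only [Matrix.mul_assoc, ← Units.val_mul, inv_mul_cancel, Units.val_one, Matrix.mul_one,
          Matrix.neg_mul] at h1
        rw [h1, neg_neg]
      have hWA : W.1 * A.1 = (a • (1 : Matrix (Fin 2) (Fin 2) d.F) - c • g₀.1) * W.1 := by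
        rw [hac, Matrix.mul_add, Matrix.sub_mul, Matrix.mul_smul, Matrix.mul_smul, Matrix.smul_mul, Matrix.smul_mul,
          Matrix.mul_one, Matrix.one_mul, hgW', smul_neg, sub_eq_add_neg]
      have h11 : g₀.1 1 1 = -g₀.1 0 0 := by rw [Matrix.trace_fin_two] at htr; linear_combination htr
      have hdet := A.2
      rw [hac, Matrix.det_fin_two] at hdet
      simp [h11] at hdet
      refine Subtype.ext ?_
      show A.1 * (W.1 * A.1 * (W⁻¹).1) = 1
      rw [hWA, Matrix.mul_assoc (a • (1 : Matrix (Fin 2) (Fin 2) d.F) - c • g₀.1), show W.1 * (W⁻¹).1 = 1 from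
        congrArg Subtype.val (mul_inv_cancel W), Matrix.mul_one, hac]
      ext i j
      fin_cases i <;> fin_cases j <;> simp [Matrix.mul_apply, Fin.sum_univ_two, h11] <;>
        first | linear_combination hdet | linear_combination -hdet | ring
    -- the element inverted by `w`
    set s := t * (w * t⁻¹ * w⁻¹) with hs
    have hsT : s ∈ T := mul_mem htT (hwT _ (inv_mem htT))
    have hws : w * s * w⁻¹ = s⁻¹ := by
      calc w * s * w⁻¹ = w * t * w⁻¹ * ((w * w) * t⁻¹ * (w * w)⁻¹) := by rw [hs]; group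
        _ = w * t * w⁻¹ * t⁻¹ := by rw [hTab _ hw2 _ (inv_mem htT), mul_inv_cancel_right]
        _ = s⁻¹ := by rw [hs]; group
    have hsA : R.π ⟨s, hd.D_le_L hq hsT.1⟩ = A * A := by
      rw [show (⟨s, hd.D_le_L hq hsT.1⟩ : ↥d.L) = ⟨t, hd.D_le_L hq htD⟩ * (⟨w, hd.D_le_L hq hw⟩ *
        ⟨t, hd.D_le_L hq htD⟩⁻¹ * ⟨w, hd.D_le_L hq hw⟩⁻¹) from rfl, map_mul, map_mul, map_mul, map_inv, map_inv,
        htA, ← hW]
      congr 1
      have h1 := eq_inv_of_mul_eq_one_right hinv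
      calc W * A⁻¹ * W⁻¹ = (W * A * W⁻¹)⁻¹ := by group
        _ = A := by rw [h1, inv_inv]
    have hk'T : ∀ t ∈ T, k' * t * k'⁻¹ ∈ T := fun t ht => hmemT (d.D_conj hk' ht.1)
      (((Commute.conj_iff k').2 (hTv ht)).eq |> fun e => by
        rwa [show k' * v * k'⁻¹ = v from mul_inv_eq_iff_eq_mul.2 hk'v] at e)
    set s' := k' * s * k'⁻¹ with hs'
    have hs'T : s' ∈ T := hk'T s hsT
    have hws' : w * s' * w⁻¹ = s'⁻¹ := by
      set τ := w⁻¹ * (k' * w * k'⁻¹) with hτ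
      have hτT : τ ∈ T := hmemT (mul_mem (inv_mem hw) (d.D_conj hk' hw)) (by
        have e1 : k' * w * k'⁻¹ * v * (k' * w * k'⁻¹)⁻¹ = d.z * v := by
          calc k' * w * k'⁻¹ * v * (k' * w * k'⁻¹)⁻¹ = k' * (w * (k'⁻¹ * v * k') * w⁻¹) * k'⁻¹ := by group
            _ = k' * (d.z * v) * k'⁻¹ := by
              rw [show k'⁻¹ * v * k' = v from by rw [mul_assoc, ← hk'v, inv_mul_cancel_left], hwv]
            _ = (k' * d.z * k'⁻¹) * (k' * v * k'⁻¹) := by group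
            _ = _ := by rw [Frame.Spec.z_central hk', hk'v, mul_inv_cancel_right, mul_inv_cancel_right]
        have e2 : τ * v * τ⁻¹ = v := by
          calc τ * v * τ⁻¹ = w⁻¹ * (k' * w * k'⁻¹ * v * (k' * w * k'⁻¹)⁻¹) * w := by rw [hτ]; group
            _ = w⁻¹ * (w * v * w⁻¹) * w := by rw [e1, hwv]
            _ = v := by group
        exact mul_inv_eq_iff_eq_mul.1 e2)
      calc w * s' * w⁻¹ = k' * w * k'⁻¹ * (τ⁻¹ * s' * τ) * (k' * w * k'⁻¹)⁻¹ := by rw [hτ]; group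
        _ = k' * w * k'⁻¹ * s' * (k' * w * k'⁻¹)⁻¹ := by
          rw [hTab _ (inv_mem hτT) _ hs'T, inv_mul_cancel_right]
        _ = k' * (w * s * w⁻¹) * k'⁻¹ := by rw [hs']; group
        _ = s'⁻¹ := by rw [hws, hs']; group
    set c := s' * s⁻¹ with hc
    have hwc : w * c * w⁻¹ = c⁻¹ := by
      calc w * c * w⁻¹ = w * s' * w⁻¹ * (w * s * w⁻¹)⁻¹ := by rw [hc]; group
        _ = s * s'⁻¹ := by rw [hws', hws, inv_inv, hTab _ (inv_mem hs'T) _ hsT]
        _ = c⁻¹ := by rw [hc]; group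
    -- it lies in the core at `v`
    have hsO : g * s * g⁻¹ * k⁻¹ * (g * s * g⁻¹)⁻¹ ∈ d.O := by
      refine Frame.Spec.O_conj ?_ (inv_mem hk)
      refine Subgroup.mem_centralizer_singleton_iff.2 ?_
      calc g * s * g⁻¹ * d.z = g * (s * v) * g⁻¹ := by rw [hv]; group
        _ = g * (v * s) * g⁻¹ := by rw [hTv hsT]
        _ = d.z * (g * s * g⁻¹) := by rw [hv]; group
    have hgc : g * c * g⁻¹ ∈ d.O := by
      rw [show g * c * g⁻¹ = k * (g * s * g⁻¹ * k⁻¹ * (g * s * g⁻¹)⁻¹) by rw [hc, hs', hkk]; group]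
      exact mul_mem hk hsO
    have hc1 : g * c * g⁻¹ = 1 := by
      have hwzv : g * w * g⁻¹ * d.z * (g * w * g⁻¹)⁻¹ = g * d.z * g⁻¹ * d.z := by
        calc g * w * g⁻¹ * d.z * (g * w * g⁻¹)⁻¹ = g * (w * v * w⁻¹) * g⁻¹ := by rw [hv]; group
          _ = g * (d.z * v) * g⁻¹ := by rw [hwv]
          _ = _ := by rw [hv]; group
      refine h.pair_trivial_elem hd hq hOD (g := g * w * g⁻¹) ?_ ?_
        (d.O_odd.of_dvd_nat (Subgroup.orderOf_dvd_natCard _ hgc)) (fun a ha => hOD _ hgc a ha) fun a ha => ?_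
      · rw [hwzv]
        intro e
        have h1 : g * d.z * g⁻¹ = 1 := mul_eq_right.1 e
        rw [conj_eq_one_iff] at h1
        have := hd.zord
        rw [h1, orderOf_one] at this
        omega
      · rw [hwzv, hcm, mul_assoc, hcm]
      · have e : Commute (g * c⁻¹ * g⁻¹) a := by
          rw [show g * c⁻¹ * g⁻¹ = (g * c * g⁻¹)⁻¹ by group]
          exact (show Commute (g * c * g⁻¹) a from hOD _ hgc a ha).inv_left
        have e' := (Commute.conj_iff (g * w * g⁻¹)).2 e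
        rw [show g * w * g⁻¹ * (g * c⁻¹ * g⁻¹) * (g * w * g⁻¹)⁻¹ = g * (w * c * w⁻¹)⁻¹ * g⁻¹ by group,
          hwc, inv_inv] at e'
        exact e'.eq
    have hss : k' * s * k'⁻¹ = s := by
      rw [conj_eq_one_iff, hc, mul_inv_eq_one] at hc1
      exact hc1
    rw [← hsA, R.compat]
    congr 1
    exact Subtype.ext hss
  obtain ⟨hx', -⟩ := hcar x hx hxu
  obtain ⟨hy', -⟩ := hcar y hy hyu
  obtain ⟨a, ha, ha'⟩ := key x hx hxu hx'
  obtain ⟨c, hc, hc'⟩ := key y hy hyu hy'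
  have hcom : Commute (R.σ ⟨g⁻¹ * x * g, hx'⟩) (R.σ ⟨g⁻¹ * y * g, hy'⟩) := SL2.commute_conj_torus hns ha hc ha' hc'
  set e := (g⁻¹ * x * g) * (g⁻¹ * y * g) * (g⁻¹ * x * g)⁻¹ * (g⁻¹ * y * g)⁻¹ with he
  have hege : g * e * g⁻¹ = x * y * x⁻¹ * y⁻¹ := by rw [he]; group
  have hexy : g * e * g⁻¹ ∈ d.O := by
    rw [hege]; exact mul_mem (mul_mem (mul_mem hx hy) (inv_mem hx)) (inv_mem hy)
  have heC : e ∈ d.C := mul_mem (mul_mem (mul_mem hx' hy') (inv_mem hx')) (inv_mem hy')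
  have heO : e ∈ d.O := by
    refine R.sigma_eq_one hd hq h heC ?_ ?_
    · rw [← orderOf_cj g e]; exact d.O_odd.of_dvd_nat (Subgroup.orderOf_dvd_natCard _ hexy)
    · rw [show (⟨e, heC⟩ : ↥d.C) = ⁅(⟨g⁻¹ * x * g, hx'⟩ : ↥d.C), ⟨g⁻¹ * y * g, hy'⟩⁆ from rfl, map_commutatorElement,
        commutatorElement_eq_one_iff_mul_comm]
      exact hcom.eq
  have h1 := h.core_meet hd hq hOD hne hcm hexy (by rwa [show g⁻¹ * (g * e * g⁻¹) * g = e by group])
  rw [hege, mul_inv_eq_one, mul_inv_eq_iff_eq_mul] at h1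
  exact h1

end CfsgLib.RankTwoModel
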