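import Cfsg.Agent.Lib.CharTheory.Clifford
import Cfsg.Agent.Lib.CharTheory.More

/-!
# Characters of a normal subgroup extended by an involution

`coset_ext`: for a non-trivial invariant character `θ` of `N` the characters over `θ` of the union of `N` and `z * N`
extend `θ` and have sum zero on the coset.
-/

set_option autoImplicit false
set_option linter.unusedSectionVars false
set_option linter.style.haveILetI false

namespace CfsgLib.RankTwo

open Cfsg CfsgLib.CharTheory
open scoped ComplexConjugate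

universe u

theorem sum_irr_eq_zero {H : Type u} [Group H] [Fintype H] {θ : H → ℂ} (hθ : IsIrrCharacter H θ)
    (h1 : θ ≠ fun _ => 1) : ∑ h : H, θ h = 0 := by
  have h := classInner_irr_ne hθ isIrrCharacter_one h1
  simp only [classInner, map_one, mul_one, mul_eq_zero, inv_eq_zero, Nat.cast_eq_zero, Nat.card_pos.ne',
    false_or] at h
  exact h

variable {X : Type u} [Group X] [Fintype X] (N : Subgroup X) [Fintype N] [N.Normal]

/-- The group `N ∪ z N` and its characters over an invariant character. -/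
theorem coset_ext {z : X} (hz : z * z = 1) (hzN : z ∉ N) {θ : N → ℂ} (hθ : IsIrrCharacter N θ)
    (h1 : θ ≠ fun _ => 1) (hfix : conjNormFun N z θ = θ) :
    ∃ (K : Subgroup X) (hNK : N ≤ K) (hzn : ∀ n : N, z * (n : X) ∈ K) (_ : Fintype K),
      (∀ a b : K → ℂ, 2 * (Nat.card N : ℂ) * classInner a b =
        ∑ n : N, a ⟨n, hNK n.2⟩ * conj (b ⟨n, hNK n.2⟩) +
          ∑ n : N, a ⟨z * n, hzn n⟩ * conj (b ⟨z * n, hzn n⟩)) ∧
      (∀ ξ : K → ℂ, IsIrrCharacter K ξ → classInner (fun n : N => ξ ⟨n, hNK n.2⟩) θ ≠ 0 →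
        (∀ n : N, ξ ⟨n, hNK n.2⟩ = θ n) ∧ ∑ n : N, ξ ⟨z * n, hzn n⟩ = 0) ∧
      ∃ ξ : K → ℂ, IsIrrCharacter K ξ ∧ classInner (fun n : N => ξ ⟨n, hNK n.2⟩) θ ≠ 0 := by
  classical
  have hzi : z⁻¹ = z := inv_eq_of_mul_eq_one_right hz
  have hconjz : ∀ x ∈ N, z * x * z ∈ N := fun x hx => by
    have h := Subgroup.Normal.conj_mem (inferInstance : N.Normal) x hx z
    rwa [hzi] at h
  let K : Subgroup X :=
    { carrier := {x | x ∈ N ∨ z * x ∈ N}
      one_mem' := Or.inl (one_mem N)
      mul_mem' := by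
        rintro a b (ha | ha) (hb | hb)
        · exact Or.inl (mul_mem ha hb)
        · refine Or.inr ?_
          have h := mul_mem (hconjz a ha) hb
          rw [mul_assoc (z * a) z (z * b), ← mul_assoc z z b, hz, one_mul, mul_assoc z a b] at h
          exact h
        · refine Or.inr ?_
          rw [← mul_assoc]
          exact mul_mem ha hb
        · refine Or.inl ?_
          have h := mul_mem (hconjz _ ha) hb
          rw [show z * (z * a) * z * (z * b) = a * b by
            rw [← mul_assoc z z a, hz, one_mul, mul_assoc a z (z * b), ← mul_assoc z z b, hz, one_mul]] at h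
          exact h
      inv_mem' := by
        rintro a (ha | ha)
        · exact Or.inl (inv_mem ha)
        · refine Or.inr ?_
          have h := inv_mem (hconjz _ ha)
          rw [← mul_assoc z z a, hz, one_mul, mul_inv_rev, hzi] at h
          exact h }
  have hNK : N ≤ K := fun x hx => Or.inl hx
  have hzK : z ∈ K := Or.inr (hz ▸ one_mem N)
  have hzn : ∀ n : N, z * (n : X) ∈ K := fun n => mul_mem hzK (hNK n.2)
  letI : Fintype K := Fintype.ofFinite _
  have hKI : K ≤ inertia N θ := by
    rintro x (hx | hx)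
    · exact le_inertia N (isClassFunction_irr hθ) hx
    · have h := mul_mem ((mem_inertia N).2 hfix) (le_inertia N (isClassFunction_irr hθ) hx)
      rwa [← mul_assoc, hz, one_mul] at h
  have hsplit : ∀ f : K → ℂ, ∑ x : K, f x =
      ∑ n : N, f ⟨n, hNK n.2⟩ + ∑ n : N, f ⟨z * n, hzn n⟩ := by
    intro f
    rw [← Finset.sum_filter_add_sum_filter_not Finset.univ (fun x : K => (x : X) ∈ N)]
    congr 1
    · exact Finset.sum_bij' (fun x hx => (⟨x, (Finset.mem_filter.1 hx).2⟩ : N)) (fun n _ => ⟨n, hNK n.2⟩)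
        (fun _ _ => Finset.mem_univ _) (fun n _ => Finset.mem_filter.2 ⟨Finset.mem_univ _, n.2⟩)
        (fun _ _ => rfl) (fun _ _ => rfl) (fun _ _ => rfl)
    · refine Finset.sum_bij'
        (fun x hx => (⟨z * x, x.2.resolve_left (Finset.mem_filter.1 hx).2⟩ : N))
        (fun n _ => ⟨z * n, hzn n⟩)
        (fun _ _ => Finset.mem_univ _)
        (fun n _ => Finset.mem_filter.2 ⟨Finset.mem_univ _, fun h => hzN ?_⟩)
        (fun x _ => Subtype.ext (by show z * (z * (x : X)) = x; rw [← mul_assoc, hz, one_mul]))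
        (fun n _ => Subtype.ext (by show z * (z * (n : X)) = n; rw [← mul_assoc, hz, one_mul]))
        (fun x _ => congrArg f (Subtype.ext (by show (x : X) = z * (z * x); rw [← mul_assoc, hz, one_mul])))
      have := mul_mem h (inv_mem n.2)
      rwa [mul_inv_cancel_right] at this
  have hcardK : (Nat.card K : ℂ) = 2 * (Nat.card N : ℂ) := by
    have h := hsplit fun _ => 1
    simp only [Finset.sum_const, nsmul_one, Finset.card_univ, ← Nat.card_eq_fintype_card] at h
    rw [h]; ring
  have hNne : (Nat.card N : ℂ) ≠ 0 := Nat.cast_ne_zero.2 Nat.card_pos.ne'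
  have hinner : ∀ a b : K → ℂ, 2 * (Nat.card N : ℂ) * classInner a b =
      ∑ n : N, a ⟨n, hNK n.2⟩ * conj (b ⟨n, hNK n.2⟩) +
        ∑ n : N, a ⟨z * n, hzn n⟩ * conj (b ⟨z * n, hzn n⟩) := by
    intro a b
    rw [classInner, ← hcardK, mul_inv_cancel_left₀ (Nat.cast_ne_zero.2 Nat.card_pos.ne'), hsplit]
  have hθθ : ∑ n : N, θ n * conj (θ n) = (Nat.card N : ℂ) := by
    have h := classInner_irr_self hθ
    rwa [classInner, inv_mul_eq_iff_eq_mul₀ hNne, mul_one] at h
  refine ⟨K, hNK, hzn, inferInstance, hinner, fun ξ hξ hne => ?_, ?_⟩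
  · have hres := res_of_inertia N hθ hNK hKI hξ hne
    obtain ⟨k, hk⟩ : ∃ k : ℕ, classInner (fun n : N => ξ ⟨n, hNK n.2⟩) θ = (k : ℂ) := classInner_char_nat
      (isCharacter_comp (isCharacter_of_irr hξ) (Subgroup.inclusion hNK) : IsCharacter N fun n => ξ ⟨n, hNK n.2⟩)
      (isCharacter_of_irr hθ)
    rw [hk] at hres hne
    have hξN : ∀ n : N, ξ ⟨n, hNK n.2⟩ = (k : ℂ) * θ n := fun n => congrFun hres n
    have hk1 : k = 1 := by
      have h := hinner ξ ξ
      rw [classInner_irr_self hξ] at h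
      simp only [hξN, map_mul, map_natCast] at h
      rw [Finset.sum_congr rfl fun n _ => show (k : ℂ) * θ n * ((k : ℂ) * conj (θ n)) =
        ((k : ℂ) * k) * (θ n * conj (θ n)) by ring, ← Finset.mul_sum, hθθ] at h
      have hr := congrArg Complex.re h
      rw [Complex.add_re, Complex.re_sum] at hr
      simp only [Complex.mul_conj, Complex.ofReal_re, mul_one] at hr
      have hnn : 0 ≤ ∑ n : N, Complex.normSq (ξ ⟨z * n, hzn n⟩) :=
        Finset.sum_nonneg fun n _ => Complex.normSq_nonneg _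
      have hr' : ((k * k * Nat.card N : ℕ) : ℝ) ≤ ((2 * Nat.card N : ℕ) : ℝ) := by
        have e1 : (((k : ℂ) * k) * (Nat.card N : ℂ)).re = ((k * k * Nat.card N : ℕ) : ℝ) := by
          rw [← Nat.cast_mul, ← Nat.cast_mul, Complex.natCast_re]
        have e2 : ((2 : ℂ) * (Nat.card N : ℂ)).re = ((2 * Nat.card N : ℕ) : ℝ) := by
          rw [show (2 : ℂ) = ((2 : ℕ) : ℂ) from rfl, ← Nat.cast_mul, Complex.natCast_re]
        rw [e1, e2] at hr
        linarith
      have hkk : k * k ≤ 2 := Nat.le_of_mul_le_mul_right (by exact_mod_cast hr') Nat.card_pos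
      have hk0 : k ≠ 0 := fun h0 => hne (by rw [h0, Nat.cast_zero])
      have hk2 : k ≤ 1 := by
        by_contra hc
        have := Nat.mul_le_mul (show 2 ≤ k by omega) (show 2 ≤ k by omega)
        omega
      omega
    subst hk1
    simp only [Nat.cast_one, one_mul] at hξN
    refine ⟨hξN, ?_⟩
    have hsum : ∑ x : K, ξ x = 0 := sum_irr_eq_zero hξ fun e' => h1 (funext fun n => by rw [← hξN n, e'])
    rw [hsplit] at hsum
    simpa only [hξN, sum_irr_eq_zero hθ h1, zero_add] using hsum
  · set N1 := N.subgroupOf K with hN1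
    haveI : Fintype N1 := Fintype.ofFinite _
    set θ1 : N1 → ℂ := fun x => θ ⟨(x : K), Subgroup.mem_subgroupOf.mp x.2⟩ with hθ1
    have hθ1irr : IsIrrCharacter N1 θ1 := isIrr_subgroupOf N hNK hθ
    have hind : indFun N1 θ1 ≠ 0 := by
      intro h0
      have h := classInner_indFun_self N1 hθ1irr
      rw [h0] at h
      have hz0 : classInner (0 : K → ℂ) 0 = 0 := by simp [classInner]
      rw [hz0] at h
      have hpos : (Nat.card (inertia N1 θ1) : ℂ) ≠ 0 := Nat.cast_ne_zero.2 Nat.card_pos.ne'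
      simp at h
      exact hpos (by rw [Nat.card_eq_fintype_card]; exact h.symm)
    obtain ⟨ξ, hξ, hξi⟩ := exists_constituent (isCharacter_indFun N1 (isCharacter_of_irr hθ1irr)) hind
    refine ⟨ξ, hξ, ?_⟩
    rw [← classInner_subgroupOf N hNK ξ θ, ← classInner_comm, map_ne_zero,
      ← frobenius_reciprocity N1 θ1 (isClassFunction_irr hξ)]
    exact hξi

end CfsgLib.RankTwo
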