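import Cfsg.Agent.Lib.RankTwo.HeisPerm

/-!
# Minimal covers of a simple group with a Heisenberg subgroup

`Cov N q`: `K / N` is simple with a Heisenberg subgroup and no proper subgroup of `K` covers it.
Such a `K` is perfect and fixes every point of a set with fewer than `q ^ 2` points.
-/

set_option autoImplicit false
set_option linter.unusedSectionVars false
set_option linter.style.haveILetI false

open scoped commutatorElement

namespace CfsgLib.RankTwo

universe u v

namespace Heis

variable {L : Type u} [Group L] {z : L} {q : ℕ} (H : Heis L z q)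
include H

theorem R_ne_bot (hq : 1 < q) : H.R ≠ ⊥ := by
  intro h
  have := H.cardR
  rw [h, Subgroup.card_bot] at this
  omega

theorem noncomm [Finite L] (hq : 1 < q) : ∃ a b : L, a * b ≠ b * a := by
  by_contra h
  push Not at h
  refine H.R_ne_bot hq ((Subgroup.eq_bot_iff_forall _).2 fun r hr => ?_)
  obtain ⟨g, hgQ, hgR⟩ : ∃ g ∈ H.Q, g ∉ H.R := by
    by_contra hc
    push Not at hc
    have h1 : H.Q = H.R := le_antisymm hc H.RQ
    have h2 := H.cardQ
    rw [h1, H.cardR] at h2
    have h3 : q ^ 1 < q ^ 3 := Nat.pow_lt_pow_right hq (by norm_num)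
    rw [pow_one, ← h2] at h3
    omega
  obtain ⟨k, -, rfl⟩ := H.surjQ g hgQ hgR r hr
  rw [h g k, mul_inv_cancel_right, mul_inv_cancel]

/-- In a non-trivial action of a simple group the centre moves a point. -/
theorem exists_moved [IsSimpleGroup L] {Ω : Type v} [MulAction L Ω] (hq : 1 < q)
    (hne : ∃ (g : L) (ω : Ω), g • ω ≠ ω) : ∃ r ∈ H.R, ∃ ω : Ω, r • ω ≠ ω := by
  by_contra h
  push Not at h
  have hle : H.R ≤ (MulAction.toPermHom L Ω).ker := fun r hr => MonoidHom.mem_ker.2 (Equiv.ext fun ω => h r hr ω)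
  rcases Subgroup.Normal.eq_bot_or_eq_top (MonoidHom.normal_ker (MulAction.toPermHom L Ω)) with hb | ht
  · exact H.R_ne_bot hq (le_bot_iff.1 (hb ▸ hle))
  · obtain ⟨g, ω, hg⟩ := hne
    exact hg (DFunLike.congr_fun (MonoidHom.mem_ker.1 (ht ▸ Subgroup.mem_top g)) ω)

/-- A simple group with a Heisenberg subgroup acts trivially on fewer than `q ^ 2` points. -/
theorem fixed_of_small [Finite L] [IsSimpleGroup L] {Ω : Type v} [MulAction L Ω] [Finite Ω] (hz : z * z = 1)
    (hq : Odd q) (hq1 : 1 < q) (hsmall : Nat.card Ω < q ^ 2) (g : L) (ω : Ω) : g • ω = ω := by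
  by_contra h
  exact absurd (H.card_ge hz hq (H.exists_moved hq1 ⟨g, ω, h⟩)).1 (not_le.2 hsmall)

end Heis

variable {K : Type u} [Group K]

/-- A minimal cover of a simple group with a Heisenberg subgroup. -/
structure Cov (N : Subgroup K) [N.Normal] (q : ℕ) where
  /-- The involution. -/
  z : K ⧸ N
  /-- The Heisenberg subgroup. -/
  heis : Heis (K ⧸ N) z q
  simple : IsSimpleGroup (K ⧸ N)
  zz : z * z = 1
  qodd : Odd q
  q5 : 5 ≤ q
  min : ∀ K' : Subgroup K, K' ⊔ N = ⊤ → K' = ⊤

namespace Cov

variable {N : Subgroup K} [N.Normal] {q : ℕ} [Finite K] (c : Cov N q)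
include c

theorem commutator_top : commutator K = ⊤ := by
  haveI := c.simple
  refine c.min _ ?_
  have h1 : (commutator K).map (QuotientGroup.mk' N) = ⊤ := by
    rw [commutator_eq_closure, MonoidHom.map_closure]
    refine (Subgroup.Normal.eq_bot_or_eq_top ?_).resolve_left fun hb => ?_
    · rw [← MonoidHom.map_closure, ← commutator_eq_closure]
      exact (inferInstance : (commutator K).Normal).map _ (QuotientGroup.mk'_surjective N)
    · obtain ⟨a, b, hab⟩ := c.heis.noncomm (by have := c.q5; omega)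
      obtain ⟨x, rfl⟩ := QuotientGroup.mk'_surjective N a
      obtain ⟨y, rfl⟩ := QuotientGroup.mk'_surjective N b
      rw [← MonoidHom.map_closure, ← commutator_eq_closure] at hb
      have h2 : QuotientGroup.mk' N ⁅x, y⁆ ∈ (commutator K).map (QuotientGroup.mk' N) :=
        ⟨_, Subgroup.commutator_mem_commutator (Subgroup.mem_top x) (Subgroup.mem_top y), rfl⟩
      rw [hb, Subgroup.mem_bot, map_commutatorElement, commutatorElement_eq_one_iff_mul_comm] at h2
      exact hab h2
  have h3 := congrArg (Subgroup.comap (QuotientGroup.mk' N)) h1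
  rwa [Subgroup.comap_map_eq, QuotientGroup.ker_mk', Subgroup.comap_top] at h3

/-- A homomorphism into a commutative group is trivial. -/
theorem hom_comm_trivial {M : Type v} [Group M] (f : K →* M) (hM : ∀ a b : K, f a * f b = f b * f a) (k : K) :
    f k = 1 := by
  have hle : commutator K ≤ f.ker := by
    rw [commutator_eq_closure, Subgroup.closure_le]
    rintro _ ⟨a, b, rfl⟩
    rw [SetLike.mem_coe, MonoidHom.mem_ker, map_commutatorElement, commutatorElement_eq_one_iff_mul_comm]
    exact hM a b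
  exact MonoidHom.mem_ker.1 (hle (c.commutator_top ▸ Subgroup.mem_top k))

/-- A minimal cover fixes every point of a small set. -/
theorem fixed_of_small {Ω : Type v} [MulAction K Ω] [Finite Ω] (hsmall : Nat.card Ω < q ^ 2) (k : K) (ω : Ω) :
    k • ω = ω := by
  classical
  haveI := c.simple
  let Qo := Quotient (MulAction.orbitRel N Ω)
  have hN : ∀ (g : K) (n : N) (x : Ω), (⟦g • (n : K) • x⟧ : Qo) = ⟦g • x⟧ := fun g n x => Quotient.sound
    (⟨⟨g * n * g⁻¹, Subgroup.Normal.conj_mem inferInstance _ n.2 g⟩, by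
      show (g * n * g⁻¹) • g • x = g • (n : K) • x
      rw [smul_smul, inv_mul_cancel_right, ← smul_smul]⟩)
  have hwd : ∀ (g : K) (x y : Ω), MulAction.orbitRel N Ω x y → (⟦g • x⟧ : Qo) = ⟦g • y⟧ := by
    rintro g x y ⟨n, rfl⟩
    exact hN g n y
  let act : K →* Equiv.Perm Qo :=
    { toFun := fun g =>
        { toFun := Quotient.lift (fun x => (⟦g • x⟧ : Qo)) (hwd g)
          invFun := Quotient.lift (fun x => (⟦g⁻¹ • x⟧ : Qo)) (hwd g⁻¹)
          left_inv := by rintro ⟨x⟩; exact congrArg Quotient.mk'' (inv_smul_smul g x)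
          right_inv := by rintro ⟨x⟩; exact congrArg Quotient.mk'' (smul_inv_smul g x) }
      map_one' := Equiv.ext (by rintro ⟨x⟩; exact congrArg Quotient.mk'' (one_smul K x))
      map_mul' := fun a b => Equiv.ext (by rintro ⟨x⟩; exact congrArg Quotient.mk'' (mul_smul a b x)) }
  have hker : N ≤ act.ker := fun n hn => MonoidHom.mem_ker.2 (Equiv.ext (by
    rintro ⟨x⟩
    exact Quotient.sound ⟨⟨n, hn⟩, rfl⟩))
  let act' : K ⧸ N →* Equiv.Perm Qo := QuotientGroup.lift N act hker
  letI : MulAction (K ⧸ N) Qo := MulAction.compHom Qo act'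
  have hle : Nat.card Qo ≤ Nat.card Ω := Nat.card_le_card_of_surjective _ Quotient.mk''_surjective
  have horb : ∀ (g : K) (x : Ω), g • x ∈ MulAction.orbit N x := fun g x => by
    have h := c.heis.fixed_of_small c.zz c.qodd (by have := c.q5; omega) (lt_of_le_of_lt hle hsmall)
      (g : K ⧸ N) (⟦x⟧ : Qo)
    exact Quotient.exact (h : (⟦g • x⟧ : Qo) = ⟦x⟧)
  have hstab : MulAction.stabilizer K ω ⊔ N = ⊤ := by
    refine eq_top_iff.2 fun g _ => ?_
    obtain ⟨n, hn⟩ := horb g ω
    have h1 : ((n : K)⁻¹ * g) ∈ MulAction.stabilizer K ω := by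
      rw [MulAction.mem_stabilizer_iff, mul_smul, inv_smul_eq_iff]
      exact hn.symm
    have h2 : g = (n : K) * ((n : K)⁻¹ * g) := by rw [mul_inv_cancel_left]
    rw [h2]
    exact mul_mem (Subgroup.mem_sup_right n.2) (Subgroup.mem_sup_left h1)
  exact (c.min _ hstab ▸ Subgroup.mem_top k : k ∈ MulAction.stabilizer K ω)

end Cov

end CfsgLib.RankTwo
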