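import Cfsg.Agent.Lib.RankTwo.Invariant
import Cfsg.Agent.Lib.RankTwo.HeisLinear

/-!
# The degree of an invariant constituent

`coset_zero`: the part of the character over an invariant constituent vanishes on `z * N`.
`degree_bound`: so the squared modulus of the part, averaged over `N`, is a character of the quotient of degree the
squared multiplicity vanishing at `z`; the multiplicity is at least `q` and the degree of the constituent below `2 q`.
-/

set_option autoImplicit false
set_option linter.unusedSectionVars false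
set_option linter.style.haveILetI false

namespace CfsgLib.RankTwo

open Cfsg CfsgLib.CharTheory
open scoped ComplexConjugate

universe u

variable {X : Type u} [Group X] [Fintype X] {χ : X → ℂ} {N : Subgroup X} [Fintype N] [N.Normal]

/-- The part over an invariant constituent vanishes on the coset of the involution. -/
theorem coset_zero (hχ : IsCharacter X χ) {f : X → ℂ} (hf : IsCharacter X f) (hg : IsCharacter X (χ - f))
    {z : X} (hz : z * z = 1) (hzN : z ∉ N) {v : ℂ} (hv : ∀ n : N, χ (z * n) = v) {θ : N → ℂ}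
    (hθ : IsIrrCharacter N θ) (h1 : θ ≠ fun _ => 1) (hfix : conjNormFun N z θ = θ)
    (hfN : ∀ n : N, f n = (mlt χ θ : ℂ) * θ n) (n : N) : f (z * n) = 0 := by
  classical
  obtain ⟨K, hNK, hzn, _, hin, hover, -⟩ := coset_ext N hz hzN hθ h1 hfix
  have hN0 : (Nat.card N : ℂ) ≠ 0 := Nat.cast_ne_zero.2 Nat.card_pos.ne'
  have h20 : (2 * (Nat.card N : ℂ)) ≠ 0 := mul_ne_zero two_ne_zero hN0
  have hθθ : ∑ n : N, θ n * conj (θ n) = (Nat.card N : ℂ) := by
    have h := classInner_irr_self hθ
    rwa [classInner, inv_mul_eq_iff_eq_mul₀ hN0, mul_one] at h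
  have hm := mlt_eq (N := N) hχ (isCharacter_of_irr hθ)
  have hfθ : classInner (fun n : N => f n) θ = (mlt χ θ : ℂ) := by
    rw [show (fun n : N => f n) = (mlt χ θ : ℂ) • θ from funext hfN, classInner_smul_left,
      classInner_irr_self hθ, mul_one]
  have hgθ : classInner (fun n : N => (χ - f) n) θ = 0 := by
    rw [show (fun n : N => (χ - f) n) = (fun n : N => χ n) - (fun n : N => f n) from rfl, classInner_sub_left, hm,
      hfθ, sub_self]
  -- the other part has no constituent over `θ`
  have hg0 : ∀ ξ : K → ℂ, IsIrrCharacter K ξ → (∀ n : N, ξ ⟨n, hNK n.2⟩ = θ n) →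
      classInner (fun k : K => (χ - f) k) ξ = 0 := by
    intro ξ hξ hξN
    by_contra hne
    have hsub := isCharacter_sub_irr (isCharacter_restrict hg K) hξ hne
    obtain ⟨t, ht⟩ := classInner_char_nat (isCharacter_comp hsub (Subgroup.inclusion hNK)) (isCharacter_of_irr hθ)
    rw [show (fun n : N => ((fun k : K => (χ - f) k) - ξ) (Subgroup.inclusion hNK n)) =
      (fun n : N => (χ - f) n) - θ from funext fun n => by
        show (χ - f) n - ξ ⟨n, hNK n.2⟩ = _; rw [hξN n]; rfl,
      classInner_sub_left, hgθ, classInner_irr_self hθ] at ht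
    have := congrArg Complex.re ht
    simp only [zero_sub, Complex.neg_re, Complex.one_re, Complex.natCast_re] at this
    have h0 : (0 : ℝ) ≤ t := Nat.cast_nonneg t
    linarith
  -- the constituents of `f` lie over `θ`
  have hfover : ∀ ξ : K → ℂ, IsIrrCharacter K ξ → classInner (fun k : K => f k) ξ ≠ 0 →
      classInner (fun n : N => ξ ⟨n, hNK n.2⟩) θ ≠ 0 := by
    intro ξ hξ hne hξθ
    have hξc : IsCharacter N (fun n : N => ξ ⟨n, hNK n.2⟩) :=
      isCharacter_comp (isCharacter_of_irr hξ) (Subgroup.inclusion hNK)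
    obtain ⟨φ, hφ, hφi⟩ := exists_constituent hξc (fun e => irr_ne_zero hξ (congrFun e 1))
    have hne' : φ ≠ θ := fun e => hφi (e ▸ hξθ)
    have hsub := isCharacter_sub_irr (isCharacter_restrict hf K) hξ hne
    obtain ⟨t, ht⟩ := classInner_char_nat (isCharacter_comp hsub (Subgroup.inclusion hNK)) (isCharacter_of_irr hφ)
    obtain ⟨s, hs⟩ := classInner_char_nat hξc (isCharacter_of_irr hφ)
    rw [show (fun n : N => ((fun k : K => f k) - ξ) (Subgroup.inclusion hNK n)) =
      (fun n : N => f n) - (fun n : N => ξ ⟨n, hNK n.2⟩) from rfl, classInner_sub_left,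
      show (fun n : N => f n) = (mlt χ θ : ℂ) • θ from funext hfN, classInner_smul_left,
      classInner_irr_ne hθ hφ (Ne.symm hne'), mul_zero, hs] at ht
    have := congrArg Complex.re ht
    simp only [zero_sub, Complex.neg_re, Complex.natCast_re] at this
    have h0 : (0 : ℝ) ≤ t := Nat.cast_nonneg t
    have h1' : (1 : ℝ) ≤ s := by
      exact_mod_cast Nat.one_le_iff_ne_zero.2 fun e => hφi (by rw [hs, e, Nat.cast_zero])
    linarith
  set F : K → ℂ := fun k => f k with hF
  have horth : ∀ ξ : IrrCharacter K, classInner F ξ ≠ 0 →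
      ∑ n : N, f (z * n) * conj ((ξ : K → ℂ) ⟨z * n, hzn n⟩) = 0 := by
    intro ξ hne
    obtain ⟨hξN, hξz⟩ := hover _ ξ.2 (hfover _ ξ.2 hne)
    have e1 : classInner F (ξ : K → ℂ) = classInner (fun k : K => χ k) (ξ : K → ℂ) := by
      have h := hg0 _ ξ.2 hξN
      rw [show (fun k : K => (χ - f) k) = (fun k : K => χ k) - F from rfl, classInner_sub_left, sub_eq_zero] at h
      exact h.symm
    have hχ2 := hin (fun k : K => χ k) ξ
    have hf2 := hin F ξ
    have hmθ : ∑ n : N, χ n * conj (θ n) = (Nat.card N : ℂ) * mlt χ θ := by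
      have h := hm
      rwa [classInner, inv_mul_eq_iff_eq_mul₀ hN0] at h
    simp only [hξN, hv, ← Finset.mul_sum, ← map_sum, hξz, map_zero, mul_zero, add_zero, hmθ] at hχ2
    simp only [hF, hξN, hfN, mul_assoc, ← Finset.mul_sum, hθθ] at hf2
    rw [hF] at e1
    rw [e1] at hf2
    linear_combination hχ2 - hf2
  have hsum : ∑ n : N, f (z * n) * conj (f (z * n)) = 0 := by
    have hdec := eq_sum_irr (isClassFunction_char (isCharacter_restrict hf K))
    calc ∑ n : N, f (z * n) * conj (f (z * n))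
        = ∑ n : N, f (z * n) * conj ((∑ ξ : IrrCharacter K, classInner F ξ • (ξ : K → ℂ)) ⟨z * n, hzn n⟩) := by
          refine Finset.sum_congr rfl fun n _ => ?_
          exact congrArg (fun t => f (z * n) * conj t) (congrFun hdec ⟨z * n, hzn n⟩)
      _ = ∑ ξ : IrrCharacter K, conj (classInner F ξ) *
            ∑ n : N, f (z * n) * conj ((ξ : K → ℂ) ⟨z * n, hzn n⟩) := by
          simp only [Finset.sum_apply, Pi.smul_apply, smul_eq_mul, map_sum, map_mul, Finset.mul_sum]
          rw [Finset.sum_comm]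
          exact Finset.sum_congr rfl fun ξ _ => Finset.sum_congr rfl fun n _ => by ring
      _ = 0 := Finset.sum_eq_zero fun ξ _ => by
          by_cases h : classInner F (ξ : K → ℂ) = 0
          · rw [h, map_zero, zero_mul]
          · rw [horth ξ h, mul_zero]
  have hr := congrArg Complex.re hsum
  simp only [Complex.mul_conj, Complex.re_sum, Complex.ofReal_re, Complex.zero_re] at hr
  exact Complex.normSq_eq_zero.1
    ((Finset.sum_eq_zero_iff_of_nonneg fun n _ => Complex.normSq_nonneg _).1 hr n (Finset.mem_univ _))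

/-- An invariant constituent has degree below `2 q`. -/
theorem degree_bound (hχ : IsCharacter X χ) {d : ℕ} (hd : χ 1 = (d : ℂ)) {z : X} (hz : z * z = 1) (hzN : z ∉ N)
    {v : ℤ} (hv : ∀ n : N, χ (z * n) = (v : ℂ)) {q : ℕ} (hq5 : 5 ≤ q) [IsSimpleGroup (X ⧸ N)]
    (H : Heis (X ⧸ N) (z : X ⧸ N) q) (hsmall : (d : ℤ) - |v| < 2 * ((q : ℤ) ^ 2 - 1)) {θ : N → ℂ}
    (hθ : IsIrrCharacter N θ) (hm0 : mlt χ θ ≠ 0) (hinv : ∀ x : X, conjNormFun N x θ = θ) :
    charDegree θ < 2 * q := by
  classical
  by_cases h1 : θ = fun _ => 1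
  · have h := (charDegree_spec' hθ).1
    rw [h1] at h ⊢
    simp only at h
    have : charDegree (fun _ : N => (1 : ℂ)) = 1 := by exact_mod_cast h.symm
    omega
  have hN0 : (Nat.card N : ℂ) ≠ 0 := Nat.cast_ne_zero.2 Nat.card_pos.ne'
  set S : Finset (IrrCharacter X) :=
    Finset.univ.filter fun ψ => classInner (fun n : N => (ψ : X → ℂ) n) θ ≠ 0 with hS
  set f : X → ℂ := ∑ ψ ∈ S, classInner χ ψ • (ψ : X → ℂ) with hfdef
  have hterm : ∀ ψ : IrrCharacter X, IsCharacter X (classInner χ ψ • (ψ : X → ℂ)) := fun ψ => by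
    obtain ⟨k, hk⟩ := classInner_char_nat hχ (isCharacter_of_irr ψ.2)
    rw [hk]
    exact isCharacter_nsmul (isCharacter_of_irr ψ.2) k
  have hf : IsCharacter X f := isCharacter_sum _ _ fun ψ _ => hterm ψ
  have hsplit : χ = f + ∑ ψ ∈ Finset.univ.filter (fun ψ : IrrCharacter X =>
      ¬ classInner (fun n : N => (ψ : X → ℂ) n) θ ≠ 0), classInner χ ψ • (ψ : X → ℂ) := by
    rw [hfdef, hS, Finset.sum_filter_add_sum_filter_not]
    exact eq_sum_irr (isClassFunction_char hχ)
  have hg : IsCharacter X (χ - f) := by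
    rw [sub_eq_of_eq_add' hsplit]
    exact isCharacter_sum _ _ fun ψ _ => hterm ψ
  have hfN : ∀ n : N, f n = (mlt χ θ : ℂ) * θ n := by
    have hres : ∀ ψ ∈ S, ∀ n : N, (ψ : X → ℂ) n = classInner (fun n : N => (ψ : X → ℂ) n) θ * θ n :=
      fun ψ hψ n => congrFun (clifford_invariant N ψ.2 hθ (Finset.mem_filter.1 hψ).2 hinv) n
    have hmul : (mlt χ θ : ℂ) = ∑ ψ ∈ S, classInner χ ψ * classInner (fun n : N => (ψ : X → ℂ) n) θ := by
      rw [← mlt_eq hχ (isCharacter_of_irr hθ)]
      conv_lhs => rw [eq_sum_irr (isClassFunction_char hχ)]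
      rw [show (fun n : N => (∑ ψ : IrrCharacter X, classInner χ ψ • (ψ : X → ℂ)) n) =
        ∑ ψ : IrrCharacter X, classInner χ ψ • (fun n : N => (ψ : X → ℂ) n) from funext fun n => by
          simp only [Finset.sum_apply, Pi.smul_apply],
        classInner_sum_left]
      simp only [classInner_smul_left]
      refine (Finset.sum_subset (Finset.subset_univ S) fun ψ _ hψ => ?_).symm
      have : classInner (fun n : N => (ψ : X → ℂ) n) θ = 0 := by
        by_contra h
        exact hψ (Finset.mem_filter.2 ⟨Finset.mem_univ _, h⟩)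
      rw [this, mul_zero]
    intro n
    rw [hmul, Finset.sum_mul, hfdef, Finset.sum_apply]
    refine Finset.sum_congr rfl fun ψ hψ => ?_
    rw [Pi.smul_apply, smul_eq_mul, hres ψ hψ n, mul_assoc]
  have hfz : ∀ n : N, f (z * n) = 0 := coset_zero hχ hf hg hz hzN hv hθ h1 (hinv z) hfN
  -- the averaged squared modulus
  set F : X → ℂ := f * fun x => conj (f x) with hFdef
  have hF : IsCharacter X F := isCharacter_mul hf (isCharacter_conj hf)
  obtain ⟨hP, -⟩ := isCharacter_part (Z := N) (1 : ↥N →* ℂˣ) hF ⊤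
    fun h _ c => ⟨⟨_, Subgroup.Normal.conj_mem inferInstance _ c.2 h⟩, rfl, rfl⟩
  have hA : IsCharacter X (part F (1 : ↥N →* ℂˣ)) :=
    isCharacter_comp hP (Subgroup.topEquiv : (⊤ : Subgroup X) ≃* X).symm.toMonoidHom
  have hA1 : part F (1 : ↥N →* ℂˣ) 1 = ((mlt χ θ ^ 2 : ℕ) : ℂ) := by
    have hθθ : ∑ n : N, θ n * conj (θ n) = (Nat.card N : ℂ) := by
      have h := classInner_irr_self hθ
      rwa [classInner, inv_mul_eq_iff_eq_mul₀ hN0, mul_one] at h
    have h : ∀ c : N, (((1 : ↥N →* ℂˣ) c)⁻¹ : ℂˣ) * F (1 * (c : X)) =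
        ((mlt χ θ : ℂ) * mlt χ θ) * (θ c * conj (θ c)) := fun c => by
      simp only [MonoidHom.one_apply, inv_one, Units.val_one, one_mul, hFdef, Pi.mul_apply, hfN, map_mul,
        map_natCast]
      ring
    rw [part, Finset.sum_congr rfl fun c _ => h c, ← Finset.mul_sum, hθθ]
    push_cast
    field_simp
  have hAz : part F (1 : ↥N →* ℂˣ) z = 0 :=
    part_one_of_const fun c => by simp only [hFdef, Pi.mul_apply, hfz c, zero_mul]
  have hAker : ∀ c : N, part F (1 : ↥N →* ℂˣ) (c : X) = part F (1 : ↥N →* ℂˣ) 1 := fun c => by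
    have h := part_mul_mem (χ := F) (1 : ↥N →* ℂˣ) 1 c
    rwa [one_mul, MonoidHom.one_apply, Units.val_one, one_mul] at h
  obtain ⟨k, ρ, hρ⟩ := hA
  have hk : k = mlt χ θ ^ 2 := by
    have h := congrFun hρ 1
    rw [Representation.char_one, Module.finrank_fin_fun, hA1] at h
    exact_mod_cast h
  have hker : N ≤ MonoidHom.ker (ρ : X →* Module.End ℂ (Fin k → ℂ)).toHomUnits := fun c hc => by
    have h : ρ.character c = (Module.finrank ℂ (Fin k → ℂ) : ℂ) := by
      rw [congrFun hρ c, hAker ⟨c, hc⟩, ← congrFun hρ 1, Representation.char_one]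
    exact MonoidHom.mem_ker.2 (Units.ext ((character_eq_finrank_iff ρ c).1 h))
  set σ : X ⧸ N →* Module.End ℂ (Fin k → ℂ) := (Units.coeHom _).comp (QuotientGroup.lift N _ hker) with hσ
  have hkq : q * (q - 1) ≤ k := by
    by_contra hlt
    have hq0 : (q : ℂ) ≠ 0 := Nat.cast_ne_zero.2 (by omega)
    have hone := H.linear_trivial (by omega) hq0 σ (by rw [Module.finrank_fin_fun]; omega) (z : X ⧸ N)
    have hρz : ρ z = 1 := hone
    have h := congrFun hρ z
    rw [hAz, Representation.character, hρz, LinearMap.trace_one, Module.finrank_fin_fun] at h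
    have : k = 0 := by exact_mod_cast h
    exact hm0 (by rw [hk] at this; exact pow_eq_zero_iff two_ne_zero |>.1 this)
  have hmq : q ≤ mlt χ θ := by
    by_contra hlt
    have h2 := Nat.mul_le_mul (show mlt χ θ ≤ q - 1 by omega) (show mlt χ θ ≤ q - 1 by omega)
    rw [hk, pow_two] at hkq
    have h3 : (q - 1) * (q - 1) < q * (q - 1) := Nat.mul_lt_mul_of_pos_right (by omega) (by omega)
    omega
  have hb := mult_bound hχ hd hz (fun n hn => Subgroup.Normal.conj_mem inferInstance n hn z) hv
    {(⟨θ, hθ⟩ : IrrCharacter N)} (fun ψ hψ => by rw [Finset.mem_singleton] at hψ; subst hψ; exact h1)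
  rw [Finset.sum_singleton] at hb
  by_contra hlt
  have h4 : q * (2 * q) ≤ mlt χ θ * charDegree θ := Nat.mul_le_mul hmq (by omega)
  have h5 : ((q * (2 * q) : ℕ) : ℤ) ≤ ((mlt χ θ * charDegree θ : ℕ) : ℤ) := by exact_mod_cast h4
  push_cast at hb h5
  nlinarith

end CfsgLib.RankTwo
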