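import Cfsg.Agent.Lib.RankTwo.HeisModel

/-!
A Heisenberg subgroup lifts to a central extension with kernel prime to `q`.

Blueprint: `blueprint/RankTwo.md` (P7).
-/

set_option autoImplicit false
set_option linter.unusedSectionVars false
set_option linter.style.haveILetI false

namespace CfsgLib.RankTwoModel

open Cfsg

universe u v

/-- **The lift of a Heisenberg subgroup.** -/
theorem heisZ_lift {K : Type u} [Group K] [Finite K] {L : Type v} [Group L] [Finite L] (f : K →* L)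
    (hf : Function.Surjective f) (hk : f.ker ≤ Subgroup.center K) {q p e : ℕ} (hp : p.Prime) (hqp : q = p ^ e)
    (hq1 : 1 < q)
    (hcop : Nat.Coprime (Nat.card f.ker) q) {z : K} (h : HeisZ L (f z) q) : HeisZ K z q := by
  classical
  haveI := Fact.mk hp
  obtain ⟨H, hcent, hinv⟩ := h
  have hQp : IsPGroup p H.Q := IsPGroup.of_card (n := e * 3) (by rw [H.cardQ, hqp, pow_mul])
  set Y := H.Q.comap f with hY
  obtain ⟨S⟩ : Nonempty (Sylow p Y) := inferInstance
  let φ : Y →* H.Q := f.subgroupComap H.Q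
  have hφ : Function.Surjective φ := MonoidHom.subgroupComap_surjective_of_surjective f H.Q hf
  have hStop : (S.mapSurjective hφ : Subgroup H.Q) = ⊤ :=
    (S.mapSurjective hφ).is_maximal' (hQp.of_equiv Subgroup.topEquiv.symm) le_top ▸ rfl
  set P : Subgroup K := (S : Subgroup Y).map Y.subtype with hP
  have hPY : P ≤ Y := Subgroup.map_subtype_le _
  have hPQ : ∀ x ∈ P, f x ∈ H.Q := fun x hx => hPY hx
  have hsurj : ∀ w ∈ H.Q, ∃ x ∈ P, f x = w := by
    intro w hw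
    have h1 : (⟨w, hw⟩ : H.Q) ∈ (S : Subgroup Y).map φ := by
      rw [show (S : Subgroup Y).map φ = (S.mapSurjective hφ : Subgroup H.Q) from rfl, hStop]
      exact Subgroup.mem_top _
    obtain ⟨y, hy, hyw⟩ := h1
    exact ⟨y, ⟨y, hy, rfl⟩, congrArg Subtype.val hyw⟩
  have hPp : IsPGroup p P := S.2.map _
  have hord : ∀ x ∈ P, ∃ k, x ^ p ^ k = 1 := fun x hx => by
    obtain ⟨k, hk⟩ := hPp ⟨x, hx⟩
    exact ⟨k, congrArg Subtype.val hk⟩
  have hkill : ∀ x : K, (∃ k, x ^ p ^ k = 1) → f x = 1 → x = 1 := by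
    rintro x ⟨k, hk⟩ h1
    have hd1 : orderOf x ∣ p ^ k := orderOf_dvd_of_pow_eq_one hk
    have hd2 : orderOf x ∣ Nat.card f.ker := Subgroup.orderOf_dvd_natCard _ h1
    have he : 0 < e := Nat.pos_of_ne_zero fun h0 => by rw [hqp, h0, pow_zero] at hq1; exact lt_irrefl 1 hq1
    have hx : Nat.Coprime (p ^ k) (Nat.card f.ker) := by
      refine Nat.Coprime.pow_left k ?_
      rw [hqp] at hcop
      exact ((Nat.coprime_pow_left_iff he _ _).1 hcop.symm)
    exact orderOf_eq_one_iff.1 (Nat.eq_one_of_dvd_coprimes hx hd1 hd2)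
  have heq : ∀ x ∈ P, ∀ y ∈ P, f x = f y → x = y := fun x hx y hy hxy => inv_mul_eq_one.1
    (hkill _ (hord _ (mul_mem (inv_mem hx) hy)) (by rw [map_mul, map_inv, hxy, inv_mul_cancel]))
  -- the elements of `p`-power order above `Q`
  have hmem : ∀ x : K, (∃ k, x ^ p ^ k = 1) → f x ∈ H.Q → x ∈ P := by
    rintro x ⟨k, hk'⟩ hx
    obtain ⟨y, hy, hyx⟩ := hsurj _ hx
    obtain ⟨j, hj⟩ := hord y hy
    have hc : y⁻¹ * x ∈ Subgroup.center K := hk (MonoidHom.mem_ker.2 (by rw [map_mul, map_inv, hyx, inv_mul_cancel]))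
    have hcom : Commute y (y⁻¹ * x) := Subgroup.mem_center_iff.1 hc y
    have hcom' : Commute y⁻¹ x := by
      have h1 : y * x = x * y := by
        have := hcom.eq
        rw [mul_inv_cancel_left] at this
        calc y * x = y * (y * (y⁻¹ * x)) := by rw [mul_inv_cancel_left]
          _ = y * ((y⁻¹ * x) * y) := by rw [hcom.eq]
          _ = x * y := by group
      exact (show Commute y x from h1).inv_left
    have h1 : (y⁻¹ * x) ^ p ^ max k j = 1 := by
      rw [hcom'.mul_pow, inv_pow,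
        orderOf_dvd_iff_pow_eq_one.1 ((orderOf_dvd_of_pow_eq_one hk').trans (Nat.pow_dvd_pow p (le_max_left k j))),
        orderOf_dvd_iff_pow_eq_one.1 ((orderOf_dvd_of_pow_eq_one hj).trans (Nat.pow_dvd_pow p (le_max_right k j))),
        inv_one, one_mul]
    have h2 := hkill _ ⟨_, h1⟩ (by rw [map_mul, map_inv, hyx, inv_mul_cancel])
    rw [inv_mul_eq_one] at h2
    exact h2 ▸ hy
  have hconjP : ∀ y : K, (∀ g ∈ H.Q, f y * g * (f y)⁻¹ ∈ H.Q) → ∀ x ∈ P, y * x * y⁻¹ ∈ P := by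
    intro y hy x hx
    obtain ⟨k, hk⟩ := hord x hx
    refine hmem _ ⟨k, by rw [conj_pow, hk, mul_one, mul_inv_cancel]⟩ ?_
    rw [map_mul, map_mul, map_inv]
    exact hy _ (hPQ x hx)
  set R : Subgroup K := P ⊓ H.R.comap f with hR
  set A : Subgroup K := P ⊓ H.A.comap f with hA
  have hcard : ∀ (B : Subgroup L), B ≤ H.Q → Nat.card (P ⊓ B.comap f : Subgroup K) = Nat.card B := by
    intro B hB
    refine Nat.card_congr (Equiv.ofBijective (fun x => ⟨f x.1, x.2.2⟩) ⟨fun a b hab => Subtype.ext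
      (heq _ a.2.1 _ b.2.1 (congrArg Subtype.val hab)), fun w => ?_⟩)
    obtain ⟨x, hx, hxw⟩ := hsurj _ (hB w.2)
    exact ⟨⟨x, hx, by show f x ∈ B; rw [hxw]; exact w.2⟩, Subtype.ext hxw⟩
  have hcQ : Nat.card P = q ^ 3 := by
    rw [← H.cardQ]
    refine Nat.card_congr (Equiv.ofBijective (fun x => ⟨f x.1, hPQ x.1 x.2⟩) ⟨fun a b hab => Subtype.ext
      (heq _ a.2 _ b.2 (congrArg Subtype.val hab)), fun w => ?_⟩)
    obtain ⟨x, hx, hxw⟩ := hsurj _ w.2
    exact ⟨⟨x, hx⟩, Subtype.ext hxw⟩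
  choose s hs using fun t : L => hf t
  have hsinj : Function.Injective s := fun a b hab => by rw [← hs a, hab, hs b]
  refine ⟨{ Q := P, R := R, A := A, RA := ?_, AQ := inf_le_left, cardR := ?_, cardA := ?_, cardQ := hcQ,
            central := ?_, acomm := ?_, comm := ?_, surjQ := ?_, surjA := ?_, zQ := ?_, zR := ?_,
            T := H.T.image s, cardT := ?_, TQ := ?_, TR := ?_, Tfree := ?_ }, ?_, ?_⟩
  · exact fun x hx => ⟨hx.1, H.RA hx.2⟩
  · rw [hR, hcard _ H.RQ, H.cardR]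
  · rw [hA, hcard _ H.AQ, H.cardA]
  · intro r hr g hg
    refine heq _ (mul_mem hr.1 hg) _ (mul_mem hg hr.1) ?_
    rw [map_mul, map_mul]
    exact H.central _ hr.2 _ (hPQ g hg)
  · intro a ha b hb
    refine heq _ (mul_mem ha.1 hb.1) _ (mul_mem hb.1 ha.1) ?_
    rw [map_mul, map_mul]
    exact H.acomm _ ha.2 _ hb.2
  · intro g hg k hk
    refine ⟨P.mul_mem (P.mul_mem (P.mul_mem hg hk) (P.inv_mem hg)) (P.inv_mem hk), ?_⟩
    show f (g * k * g⁻¹ * k⁻¹) ∈ H.R
    rw [map_mul, map_mul, map_mul, map_inv, map_inv]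
    exact H.comm _ (hPQ g hg) _ (hPQ k hk)
  · intro g hg hgR r hr
    obtain ⟨k, hk, he⟩ := H.surjQ _ (hPQ g hg) (fun h1 => hgR ⟨hg, h1⟩) _ hr.2
    obtain ⟨k', hk', rfl⟩ := hsurj k hk
    refine ⟨k', hk', heq _ (mul_mem (mul_mem (mul_mem hg hk') (inv_mem hg)) (inv_mem hk')) _ hr.1 ?_⟩
    rw [map_mul, map_mul, map_mul, map_inv, map_inv, he]
  · intro g hg hgA r hr
    obtain ⟨k, hk, he⟩ := H.surjA _ (hPQ g hg) (fun h1 => hgA ⟨hg, h1⟩) _ hr.2
    obtain ⟨k', hk', rfl⟩ := hsurj k (H.AQ hk)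
    refine ⟨k', ⟨hk', hk⟩, heq _ (mul_mem (mul_mem (mul_mem hg hk') (inv_mem hg)) (inv_mem hk')) _ hr.1 ?_⟩
    rw [map_mul, map_mul, map_mul, map_inv, map_inv, he]
  · exact fun g hg => hconjP z H.zQ g hg
  · intro r hr
    refine heq _ (hconjP z H.zQ r hr.1) _ hr.1 ?_
    rw [map_mul, map_mul, map_inv, H.zR _ hr.2]
  · rw [Finset.card_image_of_injective _ hsinj]; exact H.cardT
  · intro t ht g
    obtain ⟨t', ht', rfl⟩ := Finset.mem_image.1 ht
    refine conj_mem_iff (fun x hx => hconjP _ (fun w hw => ?_) x hx) g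
    rw [hs]; exact (H.TQ t' ht' w).1 hw
  · intro t ht g
    obtain ⟨t', ht', rfl⟩ := Finset.mem_image.1 ht
    refine conj_mem_iff (S := R) (fun x hx => ⟨hconjP _ (fun w hw => ?_) x hx.1, ?_⟩) g
    · rw [hs]; exact (H.TQ t' ht' w).1 hw
    · show f (s t' * x * (s t')⁻¹) ∈ H.R
      rw [map_mul, map_mul, map_inv, hs]
      exact (H.TR t' ht' _).1 hx.2
  · intro t ht t' ht' hne r hr hr1 he
    obtain ⟨a, ha, rfl⟩ := Finset.mem_image.1 ht
    obtain ⟨b, hb, rfl⟩ := Finset.mem_image.1 ht'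
    refine H.Tfree a ha b hb (fun e' => hne (by rw [e'])) (f r) hr.2 (fun e' => hr1 (hkill r (hord r hr.1) e')) ?_
    have := congrArg f he
    simpa [map_mul, map_inv, hs] using this
  · intro g hg hgz
    exact ⟨hg, hcent _ (hPQ g hg) (by rw [← map_mul, ← map_mul, hgz])⟩
  · intro g hg
    refine ⟨mul_mem (hconjP z H.zQ g hg) hg, ?_⟩
    show f (z * g * z⁻¹ * g) ∈ H.R
    rw [map_mul, map_mul, map_mul, map_inv]
    exact hinv _ (hPQ g hg)

end CfsgLib.RankTwoModel
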