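import Cfsg.Agent.Lib.RankTwo.Heis
import Mathlib.Analysis.Complex.Polynomial.Basic

/-!
# The points of an action with a Heisenberg subgroup

* `card_ge`: `Q` non-trivial on `Ω` through a separated centre: `q ^ 2 ≤ |Ω|`, and `2 q ^ 2 ≤ |Ω|` if `z` fixes none.
-/

set_option autoImplicit false
set_option linter.unusedSectionVars false
set_option linter.style.haveILetI false

namespace CfsgLib.RankTwo

universe u v

namespace Heis

variable {L : Type u} [Group L] [Finite L] {z : L} {q : ℕ} (H : Heis L z q) {Ω : Type v} [MulAction L Ω]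

/-- The characters of the centre trivial on the stabiliser of a point. -/
def adm (c : H.R →* ℂˣ) (ω : Ω) : Prop := c ≠ 1 ∧ ∀ r : H.R, (r : L) • ω = ω → c r = 1

theorem adm_smul {c : H.R →* ℂˣ} {ω : Ω} {g : L} (hg : g ∈ H.Q) : H.adm c (g • ω) ↔ H.adm c ω := by
  have key : ∀ r : H.R, (r : L) • g • ω = g • ω ↔ (r : L) • ω = ω := fun r => by
    rw [smul_smul, H.central r r.2 g hg, ← smul_smul, smul_left_cancel_iff]
  simp only [adm, key]

theorem adm_orbit {c : H.R →* ℂˣ} {ω ω' : Ω} (h : ω' ∈ MulAction.orbit H.Q ω) : H.adm c ω' ↔ H.adm c ω := by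
  obtain ⟨g, rfl⟩ := h
  exact H.adm_smul g.2

theorem adm_z {c : H.R →* ℂˣ} {ω : Ω} (h : H.adm c ω) : H.adm c (z • ω) := by
  refine ⟨h.1, fun r hr => h.2 r ?_⟩
  have hc : (r : L) * z = z * r := by
    have := H.zR r r.2
    rw [mul_inv_eq_iff_eq_mul] at this
    exact this.symm
  rwa [smul_smul, hc, ← smul_smul, smul_left_cancel_iff] at hr

/-- An admissible point has a large orbit. -/
theorem orbit_large [Finite Ω] {c : H.R →* ℂˣ} {ω : Ω} (hc : H.adm c ω) (S : Finset (H.R →* ℂˣ))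
    (hS : ∀ c' ∈ S, H.adm c' ω) : q * (S.card + 1) ≤ Nat.card (MulAction.orbit H.Q ω) := by
  classical
  set St := MulAction.stabilizer H.Q ω with hSt
  set R' := H.R.subgroupOf H.Q with hR'
  haveI hRn : R'.Normal := ⟨fun r hr g => by
    have : g * r * g⁻¹ = r := Subtype.ext (by
      show (g : L) * r * (g : L)⁻¹ = r
      rw [← H.central r hr g g.2, mul_inv_cancel_right])
    rwa [this]⟩
  have hcR : Nat.card R' = q := by
    rw [Nat.card_congr (Subgroup.subgroupOfEquivOfLe H.RQ).toEquiv, H.cardR]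
  set B := St ⊔ R' with hB
  -- isotropy
  have hB2 : Nat.card B ≤ q ^ 2 := by
    refine H.isotropic hc.1 B le_sup_right fun g hg h hh => hc.2 _ ?_
    obtain ⟨s, hs, r, hr, rfl⟩ := Subgroup.mem_sup_of_normal_right.1 hg
    obtain ⟨s', hs', r', hr', rfl⟩ := Subgroup.mem_sup_of_normal_right.1 hh
    have c1 : ∀ g ∈ H.Q, (r : L) * g = g * r := H.central _ hr
    have c2 : ∀ g ∈ H.Q, (r' : L) * g = g * r' := H.central _ hr'
    have e : ((s * r : H.Q) : L) * (s' * r' : H.Q) * ((s * r : H.Q) : L)⁻¹ * ((s' * r' : H.Q) : L)⁻¹ =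
        ((s * s' * s⁻¹ * s'⁻¹ : H.Q) : L) := by
      simp only [Subgroup.coe_mul, Subgroup.coe_inv]
      calc (s : L) * r * ((s' : L) * r') * ((s : L) * r)⁻¹ * ((s' : L) * r')⁻¹
          = (s : L) * ((r : L) * ((s' : L) * r')) * (r : L)⁻¹ * (s : L)⁻¹ * (r' : L)⁻¹ * (s' : L)⁻¹ := by group
        _ = (s : L) * (s' : L) * ((r' : L) * (s : L)⁻¹) * (r' : L)⁻¹ * (s' : L)⁻¹ := by
            rw [c1 _ (mul_mem s'.2 r'.2)]; group
        _ = _ := by rw [c2 _ (inv_mem s.2)]; group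
    show (((s * r : H.Q) : L) * (s' * r' : H.Q) * ((s * r : H.Q) : L)⁻¹ * ((s' * r' : H.Q) : L)⁻¹) • ω = ω
    rw [e]
    exact mul_mem (mul_mem (mul_mem hs hs') (inv_mem hs)) (inv_mem hs')
  -- counting the characters
  set K := St.subgroupOf R' with hK
  haveI : K.Normal := ⟨fun k hk g => by
    have : g * k * g⁻¹ = k := Subtype.ext (Subtype.ext (by
      show ((g : H.Q) : L) * (k : H.Q) * ((g : H.Q) : L)⁻¹ = (k : H.Q)
      have e : ((g : H.Q) : L) * (k : H.Q) = ((k : H.Q) : L) * (g : H.Q) := H.central _ g.2 _ (k : H.Q).2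
      rw [e, mul_inv_cancel_right]))
    rwa [this]⟩
  have hchar : S.card + 1 ≤ K.index := by
    refine le_trans ?_ (card_hom_trivial_le ℂ K)
    let e : R' →* H.R := MonoidHom.mk' (fun r => ⟨((r : H.Q) : L), r.2⟩) fun _ _ => rfl
    have hcomp : ∀ c' ∈ insert 1 S, ∀ k ∈ K, (c' : H.R →* ℂˣ).comp e k = 1 := by
      intro c' hc' k hk
      rcases Finset.mem_insert.1 hc' with rfl | hc'
      · rfl
      · exact (hS c' hc').2 _ hk
    have h1 : 1 ∉ S := fun h => (hS 1 h).1 rfl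
    rw [← Finset.card_insert_of_notMem h1, ← Nat.card_eq_finsetCard]
    haveI := (finite_hom_units R' ℂ).1
    refine Nat.card_le_card_of_injective (fun c' => ⟨c'.1.comp e, hcomp c'.1 c'.2⟩) fun a b hab => Subtype.ext ?_
    refine MonoidHom.ext fun r => ?_
    exact DFunLike.congr_fun (congrArg Subtype.val hab :) ⟨⟨r, H.RQ r.2⟩, r.2⟩
  -- the orders
  have hBcard : Nat.card B = Nat.card St * K.index := by
    haveI : (R'.subgroupOf B).Normal := inferInstance
    have h1 : R'.relIndex B = R'.relIndex St := Subgroup.relIndex_sup_right St R'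
    have h2 : Nat.card R' * R'.relIndex B = Nat.card B := by
      rw [Subgroup.relIndex, ← Nat.card_congr (Subgroup.subgroupOfEquivOfLe (le_sup_right : R' ≤ B)).toEquiv]
      exact Subgroup.card_mul_index _
    have h3 : Nat.card (R'.subgroupOf St) * R'.relIndex St = Nat.card St := Subgroup.card_mul_index _
    have h4 : Nat.card K * K.index = Nat.card R' := Subgroup.card_mul_index _
    have h5 : Nat.card (R'.subgroupOf St) = Nat.card K := Nat.card_congr
      { toFun := fun x => ⟨⟨x.1.1, x.2⟩, x.1.2⟩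
        invFun := fun x => ⟨⟨x.1.1, x.2⟩, x.1.2⟩
        left_inv := fun x => rfl
        right_inv := fun x => rfl }
    rw [← h2, ← h4, ← h3, h1, h5]
    ring
  have hidx : St.index = Nat.card (MulAction.orbit H.Q ω) := MulAction.index_stabilizer H.Q ω
  have hQ := St.card_mul_index
  rw [H.cardQ, hidx] at hQ
  have hSt0 : 0 < Nat.card St := Nat.card_pos
  have h6 : Nat.card St * (q * (S.card + 1)) ≤ Nat.card St * Nat.card (MulAction.orbit H.Q ω) := by
    rw [hQ]
    calc Nat.card St * (q * (S.card + 1)) = q * (Nat.card St * (S.card + 1)) := by ring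
      _ ≤ q * (Nat.card St * K.index) := by gcongr
      _ ≤ q * q ^ 2 := by rw [← hBcard]; gcongr
      _ = q ^ 3 := by ring
  exact Nat.le_of_mul_le_mul_left h6 hSt0

theorem exists_char [Finite H.R] {K : Subgroup H.R} (hK : K ≠ ⊤) :
    ∃ c : H.R →* ℂˣ, c ≠ 1 ∧ ∀ r ∈ K, c r = 1 := by
  classical
  letI : CommGroup H.R :=
    { (inferInstance : Group H.R) with mul_comm := fun a b => Subtype.ext (H.central a a.2 b (H.RQ b.2)) }
  haveI : K.Normal := inferInstance
  obtain ⟨x, hx⟩ : ∃ x, x ∉ K := by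
    by_contra h
    push Not at h
    exact hK (eq_top_iff.2 fun x _ => h x)
  obtain ⟨φ, hφ⟩ := CommGroup.exists_apply_ne_one_of_hasEnoughRootsOfUnity (H.R ⧸ K) ℂ
    (a := (x : H.R ⧸ K)) (by simpa [QuotientGroup.eq_one_iff] using hx)
  refine ⟨φ.comp (QuotientGroup.mk' K), fun h => hφ (DFunLike.congr_fun h x), fun r hr => ?_⟩
  rw [MonoidHom.comp_apply, show QuotientGroup.mk' K r = 1 from (QuotientGroup.eq_one_iff r).2 hr, map_one]

/-- A point set moved by the centre is large. -/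
theorem card_ge [Finite Ω] (hz : z * z = 1) (hq : Odd q) (hmove : ∃ r ∈ H.R, ∃ ω : Ω, r • ω ≠ ω) :
    q ^ 2 ≤ Nat.card Ω ∧ ((∀ ω : Ω, z • ω ≠ ω) → 2 * q ^ 2 ≤ Nat.card Ω) := by
  classical
  haveI := (finite_hom_units H.R ℂ).1
  haveI := Fintype.ofFinite (H.R →* ℂˣ)
  haveI := Fintype.ofFinite Ω
  obtain ⟨r₀, hr₀, ω₀, hω₀⟩ := hmove
  -- one admissible character
  obtain ⟨c₀, hc₀⟩ : ∃ c, H.adm c ω₀ := by
    obtain ⟨c, h1, h2⟩ := H.exists_char (K := (MulAction.stabilizer L ω₀).subgroupOf H.R) (fun h => hω₀ (by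
      have : (⟨r₀, hr₀⟩ : H.R) ∈ (MulAction.stabilizer L ω₀).subgroupOf H.R := h ▸ Subgroup.mem_top _
      exact this))
    exact ⟨c, h1, h2⟩
  -- every non-trivial character is admissible somewhere
  have hall : ∀ c : H.R →* ℂˣ, c ≠ 1 → ∃ ω : Ω, H.adm c ω := by
    intro c hc
    obtain ⟨t, ht, rfl⟩ := H.exists_conj hc₀.1 hc
    refine ⟨t⁻¹ • ω₀, hc, fun r hr => hc₀.2 (H.conjR ht r) ?_⟩
    rw [conjR_apply, mul_smul, mul_smul, hr, smul_inv_smul]
  -- orbits
  let Qo := Quotient (MulAction.orbitRel H.Q Ω)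
  haveI := Fintype.ofFinite Qo
  let C : Qo → Finset (H.R →* ℂˣ) := fun o => Finset.univ.filter fun c => H.adm c o.out
  have hmem : ∀ (c) (ω : Ω), c ∈ C ⟦ω⟧ ↔ H.adm c ω := by
    intro c ω
    simp only [C, Finset.mem_filter, Finset.mem_univ, true_and]
    refine H.adm_orbit ?_
    exact Quotient.mk_out (s := MulAction.orbitRel H.Q Ω) ω
  have hone : ∀ o, (1 : H.R →* ℂˣ) ∉ C o := fun o h => (Finset.mem_filter.1 h).2.1 rfl
  set S : Finset Qo := Finset.univ.filter fun o => (C o).Nonempty with hS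
  have hsum : q * (∑ o ∈ S, (C o).card + S.card) ≤ Nat.card Ω := by
    rw [Nat.card_congr (MulAction.selfEquivSigmaOrbits H.Q Ω), Nat.card_sigma]
    refine le_trans ?_ (Finset.sum_le_sum_of_subset (Finset.subset_univ S))
    rw [Finset.card_eq_sum_ones, ← Finset.sum_add_distrib, Finset.mul_sum]
    refine Finset.sum_le_sum fun o ho => ?_
    obtain ⟨c, hc⟩ := (Finset.mem_filter.1 ho).2
    exact H.orbit_large (Finset.mem_filter.1 hc).2 (C o) fun c' hc' => (Finset.mem_filter.1 hc').2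
  have hswap : ∑ o ∈ S, (C o).card = ∑ c : H.R →* ℂˣ, (S.filter fun o => c ∈ C o).card := by
    rw [Finset.sum_congr rfl fun o _ => show (C o).card = ∑ c : H.R →* ℂˣ, if c ∈ C o then 1 else 0 by
      rw [← Finset.sum_filter, ← Finset.card_eq_sum_ones]; congr 1; ext; simp, Finset.sum_comm]
    refine Finset.sum_congr rfl fun c _ => ?_
    rw [← Finset.sum_filter, ← Finset.card_eq_sum_ones]
  have hcardc : q - 1 ≤ (Finset.univ.erase (1 : H.R →* ℂˣ)).card := by
    rw [Finset.card_erase_of_mem (Finset.mem_univ _), Finset.card_univ, ← Nat.card_eq_fintype_card]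
    letI : CommGroup H.R :=
      { (inferInstance : Group H.R) with mul_comm := fun a b => Subtype.ext (H.central a a.2 b (H.RQ b.2)) }
    haveI : NeZero (Monoid.exponent H.R) := ⟨Monoid.exponent_ne_zero_of_finite⟩
    have h := CommGroup.card_monoidHom_of_hasEnoughRootsOfUnity H.R ℂ
    rw [H.cardR] at h
    omega
  have hlow : ∀ k : ℕ, (∀ c : H.R →* ℂˣ, c ≠ 1 → k ≤ (S.filter fun o => c ∈ C o).card) →
      (q - 1) * k ≤ ∑ o ∈ S, (C o).card := by
    intro k hk
    rw [hswap]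
    calc (q - 1) * k ≤ (Finset.univ.erase (1 : H.R →* ℂˣ)).card * k := Nat.mul_le_mul_right _ hcardc
      _ = ∑ _c ∈ Finset.univ.erase (1 : H.R →* ℂˣ), k := by rw [Finset.sum_const, smul_eq_mul]
      _ ≤ ∑ c ∈ Finset.univ.erase (1 : H.R →* ℂˣ), (S.filter fun o => c ∈ C o).card :=
          Finset.sum_le_sum fun c hc => hk c (Finset.ne_of_mem_erase hc)
      _ ≤ _ := Finset.sum_le_sum_of_subset (Finset.erase_subset _ _)
  have hq1 : 1 ≤ q := hq.pos
  have hw : ∀ c : H.R →* ℂˣ, c ≠ 1 → ∃ ω : Ω, (⟦ω⟧ : Qo) ∈ S ∧ c ∈ C ⟦ω⟧ := by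
    intro c hc
    obtain ⟨ω, hω⟩ := hall c hc
    exact ⟨ω, Finset.mem_filter.2 ⟨Finset.mem_univ _, c, (hmem c ω).2 hω⟩, (hmem c ω).2 hω⟩
  constructor
  · have h1 := hlow 1 fun c hc => by
      obtain ⟨ω, hω, hcω⟩ := hw c hc
      exact Finset.card_pos.2 ⟨_, Finset.mem_filter.2 ⟨hω, hcω⟩⟩
    have h2 : 1 ≤ S.card := by
      obtain ⟨ω, hω, -⟩ := hw c₀ hc₀.1
      exact Finset.card_pos.2 ⟨_, hω⟩
    refine le_trans ?_ hsum
    calc q ^ 2 = q * ((q - 1) * 1 + 1) := by rw [mul_one, Nat.sub_add_cancel hq1, pow_two]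
      _ ≤ _ := Nat.mul_le_mul_left _ (by omega)
  · intro hfree
    -- the involution moves every orbit
    have hne : ∀ ω : Ω, (⟦z • ω⟧ : Qo) ≠ ⟦ω⟧ := by
      intro ω he
      set o : Finset Ω := Finset.univ.filter fun x => x ∈ MulAction.orbit H.Q ω with ho
      have hodd : Odd o.card := by
        have hc : o.card = Nat.card (MulAction.orbit H.Q ω) := by
          rw [Nat.card_eq_fintype_card, ← Set.toFinset_card]
          congr 1; ext; simp [o]
        have hi : (MulAction.stabilizer H.Q ω).index = Nat.card (MulAction.orbit H.Q ω) :=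
          MulAction.index_stabilizer H.Q ω
        rw [hc, ← hi]
        exact (Odd.of_dvd_nat (by rw [H.cardQ]; exact hq.pow) (Subgroup.index_dvd_card _))
      have hstab : ∀ x ∈ o, z • x ∈ o := by
        intro x hx
        obtain ⟨g, rfl⟩ := (Finset.mem_filter.1 hx).2
        obtain ⟨g', hg'⟩ : z • ω ∈ MulAction.orbit H.Q ω := Quotient.exact he
        refine Finset.mem_filter.2 ⟨Finset.mem_univ _, ⟨⟨z * g * z⁻¹, H.zQ g g.2⟩ * g', ?_⟩⟩
        show (z * g * z⁻¹ * (g' : L)) • ω = z • (g : L) • ω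
        rw [mul_smul, show (g' : L) • ω = z • ω from hg', smul_smul, smul_smul, inv_mul_cancel_right]
      have hinv : ∀ x : Ω, z • z • x = x := fun x => by rw [smul_smul, hz, one_smul]
      have heven : Even o.card := by
        rw [← ZMod.natCast_eq_zero_iff_even, Finset.cast_card]
        exact Finset.sum_involution (fun x _ => z • x) (fun x _ => by decide) (fun x _ _ => hfree x) hstab
          (fun x _ => hinv x)
      exact Nat.not_even_iff_odd.2 hodd heven
    have htwo : ∀ c : H.R →* ℂˣ, c ≠ 1 → 2 ≤ (S.filter fun o => c ∈ C o).card := by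
      intro c hc
      obtain ⟨ω, hω, hcω⟩ := hw c hc
      have h2 : c ∈ C ⟦z • ω⟧ := (hmem c _).2 (H.adm_z ((hmem c ω).1 hcω))
      refine Finset.one_lt_card.2 ⟨⟦z • ω⟧, Finset.mem_filter.2 ⟨Finset.mem_filter.2 ⟨Finset.mem_univ _, c, h2⟩, h2⟩,
        ⟦ω⟧, Finset.mem_filter.2 ⟨hω, hcω⟩, hne ω⟩
    have h1 := hlow 2 htwo
    have h2 : 2 ≤ S.card := le_trans (htwo c₀ hc₀.1) (Finset.card_le_card (Finset.filter_subset _ _))
    refine le_trans ?_ hsum
    calc 2 * q ^ 2 = q * ((q - 1) * 2 + 2) := by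
          rw [← Nat.succ_mul, Nat.succ_eq_add_one, Nat.sub_add_cancel hq1]; ring
      _ ≤ _ := Nat.mul_le_mul_left _ (by omega)

end Heis

end CfsgLib.RankTwo
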