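import Cfsg.Agent.Lib.RankTwo.Weights
import Cfsg.Agent.Lib.RankTwo.Cov
import Cfsg.Agent.Lib.RankTwo.Coset

/-!
# The constituents of a small character on the kernel of a simple quotient

* `mult_even`: a non-trivial constituent fixed by the involution has even multiplicity.
* `mult_bound`: the non-trivial constituents fill at most `d - |v|`.
* `constituent_invariant`: with a Heisenberg subgroup in the quotient and `d - |v| < 2 (q ^ 2 - 1)` every constituent
  is invariant.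
-/

set_option autoImplicit false
set_option linter.unusedSectionVars false
set_option linter.style.haveILetI false

namespace CfsgLib.RankTwo

open Cfsg CfsgLib.CharTheory
open scoped ComplexConjugate

universe u

variable {X : Type u} [Group X] [Fintype X] {χ : X → ℂ} {N : Subgroup X} [Fintype N]

/-- The multiplicity of a function in the restriction. -/
noncomputable def mlt (χ : X → ℂ) (θ : N → ℂ) : ℕ := ⌊(classInner (fun n : N => χ n) θ).re⌋₊

theorem mlt_eq (hχ : IsCharacter X χ) {θ : N → ℂ} (hθ : IsCharacter N θ) :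
    classInner (fun n : N => χ n) θ = (mlt χ θ : ℂ) := by
  obtain ⟨k, hk⟩ := classInner_char_nat (isCharacter_restrict hχ N) hθ
  simp [mlt, hk]

/-- A constituent fixed by the involution has even multiplicity. -/
theorem mult_even [N.Normal] (hχ : IsCharacter X χ) {z : X} (hz : z * z = 1) (hzN : z ∉ N) {v : ℂ}
    (hv : ∀ n : N, χ (z * n) = v) {θ : N → ℂ} (hθ : IsIrrCharacter N θ) (h1 : θ ≠ fun _ => 1)
    (hfix : conjNormFun N z θ = θ) : Even (mlt χ θ) := by
  classical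
  obtain ⟨K, hNK, hzn, _, hin, hover, ξ, hξ, hξθ⟩ := coset_ext N hz hzN hθ h1 hfix
  obtain ⟨hξN, hξz⟩ := hover ξ hξ hξθ
  obtain ⟨j, hj⟩ := classInner_char_nat (isCharacter_restrict hχ K) (isCharacter_of_irr hξ)
  have hm := mlt_eq (N := N) hχ (isCharacter_of_irr hθ)
  have hN0 : (Nat.card N : ℂ) ≠ 0 := Nat.cast_ne_zero.2 Nat.card_pos.ne'
  rw [classInner, inv_mul_eq_iff_eq_mul₀ hN0] at hm
  have h := hin (fun k : K => χ k) ξ
  simp only [hξN, hv, ← Finset.mul_sum, ← map_sum, hξz, map_zero, mul_zero, add_zero, hm, hj] at h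
  have h' : ((2 * j : ℕ) : ℂ) = (mlt χ θ : ℂ) := by
    push_cast
    exact mul_left_cancel₀ hN0 (by linear_combination h)
  exact ⟨j, by have := (Nat.cast_injective h' : 2 * j = mlt χ θ); omega⟩

/-- The non-trivial constituents fill at most `d - |v|`. -/
theorem mult_bound (hχ : IsCharacter X χ) {d : ℕ} (hd : χ 1 = (d : ℂ)) {z : X} (hz : z * z = 1)
    (hnorm : ∀ n ∈ N, z * n * z⁻¹ ∈ N) {v : ℤ} (hv : ∀ n : N, χ (z * n) = (v : ℂ))
    (S : Finset (IrrCharacter N)) (hS : ∀ θ ∈ S, (θ : N → ℂ) ≠ fun _ => 1) :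
    ((∑ θ ∈ S, mlt χ (θ : N → ℂ) * charDegree (θ : N → ℂ) : ℕ) : ℤ) + |v| ≤ (d : ℤ) := by
  classical
  set one : IrrCharacter N := ⟨fun _ => 1, isIrrCharacter_one⟩ with hone
  have hsum : ∑ θ : IrrCharacter N, mlt χ (θ : N → ℂ) * charDegree (θ : N → ℂ) = d := by
    have h := congrFun (eq_sum_irr (isClassFunction_char (isCharacter_restrict hχ N))) (1 : N)
    simp only [Finset.sum_apply, Pi.smul_apply, smul_eq_mul, OneMemClass.coe_one, hd] at h
    have h' : ((∑ θ : IrrCharacter N, mlt χ (θ : N → ℂ) * charDegree (θ : N → ℂ) : ℕ) : ℂ) = (d : ℂ) := by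
      rw [h, Nat.cast_sum]
      refine Finset.sum_congr rfl fun θ _ => ?_
      rw [mlt_eq hχ (isCharacter_of_irr θ.2), (charDegree_spec' θ.2).1, Nat.cast_mul]
    exact_mod_cast h'
  obtain ⟨a, b, hw, hp⟩ := part_involution (Z := N) (1 : ↥N →* ℂˣ) hχ hz
    (fun c => ⟨⟨_, hnorm c c.2⟩, rfl, by simp⟩)
  have hab : v = (a : ℤ) - b := by
    rw [part_one_of_const hv] at hp
    exact_mod_cast hp
  have hone1 : mlt χ (one : N → ℂ) = a + b := by
    have h1 := part_eq_wgt (Z := N) (1 : ↥N →* ℂˣ) hχ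
    rw [hw] at h1
    have h2 := mlt_eq (N := N) hχ (isCharacter_one (G := N))
    have h3 : part χ (1 : ↥N →* ℂˣ) 1 = classInner (fun n : N => χ n) (fun _ => (1 : ℂ)) := by
      simp [part, classInner]
    rw [h3, h2] at h1
    exact_mod_cast h1
  have hdeg1 : charDegree (one : N → ℂ) = 1 := by
    have h := (charDegree_spec' (χ := fun _ : N => (1 : ℂ)) isIrrCharacter_one).1
    exact_mod_cast h.symm
  have hnot : one ∉ S := fun h => hS one h rfl
  have hle := Finset.sum_le_sum_of_subset (f := fun θ : IrrCharacter N => mlt χ (θ : N → ℂ) * charDegree (θ : N → ℂ))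
    (Finset.subset_univ (insert one S))
  rw [Finset.sum_insert hnot, hsum, hone1, hdeg1, mul_one] at hle
  rcases abs_cases v with ⟨e, -⟩ | ⟨e, -⟩ <;> rw [e, hab] <;> omega

/-- Every constituent is invariant. -/
theorem constituent_invariant [N.Normal] (hχ : IsCharacter X χ) {d : ℕ} (hd : χ 1 = (d : ℂ)) {z : X}
    (hz : z * z = 1) {v : ℤ} (hv : ∀ n : N, χ (z * n) = (v : ℂ)) {q : ℕ} (hq : Odd q) (hq1 : 1 < q)
    (H : Heis (X ⧸ N) (z : X ⧸ N) q) [IsSimpleGroup (X ⧸ N)] (hzN : z ∉ N)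
    (hsmall : (d : ℤ) - |v| < 2 * ((q : ℤ) ^ 2 - 1)) {θ : N → ℂ} (hθ : IsIrrCharacter N θ)
    (hm : mlt χ θ ≠ 0) (x : X) : conjNormFun N x θ = θ := by
  classical
  by_cases h1 : θ = fun _ => 1
  · subst h1; rfl
  by_contra hne
  let Ω := {ψ : N → ℂ // ψ ∈ conjOrbit N θ}
  have hmem : ∀ (g : X) (ψ : Ω), conjNormFun N g ψ.1 ∈ conjOrbit N θ := by
    rintro g ⟨ψ, hψ⟩
    obtain ⟨k, rfl⟩ := (mem_conjOrbit N).1 hψ
    exact (mem_conjOrbit N).2 ⟨k * g, conjNormFun_mul N k g θ⟩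
  let act : X →* Equiv.Perm Ω :=
    { toFun := fun g =>
        { toFun := fun ψ => ⟨conjNormFun N g⁻¹ ψ.1, hmem _ ψ⟩
          invFun := fun ψ => ⟨conjNormFun N g ψ.1, hmem _ ψ⟩
          left_inv := fun ψ => Subtype.ext (by
            show conjNormFun N g (conjNormFun N g⁻¹ ψ.1) = ψ.1
            rw [← conjNormFun_mul, inv_mul_cancel, conjNormFun_one])
          right_inv := fun ψ => Subtype.ext (conjNormFun_inv N g ψ.1) }
      map_one' := Equiv.ext fun ψ => Subtype.ext (by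
        show conjNormFun N 1⁻¹ ψ.1 = ψ.1
        rw [inv_one, conjNormFun_one])
      map_mul' := fun a b => Equiv.ext fun ψ => Subtype.ext (by
        show conjNormFun N (a * b)⁻¹ ψ.1 = conjNormFun N a⁻¹ (conjNormFun N b⁻¹ ψ.1)
        rw [mul_inv_rev, conjNormFun_mul]) }
  have hirr : ∀ ψ : Ω, IsIrrCharacter N ψ.1 := by
    rintro ⟨ψ, hψ⟩
    obtain ⟨k, rfl⟩ := (mem_conjOrbit N).1 hψ
    exact isIrr_conjNormFun N k hθ
  have hker : N ≤ act.ker := fun n hn => MonoidHom.mem_ker.2 (Equiv.ext fun ψ => Subtype.ext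
    (conjNormFun_of_mem N (inv_mem hn) (isClassFunction_irr (hirr ψ))))
  letI : MulAction (X ⧸ N) Ω := MulAction.compHom Ω (QuotientGroup.lift N act hker)
  have hzq : (z : X ⧸ N) * (z : X ⧸ N) = 1 := by rw [← QuotientGroup.mk_mul, hz, QuotientGroup.mk_one]
  have hmove : ∃ (g : X ⧸ N) (ψ : Ω), g • ψ ≠ ψ := by
    refine ⟨((x⁻¹ : X) : X ⧸ N), ⟨θ, (mem_conjOrbit N).2 ⟨1, conjNormFun_one N θ⟩⟩, fun h => hne ?_⟩
    have h' : conjNormFun N x⁻¹⁻¹ θ = θ := congrArg Subtype.val h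
    rwa [inv_inv] at h'
  obtain ⟨hlarge, htwo⟩ := H.card_ge hzq hq (H.exists_moved hq1 hmove)
  -- multiplicity and degree are constant on the orbit
  have hconst : ∀ ψ : Ω, mlt χ ψ.1 = mlt χ θ ∧ charDegree ψ.1 = charDegree θ := by
    rintro ⟨ψ, hψ⟩
    obtain ⟨k, rfl⟩ := (mem_conjOrbit N).1 hψ
    refine ⟨?_, ?_⟩
    · simp only [mlt, classInner_res_conjNormFun N k (isClassFunction_char hχ)]
    · have e1 := (charDegree_spec' (isIrr_conjNormFun N k hθ)).1
      rw [conjNormFun_apply_one, (charDegree_spec' hθ).1] at e1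
      exact_mod_cast e1.symm
  haveI : Fintype Ω := Fintype.ofFinite _
  let toI : Ω → IrrCharacter N := fun ψ => ⟨ψ.1, hirr ψ⟩
  have htoI : Function.Injective toI := fun a b h =>
    Subtype.ext (congrArg (fun t : IrrCharacter N => (t : N → ℂ)) h)
  have hnt : ∀ ψ ∈ Finset.univ.image toI, (ψ : N → ℂ) ≠ fun _ => 1 := by
    intro ψ hψ e
    obtain ⟨⟨ψ', hψ'⟩, -, rfl⟩ := Finset.mem_image.1 hψ
    obtain ⟨k, hk⟩ := (mem_conjOrbit N).1 hψ'
    refine h1 ?_
    have e' : ψ' = fun _ => 1 := e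
    rw [← conjNormFun_inv N k θ, hk, e']
    rfl
  have hb := mult_bound hχ hd hz (fun n hn => Subgroup.Normal.conj_mem inferInstance n hn z) hv _ hnt
  rw [Finset.sum_image htoI.injOn] at hb
  simp only [toI, fun ψ => (hconst ψ).1, fun ψ => (hconst ψ).2, Finset.sum_const, Finset.card_univ,
    ← Nat.card_eq_fintype_card, smul_eq_mul] at hb
  have hθ1 : 1 ≤ charDegree θ := Nat.one_le_iff_ne_zero.2 fun e => by
    have h := (charDegree_spec' hθ).1
    rw [e, Nat.cast_zero] at h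
    exact irr_ne_zero hθ h
  have h2q : (2 * (q : ℤ) ^ 2) ≤ ((Nat.card Ω * (mlt χ θ * charDegree θ) : ℕ) : ℤ) := by
    have key : 2 * q ^ 2 ≤ Nat.card Ω * (mlt χ θ * charDegree θ) := by
      by_cases hfree : ∀ ψ : Ω, (z : X ⧸ N) • ψ ≠ ψ
      · calc 2 * q ^ 2 ≤ Nat.card Ω := htwo hfree
          _ = Nat.card Ω * (1 * 1) := by ring
          _ ≤ _ := Nat.mul_le_mul_left _ (Nat.mul_le_mul (Nat.one_le_iff_ne_zero.2 hm) hθ1)
      · push Not at hfree
        obtain ⟨ψ, hψ⟩ := hfree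
        have hψ1 : ψ.1 ≠ fun _ => 1 := hnt (toI ψ) (Finset.mem_image_of_mem _ (Finset.mem_univ _))
        have hfix : conjNormFun N z ψ.1 = ψ.1 := by
          have h' : conjNormFun N z⁻¹ ψ.1 = ψ.1 := congrArg Subtype.val hψ
          rwa [inv_eq_of_mul_eq_one_right hz] at h'
        obtain ⟨j, hj⟩ := mult_even hχ hz hzN hv (hirr ψ) hψ1 hfix
        rw [(hconst ψ).1] at hj
        calc 2 * q ^ 2 ≤ 2 * Nat.card Ω := Nat.mul_le_mul_left _ hlarge
          _ = Nat.card Ω * (2 * 1) := by ring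
          _ ≤ _ := Nat.mul_le_mul_left _ (Nat.mul_le_mul (by omega) hθ1)
    exact_mod_cast key
  push_cast at hb h2q
  omega

end CfsgLib.RankTwo
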