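import Cfsg.Agent.Lib.RankTwo.TorusPart
import Cfsg.Agent.Lib.RankTwoModel.FixedAction
import Cfsg.Agent.Lib.RankTwoModel.CMax.Basic
import Cfsg.Agent.Lib.ZStar.Main
import Cfsg.Agent.Lib.CoprimeGen
import Cfsg.Agent.Lib.GoodTransfer

/-!
For `[O, D] = 1` and an involution `u ≠ z` of `C` conjugate to `z`: an element `≠ 1` of `C_O(u)` centralises no element
of `O` inverted by `u` except `1`; so `O` is `C_O(u)` times the abelian subgroup of the elements inverted by `u`.

Blueprint: `blueprint/RankTwo.md` (P7, L3).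
-/

set_option autoImplicit false
set_option linter.unusedSectionVars false
set_option linter.style.haveILetI false

namespace CfsgLib.RankTwoModel

open Cfsg CfsgLib.BG CfsgLib.GW CfsgLib.BenderMax
open scoped MatrixGroups commutatorElement IsMulCommutative

universe u

variable {G : Type u} [Group G] [Finite G] {d : Frame G}

theorem eq_one_of_sq_odd {M : Type*} [Group M] {y : M} (h : y * y = 1) (ho : Odd (orderOf y)) : y = 1 :=
  orderOf_eq_one_iff.1 (Nat.eq_one_of_dvd_coprimes (Nat.coprime_two_left.2 ho)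
    (orderOf_dvd_of_pow_eq_one (by rw [pow_two, h])) dvd_rfl)

local notation "SL[" d "]" => Matrix.SpecialLinearGroup (Fin 2) (Frame.F d)

/-- An automorphism commuting with a non-scalar torus element commutes with the involution of that torus. -/
theorem SL2.commute_of_torus {F : Type} [Field F] [Fintype F] (p : ℕ) [Fact p.Prime] [CharP F p]
    (hodd : Odd (Fintype.card F)) (h3 : 3 < Fintype.card F) {g : GL (Fin 2) F}
    (hns : ∀ a : F, g.1 ≠ a • (1 : Matrix (Fin 2) (Fin 2) F)) (htr : g.1.trace = 0)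
    {φ ψ : MulAut (Matrix.SpecialLinearGroup (Fin 2) F)} {A : Matrix.SpecialLinearGroup (Fin 2) F}
    (hA : Commute A.1 g.1) (hA1 : ∀ a : F, A.1 ≠ a • (1 : Matrix (Fin 2) (Fin 2) F))
    (hψ : ∀ X : Matrix.SpecialLinearGroup (Fin 2) F, (ψ X).1 = g.1 * X.1 * (g⁻¹).1)
    (hφ : Commute φ (MulAut.conj A)) : Commute φ ψ := by
  have h2 := GW.Model.two_ne_zero_of_odd hodd
  obtain ⟨B, e, he⟩ := exists_semi p h3 φ
  obtain ⟨a, ha⟩ := scalar_of_commute_all (X := (A⁻¹ * φ A).1) fun X => by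
    obtain ⟨Y, rfl⟩ := φ.surjective X
    have h1 := MulEquiv.congr_fun hφ.eq Y
    rw [MulAut.mul_apply, MulAut.mul_apply, MulAut.conj_apply, MulAut.conj_apply, map_mul, map_mul, map_inv] at h1
    exact congrArg Subtype.val (show A⁻¹ * φ A * φ Y = φ Y * (A⁻¹ * φ A) by
      calc A⁻¹ * φ A * φ Y = A⁻¹ * (φ A * φ Y * (φ A)⁻¹) * φ A := by group
        _ = A⁻¹ * (A * φ Y * A⁻¹) * φ A := by rw [h1]
        _ = _ := by group)
  have hφA : (φ A).1 = a • A.1 := by
    calc (φ A).1 = (A * (A⁻¹ * φ A)).1 := by rw [mul_inv_cancel_left]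
      _ = A.1 * (A⁻¹ * φ A).1 := rfl
      _ = a • A.1 := by rw [ha, Matrix.mul_smul, Matrix.mul_one]
  have ha0 : a ≠ 0 := fun e0 => by
    have h1 := (φ A).2
    rw [hφA, e0, zero_smul, Matrix.det_zero] at h1
    exact zero_ne_one h1
  obtain ⟨x, y, hxy⟩ := SL2Centralizer.exists_of_commute hA1 hA.symm
  have hy : y ≠ 0 := fun e0 => hns x (by rw [hxy, e0, zero_smul, add_zero])
  -- the image of `g` is a multiple of it
  set g' := B.1 * g.1.map e * (B⁻¹).1 with hg'
  have hmap : g.1.map e = e x • (1 : Matrix (Fin 2) (Fin 2) F) + e y • A.1.map e := by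
    rw [hxy]; ext i j; by_cases hij : i = j <;> simp [hij]
  have hg'A : g' = e x • (1 : Matrix (Fin 2) (Fin 2) F) + (e y * a) • A.1 := by
    have h1 := he A
    rw [hφA] at h1
    rw [hg', hmap, mul_add, add_mul, Matrix.mul_smul, Matrix.mul_smul, Matrix.smul_mul, Matrix.smul_mul, mul_one,
      ← Units.val_mul, mul_inv_cancel, Units.val_one, ← h1, smul_smul]
  set μ := e y * a / y with hμ
  have hμ0 : μ ≠ 0 := div_ne_zero (mul_ne_zero ((map_ne_zero e).2 hy) ha0) hy
  have hex : e x = μ * x := by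
    have t1 : g'.trace = 0 := by
      rw [hg', Matrix.trace_mul_cycle, ← Units.val_mul, inv_mul_cancel, Units.val_one, Matrix.one_mul,
        Matrix.trace_fin_two]
      rw [Matrix.trace_fin_two] at htr
      show e _ + e _ = 0
      rw [← map_add, htr, map_zero]
    rw [hg'A, Matrix.trace_add, Matrix.trace_smul, Matrix.trace_smul, Matrix.trace_one, Fintype.card_fin] at t1
    have t2 := htr
    rw [hxy, Matrix.trace_add, Matrix.trace_smul, Matrix.trace_smul, Matrix.trace_one, Fintype.card_fin] at t2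
    simp only [smul_eq_mul, Nat.cast_ofNat] at t1 t2
    have hyμ : μ * y = e y * a := by rw [hμ, div_mul_cancel₀ _ hy]
    have : (2 : F) * (e x - μ * x) = 0 := by linear_combination t1 - μ * t2 + A.1.trace * hyμ
    exact sub_eq_zero.1 ((mul_eq_zero.1 this).resolve_left h2)
  have hg'g : g' = μ • g.1 := by
    rw [hg'A, hxy, smul_add, smul_smul, smul_smul, hex, hμ, div_mul_cancel₀ _ hy]
  refine MulEquiv.ext fun X => Subtype.ext ?_
  show (φ (ψ X)).1 = (ψ (φ X)).1
  rw [hψ (φ X)]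
  have key : (φ (ψ X)).1 * g' = g' * (φ X).1 := by
    rw [he, he, hψ, hg']
    have hinv : (g⁻¹).1.map e * g.1.map e = 1 := by
      rw [← Matrix.map_mul, ← Units.val_mul, inv_mul_cancel, Units.val_one, Matrix.map_one _ (map_zero e) (map_one e)]
    rw [Matrix.map_mul, Matrix.map_mul]
    simp only [Matrix.mul_assoc]
    simp only [Units.inv_mul_cancel_left]
    rw [← Matrix.mul_assoc ((g⁻¹).1.map e), hinv, Matrix.one_mul]
  rw [hg'g, Matrix.mul_smul, Matrix.smul_mul] at key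
  have key' := smul_right_injective _ hμ0 key
  rw [← key', Matrix.mul_assoc, ← Units.val_mul, mul_inv_cancel, Units.val_one, Matrix.mul_one]

/-- **`C_O(u)` is cyclic.** -/
theorem Hyp.fixed_core_cyclic (h : Hyp G) (hd : d.Spec) (hq : 3 < d.q) (hOD : ∀ x ∈ d.O, ∀ y ∈ d.D, x * y = y * x) {g : G}
    (hne : g * d.z * g⁻¹ ≠ d.z) (hcm : g * d.z * g⁻¹ * d.z = d.z * (g * d.z * g⁻¹)) :
    IsCyclic ↥(d.O ⊓ Subgroup.centralizer ({g * d.z * g⁻¹} : Set G) : Subgroup G) := by
  classical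
  obtain ⟨R⟩ := hd.exists_rep
  set v := g⁻¹ * d.z * g⁻¹⁻¹ with hv
  have hne' : v ≠ d.z := fun e => hne (by
    calc g * d.z * g⁻¹ = g * v * g⁻¹ := by rw [e]
      _ = d.z := by rw [hv]; group)
  have hcm' : v * d.z = d.z * v := by
    calc g⁻¹ * d.z * g⁻¹⁻¹ * d.z = g⁻¹ * (d.z * (g * d.z * g⁻¹)) * g := by group
      _ = g⁻¹ * (g * d.z * g⁻¹ * d.z) * g := by rw [hcm]
      _ = _ := by rw [hv]; group
  obtain ⟨hvC, hv2⟩ := conj_invol hd hcm'
  obtain ⟨g₀, htr, hns, hg₀⟩ := R.invol hd hq h hvC hv2 hne'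
  set Y : Subgroup G := d.O ⊓ Subgroup.centralizer ({g * d.z * g⁻¹} : Set G) with hY
  have hmem : ∀ y : Y, g⁻¹ * (y : G) * g ∈ d.C := fun y => by
    refine Subgroup.mem_centralizer_singleton_iff.2 ?_
    calc g⁻¹ * (y : G) * g * d.z = g⁻¹ * ((y : G) * (g * d.z * g⁻¹)) * g := by group
      _ = g⁻¹ * (g * d.z * g⁻¹ * y) * g := by rw [Subgroup.mem_centralizer_singleton_iff.1 y.2.2]
      _ = _ := by group
  let f : Y →* MulAut SL[d] := R.σ.comp (MonoidHom.mk' (fun y => ⟨g⁻¹ * (y : G) * g, hmem y⟩)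
    fun a b => Subtype.ext (by show g⁻¹ * ((a : G) * b) * g = (g⁻¹ * a * g) * (g⁻¹ * b * g); group))
  have hinj : Function.Injective f := (injective_iff_map_eq_one f).2 fun y hy => by
    have hodd : Odd (orderOf (g⁻¹ * (y : G) * g)) := by
      rw [show orderOf (g⁻¹ * (y : G) * g) = orderOf (y : G) from by simpa using orderOf_cj g⁻¹ (y : G)]
      exact d.O_odd.of_dvd_nat (Subgroup.orderOf_dvd_natCard _ y.2.1)
    have hO := R.sigma_eq_one hd hq h (hmem y) hodd hy
    exact Subtype.ext (h.core_meet hd hq hOD hne hcm y.2.1 hO)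
  obtain ⟨b, hb, -, hbA⟩ := SL2.exists_torus hd.odd_card (hd.three_lt hq) htr
  obtain ⟨hcyc, -⟩ := SL2Tori.isCyclic_centralizer hb
  haveI := hcyc
  let ρ : Subgroup.centralizer ({b} : Set SL[d]) →* MulAut SL[d] :=
    MulAut.conj.comp (Subgroup.subtype _)
  have hrange : f.range ≤ ρ.range := by
    rintro _ ⟨y, rfl⟩
    obtain ⟨s, c₀, hs, -, -, -, -, -, hσ, hsg⟩ := exists_part h hd hq hOD R hne' hcm' hns htr hvC hg₀ (hmem y) (by
      rw [show (g⁻¹)⁻¹ * (g⁻¹ * (y : G) * g) * g⁻¹ = y by group]; exact y.2.1)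
    exact ⟨⟨_, (hbA _).2 hsg⟩, hσ.symm⟩
  haveI : IsCyclic ρ.range := isCyclic_of_surjective ρ.rangeRestrict ρ.rangeRestrict_surjective
  haveI : IsCyclic f.range := isCyclic_of_injective (Subgroup.inclusion hrange) (Subgroup.inclusion_injective hrange)
  exact isCyclic_of_injective f.rangeRestrict fun a b e => hinj (congrArg Subtype.val e)

/-- Elements of `C_O(u)` of the same order generate the same subgroup. -/
theorem fixed_core_pow (h : Hyp G) (hd : d.Spec) (hq : 3 < d.q) (hOD : ∀ x ∈ d.O, ∀ y ∈ d.D, x * y = y * x) {g : G}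
    (hne : g * d.z * g⁻¹ ≠ d.z) (hcm : g * d.z * g⁻¹ * d.z = d.z * (g * d.z * g⁻¹)) {c c' : G} (hc : c ∈ d.O)
    (hcu : c * (g * d.z * g⁻¹) = g * d.z * g⁻¹ * c) (hc' : c' ∈ d.O)
    (hc'u : c' * (g * d.z * g⁻¹) = g * d.z * g⁻¹ * c') (ho : orderOf c' = orderOf c) :
    ∃ i : ℕ, c' = c ^ i := by
  classical
  set Y : Subgroup G := d.O ⊓ Subgroup.centralizer ({g * d.z * g⁻¹} : Set G) with hY
  haveI : IsCyclic Y := h.fixed_core_cyclic hd hq hOD hne hcm
  haveI := Fintype.ofFinite Y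
  set a : Y := ⟨c, hc, Subgroup.mem_centralizer_singleton_iff.2 hcu⟩ with ha
  set a' : Y := ⟨c', hc', Subgroup.mem_centralizer_singleton_iff.2 hc'u⟩ with ha'
  have hao : orderOf a = orderOf c := Subgroup.orderOf_mk c _
  have hsub : (Finset.range (orderOf a)).image (a ^ ·) ⊆
      Finset.univ.filter fun x : Y => x ^ orderOf a = 1 := fun x hx => by
    obtain ⟨i, -, rfl⟩ := Finset.mem_image.1 hx
    exact Finset.mem_filter.2 ⟨Finset.mem_univ _, by
      show (a ^ i) ^ orderOf a = 1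
      rw [← pow_mul, mul_comm, pow_mul, pow_orderOf_eq_one, one_pow]⟩
  have heq := Finset.eq_of_subset_of_card_le hsub (by
    rw [Finset.card_image_of_injOn (by simpa using pow_injOn_Iio_orderOf (x := a)), Finset.card_range]
    exact IsCyclic.card_pow_eq_one_le (orderOf_pos a))
  have hmem' : a' ∈ Finset.univ.filter fun x : Y => x ^ orderOf a = 1 :=
    Finset.mem_filter.2 ⟨Finset.mem_univ _, Subtype.ext (by
      show c' ^ orderOf a = 1
      rw [hao, ← ho, pow_orderOf_eq_one])⟩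
  rw [← heq, Finset.mem_image] at hmem'
  obtain ⟨i, -, hi⟩ := hmem'
  exact ⟨i, (congrArg Subtype.val hi).symm⟩

/-- **An element `≠ 1` of `C_O(u)` centralises no element of `O` inverted by `u`.** -/
theorem Hyp.fixed_core_fpf (h : Hyp G) (hd : d.Spec) (hq : 3 < d.q)
    (hOD : ∀ x ∈ d.O, ∀ y ∈ d.D, x * y = y * x) {g : G} (hne : g * d.z * g⁻¹ ≠ d.z)
    (hcm : g * d.z * g⁻¹ * d.z = d.z * (g * d.z * g⁻¹)) {c r : G} (hc : c ∈ d.O)
    (hcu : c * (g * d.z * g⁻¹) = g * d.z * g⁻¹ * c) (hc1 : c ≠ 1) (hr : r ∈ d.O)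
    (hru : g * d.z * g⁻¹ * r * (g * d.z * g⁻¹)⁻¹ = r⁻¹) (hcr : c * r = r * c) : r = 1 := by
  classical
  haveI : Fact d.p.Prime := ⟨hd.prime⟩
  haveI := hd.charP
  obtain ⟨R⟩ := hd.exists_rep
  obtain ⟨hu, hu2⟩ := conj_invol hd hcm
  set u := g * d.z * g⁻¹ with hu'
  set v := g⁻¹ * d.z * g⁻¹⁻¹ with hv
  have hne' : v ≠ d.z := fun e => hne (by
    calc g * d.z * g⁻¹ = g * v * g⁻¹ := by rw [e]
      _ = d.z := by rw [hv]; group)
  have hcm' : v * d.z = d.z * v := by
    calc g⁻¹ * d.z * g⁻¹⁻¹ * d.z = g⁻¹ * (d.z * u) * g := by rw [hu']; group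
      _ = g⁻¹ * (u * d.z) * g := by rw [hu', hcm]
      _ = _ := by rw [hu', hv]; group
  obtain ⟨hvC, hv2⟩ := conj_invol hd hcm'
  obtain ⟨g₁, htr₁, hns₁, hg₁⟩ := R.invol hd hq h hvC hv2 hne'
  obtain ⟨g₀, htr, hns, hg₀⟩ := R.invol hd hq h hu hu2 hne
  have toC : ∀ {x : G}, x * u = u * x → g⁻¹ * x * g ∈ d.C := fun {x} hx => by
    refine Subgroup.mem_centralizer_singleton_iff.2 ?_
    calc g⁻¹ * x * g * d.z = g⁻¹ * (x * u) * g := by rw [hu']; group
      _ = g⁻¹ * (u * x) * g := by rw [hx]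
      _ = _ := by rw [hu']; group
  -- `c = t k`
  set k₀ := g⁻¹ * c * g with hk₀
  obtain ⟨t₀, c₀, ht₀, hc₀, hc₀v, hk₀e, ho₀, ht₀c₀, -, -⟩ := exists_part h hd hq hOD R hne' hcm' hns₁ htr₁ hvC hg₁
    (k := k₀) (toC hcu) (by rw [hk₀, show (g⁻¹)⁻¹ * (g⁻¹ * c * g) * g⁻¹ = c by group]; exact hc)
  have hoc : orderOf c₀ = orderOf c := ho₀.trans (by rw [hk₀]; simpa using orderOf_cj g⁻¹ c)
  set k := g * c₀ * g⁻¹ with hk
  have hkg : g⁻¹ * k * g = c₀ := by rw [hk]; group
  have hkC : k ∈ d.C := by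
    refine Subgroup.mem_centralizer_singleton_iff.2 ?_
    calc g * c₀ * g⁻¹ * d.z = g * (c₀ * v) * g⁻¹ := by rw [hv]; group
      _ = g * (v * c₀) * g⁻¹ := by rw [hc₀v]
      _ = _ := by rw [hv, hk]; group
  obtain ⟨s, c₂, hs, hc₂, hc₂u, hke, ho₂, hsc₂, hσk, hsg⟩ := exists_part h hd hq hOD R hne hcm hns htr hu hg₀
    (k := k) hkC (by rw [hkg]; exact hc₀)
  have ho₂c : orderOf c₂ = orderOf c := ho₂.trans (by rw [hk, orderOf_cj]; exact hoc)
  obtain ⟨i, hi⟩ := fixed_core_pow h hd hq hOD hne hcm hc hcu hc₂ hc₂u ho₂c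
  obtain ⟨i', hi'⟩ := fixed_core_pow h hd hq hOD hne hcm hc₂ hc₂u hc hcu ho₂c.symm
  -- an element of `O` commuting with `k` commutes with `c`
  have hOk : ∀ x ∈ d.O, x * k = k * x → x * c = c * x := fun x hx hxk => by
    have h1 : Commute x c₂ := by
      rw [show c₂ = s⁻¹ * k by rw [hke, inv_mul_cancel_left]]
      exact ((show Commute x s from hOD x hx s hs.mem).inv_right).mul_right hxk
    rw [hi']
    exact (h1.pow_right i').eq
  have hrk : r * k = k * r := by
    rw [hke]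
    refine ((show Commute r s from hOD r hr s hs.mem).mul_right ?_).eq
    rw [hi]
    exact (show Commute r c from hcr.symm).pow_right i
  set t := g * t₀ * g⁻¹ with ht
  have hctk : c = t * k := by
    calc c = g * k₀ * g⁻¹ := by rw [hk₀]; group
      _ = t * k := by rw [hk₀e, ht, hk]; group
  have hc₀1 : c₀ ≠ 1 := fun e => hc1 (orderOf_eq_one_iff.1 (by rw [← hoc, e, orderOf_one]))
  have hc₀odd : Odd (orderOf c₀) := d.O_odd.of_dvd_nat (Subgroup.orderOf_dvd_natCard _ hc₀)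
  -- the centraliser of `c₀`
  set H := Subgroup.centralizer ({c₀} : Set G) with hH
  have hHmem : ∀ {x : G}, x * c₀ = c₀ * x → x ∈ H := fun hx => Subgroup.mem_centralizer_singleton_iff.2 hx
  have hzH : d.z ∈ H := hHmem (Frame.Spec.z_central (d.O_le hc₀)).symm
  have hDH : d.D ≤ H := fun a ha => hHmem (hOD c₀ hc₀ a ha).symm
  have hvH : v ∈ H := hHmem hc₀v.symm
  haveI : Fact (Nat.Prime 2) := ⟨Nat.prime_two⟩
  have hzord : orderOf (⟨d.z, hzH⟩ : ↥H) = 2 := (Subgroup.orderOf_mk _ _).trans hd.zord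
  have hnorm : ∀ x ∈ H, x ∈ Subgroup.normalizer (Subgroup.zpowers c₀ : Set G) := fun x hx =>
    Subgroup.mem_normalizer_fintype fun y hy => by
      obtain ⟨n, rfl⟩ := Subgroup.mem_zpowers_iff.1 hy
      rw [((show Commute x c₀ from Subgroup.mem_centralizer_singleton_iff.1 hx).zpow_right n).eq, mul_inv_cancel_right]
      exact Subgroup.zpow_mem_zpowers c₀ n
  have hZ := CfsgLib.ZStar.commutator_mem hzord fun a ha => by
    by_contra hne2
    refine hc₀1 (Subgroup.zpowers_eq_bot.1 (h.pair_trivial hd hq hOD (A := Subgroup.zpowers c₀)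
      (by rw [Nat.card_zpowers]; exact hc₀odd) (fun x hx => hnorm x (hDH hx)) (g := (a : G))
      (fun e => hne2 (Subtype.ext e)) (congrArg Subtype.val ha.eq.symm) fun x hx => hnorm _
        (mul_mem (mul_mem a.2 (hDH hx)) (inv_mem a.2))))
  set X := (pPrimeCore 2 ↥H).map H.subtype with hX
  have hXodd : Odd (Nat.card X) := by
    rw [hX, Subgroup.card_map_of_injective H.subtype_injective, ← Nat.coprime_two_left]
    exact (CfsgLib.card_pPrimeCore_coprime 2).symm
  have hXH : X ≤ H := Subgroup.map_subtype_le _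
  have hXn : ∀ x ∈ H, x ∈ Subgroup.normalizer (X : Set G) := fun x hx =>
    Subgroup.mem_normalizer_fintype fun y hy => by
      obtain ⟨y, hy', rfl⟩ := hy
      exact ⟨⟨x, hx⟩ * y * ⟨x, hx⟩⁻¹, (inferInstance : (pPrimeCore 2 ↥H).Normal).conj_mem y hy' _, rfl⟩
  -- `t₀` centralises the part of `X` at `z`
  have hXz : ∀ x ∈ X, x * d.z = d.z * x → x ∈ d.O := fun x hx hxz => by
    refine hd.odd_le_O hq (Y := X ⊓ d.C) inf_le_right (hXodd.of_dvd_nat (Subgroup.card_dvd_of_le inf_le_left))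
      (fun a ha => ⟨1, one_mem _, ?_⟩) ⟨hx, Subgroup.mem_centralizer_singleton_iff.2 hxz⟩
    rw [mul_one]
    refine Subgroup.mem_normalizer_fintype fun y hy => ⟨mem_normalizer_of_mem (hXn a (hDH ha)) hy.1, ?_⟩
    show _ ∈ d.C
    exact mul_mem (mul_mem (d.D_le ha) hy.2) (inv_mem (d.D_le ha))
  have hzz : d.z * d.z = 1 := invol_mul_self hd.zord
  -- and at `v`
  have hXv : ∀ x ∈ X, x * v = v * x → x * t₀ = t₀ * x := fun x hx hxv => by
    set W := X ⊓ Subgroup.centralizer ({v} : Set G) with hW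
    have hzW : d.z ∈ Subgroup.normalizer (W : Set G) := Subgroup.mem_normalizer_fintype fun y hy => by
      refine ⟨mem_normalizer_of_mem (hXn _ hzH) hy.1, ?_⟩
      show _ ∈ Subgroup.centralizer ({v} : Set G)
      have hzv : d.z ∈ Subgroup.centralizer ({v} : Set G) := Subgroup.mem_centralizer_singleton_iff.2 hcm'.symm
      exact mul_mem (mul_mem hzv hy.2) (inv_mem hzv)
    obtain ⟨a, ha, b, hb, haz, hbz, hab⟩ := exists_fixed_mul_inverted
      (hXodd.of_dvd_nat (Subgroup.card_dvd_of_le inf_le_left)) hzW hzz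
      (⟨hx, Subgroup.mem_centralizer_singleton_iff.2 hxv⟩ : x ∈ W)
    have hat : a * t₀ = t₀ * a := hOD a (hXz a ha.1 (mul_inv_eq_iff_eq_mul.1 haz).symm) t₀ ht₀.mem
    -- the inverted part
    set b' := g * b * g⁻¹ with hb'
    have hbv := Subgroup.mem_centralizer_singleton_iff.1 hb.2
    have hbc : b * c₀ = c₀ * b := Subgroup.mem_centralizer_singleton_iff.1 (hXH hb.1)
    have hb'C : b' ∈ d.C := by
      refine Subgroup.mem_centralizer_singleton_iff.2 ?_
      calc g * b * g⁻¹ * d.z = g * (b * v) * g⁻¹ := by rw [hv]; group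
        _ = g * (v * b) * g⁻¹ := by rw [hbv]
        _ = _ := by rw [hv, hb']; group
    have hb'k : b' * k = k * b' := by
      calc g * b * g⁻¹ * (g * c₀ * g⁻¹) = g * (b * c₀) * g⁻¹ := by group
        _ = g * (c₀ * b) * g⁻¹ := by rw [hbc]
        _ = _ := by rw [hk, hb']; group
    have hb'odd : Odd (orderOf b') := by
      rw [hb', orderOf_cj]; exact hXodd.of_dvd_nat (Subgroup.orderOf_dvd_natCard _ hb.1)
    set φ := R.σ ⟨b', hb'C⟩ with hφ
    have hφψ : Commute φ (R.σ ⟨u, hu⟩) := by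
      refine SL2.commute_of_torus d.p hd.odd_card (hd.three_lt hq) hns htr hsg (fun a ha => ?_) hg₀ ?_
      · have hσ1 : R.σ ⟨k, hkC⟩ = 1 := by
          rw [hσk]
          refine MulEquiv.ext fun A => Subtype.ext ?_
          rw [MulAut.conj_apply, MulAut.one_apply]
          have hcomm : (R.π ⟨s, hd.D_le_L hq hs.mem⟩) * A = A * R.π ⟨s, hd.D_le_L hq hs.mem⟩ := Subtype.ext (by
            show _ * A.1 = A.1 * _
            rw [ha, Matrix.smul_mul, Matrix.one_mul, Matrix.mul_smul, Matrix.mul_one])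
          rw [hcomm, mul_inv_cancel_right]
        have hkodd : Odd (orderOf k) := by rw [hk, orderOf_cj]; exact hc₀odd
        have hk1 := h.core_meet hd hq hOD hne hcm (R.sigma_eq_one hd hq h hkC hkodd hσ1) (by rw [hkg]; exact hc₀)
        exact hc₀1 (conj_eq_one_iff.1 hk1)
      · rw [← hσk]
        exact (show Commute (⟨b', hb'C⟩ : ↥d.C) ⟨k, hkC⟩ from Subtype.ext hb'k).map R.σ
    have hφ2 : φ * φ = 1 := by
      have h1 : (⟨u, hu⟩ : ↥d.C) * ⟨b', hb'C⟩ * (⟨u, hu⟩ : ↥d.C)⁻¹ = (⟨b', hb'C⟩ : ↥d.C)⁻¹ := Subtype.ext (by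
        show u * b' * u⁻¹ = b'⁻¹
        calc u * b' * u⁻¹ = g * (d.z * b * d.z⁻¹) * g⁻¹ := by rw [hu', hb']; group
          _ = _ := by rw [hbz, hb']; group)
      have h2 := congrArg R.σ h1
      rw [map_mul, map_mul, map_inv, map_inv, ← hφ, ← hφψ.eq, mul_inv_cancel_right] at h2
      exact mul_eq_one_iff_eq_inv.2 h2
    have hφ1 : φ = 1 := eq_one_of_sq_odd hφ2
      (hb'odd.of_dvd_nat ((orderOf_map_dvd R.σ _).trans (dvd_of_eq (Subgroup.orderOf_mk b' hb'C))))
    have hb'O : b' ∈ d.O := R.sigma_eq_one hd hq h hb'C hb'odd hφ1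
    have hb't : Commute b' t := by
      rw [show t = c * k⁻¹ by rw [hctk, mul_inv_cancel_right]]
      exact (show Commute b' c from hOk b' hb'O hb'k).mul_right (show Commute b' k from hb'k).inv_right
    have hbt : Commute b t₀ := (Commute.conj_iff g).1 hb't
    rw [hab]
    exact ((show Commute a t₀ from hat).mul_left hbt).eq
  obtain ⟨w, hw, hwv⟩ := h.swap_D hd hq hvC hv2 hne'
  have hXzv : ∀ x ∈ X, x * (d.z * v) = d.z * v * x → x * t₀ = t₀ * x := fun x hx hxv => by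
    have h1 : w * x * w⁻¹ * v = v * (w * x * w⁻¹) := by
      have h2 := (Commute.conj_iff w).2 (show Commute x (d.z * v) from hxv)
      rw [swap_back hd (d.D_le hw) hwv] at h2
      exact h2.eq
    have h3 : Commute (w * x * w⁻¹) (w * t₀⁻¹ * w⁻¹) := by
      rw [show w * t₀⁻¹ * w⁻¹ = (w * t₀ * w⁻¹)⁻¹ by group, ht₀.inverted w hw hwv, inv_inv]
      exact hXv _ (mem_normalizer_of_mem (hXn w (hDH hw)) hx) h1
    exact (((Commute.conj_iff w).1 h3).inv_right |> fun e => by rw [inv_inv] at e; exact e.eq)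
  -- the four group
  let A : Subgroup G :=
    { carrier := {x | x = 1 ∨ x = d.z ∨ x = v ∨ x = d.z * v}
      mul_mem' := by
        have hvv : v * v = 1 := invol_mul_self hv2
        have h1 : ∀ x, d.z * (d.z * x) = x := fun x => by rw [← mul_assoc, hzz, one_mul]
        have h2 : ∀ x, v * (v * x) = x := fun x => by rw [← mul_assoc, hvv, one_mul]
        have h3 : ∀ x, v * (d.z * x) = d.z * (v * x) := fun x => by rw [← mul_assoc, hcm', mul_assoc]
        rintro x y (e | e | e | e) (e' | e' | e' | e') <;> rw [e, e'] <;>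
          simp [mul_assoc, hzz, hvv, hcm', h1, h2, h3]
      one_mem' := Or.inl rfl
      inv_mem' := by
        have hvv : v * v = 1 := invol_mul_self hv2
        have hvi := inv_eq_of_mul_eq_one_right hvv
        have hzi := inv_eq_of_mul_eq_one_right hzz
        rintro x (rfl | rfl | rfl | rfl) <;> simp [hvi, hzi, hcm'] }
  have hAm : ∀ x : A, x * x = 1 := fun x => Subtype.ext (by
    have hvv : v * v = 1 := invol_mul_self hv2
    show (x : G) * x = 1
    rcases x.2 with e | e | e | e <;> rw [e]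
    · simp
    · exact hzz
    · exact hvv
    · rw [mul_assoc, ← mul_assoc v, hcm', mul_assoc, hvv, mul_one, hzz])
  haveI : IsMulCommutative A := ⟨⟨fun a b => by
    have h1 := hAm (a * b)
    calc a * b = (a * b) * ((a * a) * (b * b)) := by rw [hAm, hAm]; simp
      _ = b * a := by
        have ea : a⁻¹ = a := inv_eq_of_mul_eq_one_right (hAm a)
        have eb : b⁻¹ = b := inv_eq_of_mul_eq_one_right (hAm b)
        have h2 : a * b = (a * b)⁻¹ := (inv_eq_of_mul_eq_one_right h1).symm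
        rw [hAm, hAm, mul_one, mul_one]
        conv_lhs => rw [h2, mul_inv_rev, ea, eb]⟩⟩
  have hAnc : ¬ IsCyclic A := fun hA => by
    obtain ⟨γ, hγ⟩ := hA.exists_generator
    have hval : ∀ x : A, x = 1 ∨ x = γ := fun x => by
      obtain ⟨n, rfl⟩ := Subgroup.mem_zpowers_iff.1 (hγ x)
      rcases Int.even_or_odd n with ⟨m, rfl⟩ | ⟨m, rfl⟩
      · left; rw [← two_mul, zpow_mul, zpow_two, hAm, one_zpow]
      · right; rw [zpow_add, zpow_mul, zpow_two, hAm, one_zpow, one_mul, zpow_one]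
    have hz1 : d.z ≠ 1 := fun e => by have := hd.zord; rw [e, orderOf_one] at this; omega
    have hv1 : v ≠ 1 := fun e => by
      have hv2' : orderOf v = 2 := hv2
      rw [e, orderOf_one] at hv2'
      omega
    rcases hval ⟨d.z, Or.inr (Or.inl rfl)⟩ with e | e
    · exact hz1 (congrArg Subtype.val e)
    rcases hval ⟨v, Or.inr (Or.inr (Or.inl rfl))⟩ with e' | e'
    · exact hv1 (congrArg Subtype.val e')
    exact hne' (congrArg Subtype.val (e'.trans e.symm))
  have hAH : A ≤ H := fun x hx => by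
    rcases hx with e | e | e | e <;> rw [e]
    exacts [one_mem H, hzH, hvH, mul_mem hzH hvH]
  have hA2 : IsPGroup 2 A := fun a => ⟨1, by rw [pow_one, pow_two, hAm]⟩
  have hXt : X ≤ Subgroup.centralizer ({t₀} : Set G) := by
    obtain ⟨m, hm⟩ := IsPGroup.iff_card.1 hA2
    refine (CfsgLib.coprime_generated_by_centralizers hAnc (fun x hx => hXn x (hAH hx))
      (by rw [hm]; exact (Nat.coprime_two_left.2 hXodd).pow_left m)).ge.trans (iSup₂_le fun a ha x hx => ?_)
    refine Subgroup.mem_centralizer_singleton_iff.2 ?_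
    have hxa := Subgroup.mem_centralizer_singleton_iff.1 hx.2
    rcases ha.1 with e | e | e | e
    · exact absurd e ha.2
    · exact hOD x (hXz x hx.1 (e ▸ hxa)) t₀ ht₀.mem
    · exact hXv x hx.1 (e ▸ hxa)
    · exact hXzv x hx.1 (e ▸ hxa)
  -- `D` centralises `X`
  obtain ⟨π, hπ, hπker⟩ := hd.exists_proj hq
  haveI := d.D_perfect
  set N : Subgroup ↥d.D := (Subgroup.centralizer (X : Set G)).subgroupOf d.D with hN
  haveI : N.Normal := ⟨fun a ha b => Subgroup.mem_centralizer_iff.2 fun y hy => by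
    have hy' : ((b : G))⁻¹ * y * b ∈ X := by
      simpa using mem_normalizer_of_mem (hXn _ (inv_mem (hDH b.2))) hy
    have h1 : Commute ((b : G)⁻¹ * y * b) (a : G) := Subgroup.mem_centralizer_iff.1 ha _ hy'
    have h2 := (Commute.conj_iff (b : G)).2 h1
    rw [show (b : G) * ((b : G)⁻¹ * y * b) * (b : G)⁻¹ = y by group] at h2
    exact h2.eq⟩
  have ht₀N : (⟨t₀, ht₀.mem⟩ : ↥d.D) ∈ N := Subgroup.mem_centralizer_iff.2 fun y hy =>
    Subgroup.mem_centralizer_singleton_iff.1 (hXt hy)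
  haveI := (inferInstance : N.Normal).map π hπ
  have ht₀1 : t₀ ≠ 1 := fun e => by
    have hk₁ : k₀ ∈ d.O := by rw [hk₀e, e, one_mul]; exact hc₀
    have := h.core_meet hd hq hOD (g := g⁻¹) hne' hcm' (x := k₀) hk₁ (by
      rw [hk₀, show (g⁻¹)⁻¹ * (g⁻¹ * c * g) * g⁻¹ = c by group]; exact hc)
    rw [hk₀] at this
    exact hc1 (by
      have := congrArg (fun x => g * x * g⁻¹) this
      simpa [mul_assoc] using this)
  have ht₀odd : Odd (orderOf t₀) := by
    have hk₀odd : Odd (orderOf k₀) := by rw [← ho₀]; exact hc₀odd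
    have hcomm : Commute k₀ c₀⁻¹ := by
      rw [hk₀e]
      exact ((show Commute t₀ c₀ from ht₀c₀).mul_left (Commute.refl c₀)).inv_right
    have := (hk₀odd.mul (show Odd (orderOf c₀⁻¹) by rw [orderOf_inv]; exact hc₀odd)).of_dvd_nat
      (hcomm.orderOf_mul_dvd_lcm.trans (Nat.lcm_dvd_mul _ _))
    rwa [hk₀e, mul_inv_cancel_right] at this
  rcases sl2_normal hd hq (N.map π) with hcen | htop
  · exfalso
    have hmem := hcen (Subgroup.mem_map_of_mem π ht₀N)
    obtain ⟨a, ha, hA⟩ := Matrix.SpecialLinearGroup.mem_center_iff.mp hmem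
    rw [Fintype.card_fin] at ha
    have hsq : π (⟨t₀, ht₀.mem⟩ * ⟨t₀, ht₀.mem⟩) = 1 := by
      rw [map_mul]
      refine Subtype.ext ?_
      show (π ⟨t₀, ht₀.mem⟩).1 * (π ⟨t₀, ht₀.mem⟩).1 = 1
      rw [← hA, ← map_mul, ← pow_two, ha, map_one]
    have hsO := (hπker _).1 hsq
    have h2 := InS.eq_one_O h hd hq hOD hvC hv2 hne' (InS.mul' h hd hq hOD hvC hv2 hne' ht₀ ht₀) hsO
    exact ht₀1 (eq_one_of_sq_odd h2 ht₀odd)
  have hDN : (⊤ : Subgroup ↥d.D) ≤ N := by
    rw [← Group.IsPerfect.commutator_eq_top (G := ↥d.D), _root_.commutator_def, Subgroup.commutator_le]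
    intro a _ b _
    have hdec : ∀ a : ↥d.D, ∃ n ∈ N, ∀ y : ↥d.D, (n⁻¹ * a) * y = y * (n⁻¹ * a) := fun a => by
      obtain ⟨n, hn, hna⟩ := htop.ge (Subgroup.mem_top (π a))
      exact ⟨n, hn, fun y => Subtype.ext (hOD _ ((hπker (n⁻¹ * a)).1 (by rw [map_mul, map_inv, hna, inv_mul_cancel]))
        y y.2)⟩
    obtain ⟨n, hn, hna⟩ := hdec a
    rw [commutatorElement_def, show a * b * a⁻¹ * b⁻¹ = n * ((n⁻¹ * a) * b * (n⁻¹ * a)⁻¹) * n⁻¹ * b⁻¹ by group,
      hna b, mul_inv_cancel_right, show n * b * n⁻¹ * b⁻¹ = n * (b * n⁻¹ * b⁻¹) by group]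
    exact mul_mem hn ((inferInstance : N.Normal).conj_mem _ (inv_mem hn) b)
  -- so `r` commutes with the conjugate of `D`
  set r₀ := g⁻¹ * r * g with hr₀
  have hr₀H : r₀ ∈ H := by
    refine hHmem ?_
    calc g⁻¹ * r * g * c₀ = g⁻¹ * (r * k) * g := by rw [hk]; group
      _ = g⁻¹ * (k * r) * g := by rw [hrk]
      _ = _ := by rw [hk, hr₀]; group
  have hr₀z : d.z * r₀ * d.z⁻¹ = r₀⁻¹ := by
    calc d.z * r₀ * d.z⁻¹ = g⁻¹ * (u * r * u⁻¹) * g := by rw [hr₀, hu']; group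
      _ = _ := by rw [hru, hr₀]; group
  have hr₀X : r₀ ∈ X := by
    have h1 : r₀⁻¹ * r₀⁻¹ ∈ X := by
      refine ⟨_, hZ ⟨r₀, hr₀H⟩, ?_⟩
      show d.z * r₀ * d.z⁻¹ * r₀⁻¹ = _
      rw [hr₀z]
    have h2 : r₀ * r₀ ∈ X := by
      have := inv_mem h1
      simpa using this
    obtain ⟨j, hj⟩ : Odd (orderOf r₀) := by
      rw [show orderOf r₀ = orderOf r from by rw [hr₀]; simpa using orderOf_cj g⁻¹ r]
      exact d.O_odd.of_dvd_nat (Subgroup.orderOf_dvd_natCard _ hr)
    rw [show r₀ = (r₀ * r₀) ^ (j + 1) by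
      rw [← pow_two, ← pow_mul, show 2 * (j + 1) = orderOf r₀ + 1 by omega, pow_succ, pow_orderOf_eq_one, one_mul]]
    exact pow_mem h2 _
  refine h.pair_trivial_elem hd hq hOD hne hcm (d.O_odd.of_dvd_nat (Subgroup.orderOf_dvd_natCard _ hr))
    (fun y hy => hOD r hr y hy) fun y hy => ?_
  have h1 : Commute r₀ y := Subgroup.mem_centralizer_iff.1 (hDN (Subgroup.mem_top (⟨y, hy⟩ : ↥d.D))) r₀ hr₀X
  have h2 := (Commute.conj_iff g).2 h1
  rw [show g * r₀ * g⁻¹ = r by rw [hr₀]; group] at h2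
  exact h2.eq

/-- **L3.** The elements of `O` inverted by `u` form a normal abelian complement of `C_O(u)` in `O`. -/
theorem Hyp.inverted_core (h : Hyp G) (hd : d.Spec) (hq : 3 < d.q)
    (hOD : ∀ x ∈ d.O, ∀ y ∈ d.D, x * y = y * x) {g : G} (hne : g * d.z * g⁻¹ ≠ d.z)
    (hcm : g * d.z * g⁻¹ * d.z = d.z * (g * d.z * g⁻¹)) :
    ∃ I : Subgroup G, I ≤ d.O ∧
      (∀ x, x ∈ I ↔ x ∈ d.O ∧ g * d.z * g⁻¹ * x * (g * d.z * g⁻¹)⁻¹ = x⁻¹) ∧
      (∀ x ∈ I, ∀ y ∈ I, x * y = y * x) ∧ (∀ x ∈ d.O, ∀ i ∈ I, x * i * x⁻¹ ∈ I) ∧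
      ∀ x ∈ d.O, ∃ c ∈ d.O, c * (g * d.z * g⁻¹) = g * d.z * g⁻¹ * c ∧ ∃ i ∈ I, x = c * i := by
  classical
  obtain ⟨hu, hu2⟩ := conj_invol hd hcm
  set u := g * d.z * g⁻¹ with hu'
  have huu : u * u = 1 := invol_mul_self hu2
  have huO : u ∈ Subgroup.normalizer (d.O : Set G) :=
    Subgroup.mem_normalizer_fintype fun x hx => Frame.Spec.O_conj hu hx
  set P : Subgroup ↥d.O := (Subgroup.centralizer ({u} : Set G)).subgroupOf d.O with hP
  have hPm : ∀ x : ↥d.O, x ∈ P ↔ (x : G) * u = u * x := fun x =>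
    Subgroup.mem_subgroupOf.trans Subgroup.mem_centralizer_singleton_iff
  haveI : IsMulCommutative P := ⟨⟨fun a b => Subtype.ext (Subtype.ext
    (h.fixed_core_comm hd hq hOD hne hcm (a : ↥d.O).2 (b : ↥d.O).2 ((hPm _).1 a.2) ((hPm _).1 b.2)))⟩⟩
  obtain ⟨V, hV⟩ : ∃ V : ↥d.O →* P, V = MonoidHom.transfer (MonoidHom.id P) := ⟨_, rfl⟩
  -- an element of prime order of `P` fixes one coset only
  have hgood : ∀ {p : ℕ} [Fact p.Prime] (a : ↥d.O), a ∈ P → orderOf a = p → GoodTransfer.Good p P a := by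
    intro p hp a ha hap
    refine ⟨ha, by rw [← hap]; exact pow_orderOf_eq_one a, fun x hx => ?_⟩
    obtain ⟨c, hc, i, hi, hcu, hiu, hxe⟩ := exists_fixed_mul_inverted d.O_odd huO huu x.2
    have hcu' : c * u = u * c := (mul_inv_eq_iff_eq_mul.1 hcu).symm
    have hau := (hPm a).1 ha
    have ha' : (x : G)⁻¹ * a * x = i⁻¹ * a * i := by
      rw [hxe]
      have hac : (a : G) * c = c * a := h.fixed_core_comm hd hq hOD hne hcm a.2 hc hau hcu'
      calc (c * i)⁻¹ * (a : G) * (c * i) = i⁻¹ * c⁻¹ * ((a : G) * c) * i := by group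
        _ = _ := by rw [hac]; group
    have h1 : i⁻¹ * a * i * u = u * (i⁻¹ * a * i) := by
      rw [← ha']; exact (hPm _).1 hx
    have hua : u * (a : G) * u⁻¹ = a := by rw [← hau, mul_inv_cancel_right]
    have h2 : i * a * i⁻¹ = i⁻¹ * a * i := by
      calc i * (a : G) * i⁻¹ = (u * i * u⁻¹)⁻¹ * (u * a * u⁻¹) * (u * i * u⁻¹) := by rw [hiu, hua, inv_inv]
        _ = u * (i⁻¹ * a * i) * u⁻¹ := by group
        _ = _ := by rw [← h1, mul_inv_cancel_right]
    obtain ⟨j, hj⟩ : Odd (orderOf i) := d.O_odd.of_dvd_nat (Subgroup.orderOf_dvd_natCard _ hi)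
    have h3 : Commute (i * i) (a : G) := by
      show i * i * (a : G) = (a : G) * (i * i)
      calc i * i * (a : G) = i * (i * a * i⁻¹) * i := by group
        _ = i * (i⁻¹ * a * i) * i := by rw [h2]
        _ = _ := by group
    have hia : Commute i (a : G) := by
      rw [show i = (i * i) ^ (j + 1) by
        rw [← pow_two, ← pow_mul, show 2 * (j + 1) = orderOf i + 1 by omega, pow_succ, pow_orderOf_eq_one, one_mul]]
      exact h3.pow_left _
    have hi1 : i = 1 := h.fixed_core_fpf hd hq hOD hne hcm a.2 hau (fun e => by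
      rw [show a = 1 from Subtype.ext e, orderOf_one] at hap
      exact hp.out.one_lt.ne hap) hi hiu hia.symm.eq
    rw [hPm, hxe, hi1, mul_one]
    exact hcu'
  -- the transfer is bijective on `P`
  have hinj : Function.Injective (V.comp P.subtype) := (injective_iff_map_eq_one _).2 fun a ha => by
    by_contra hne1
    obtain ⟨p, hp, hpd⟩ := Nat.exists_prime_and_dvd (fun e => hne1 (orderOf_eq_one_iff.1 e))
    haveI := Fact.mk hp
    set b := a ^ (orderOf a / p) with hb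
    have hbo : orderOf b = p := orderOf_pow_orderOf_div (orderOf_pos a).ne' hpd
    have hbo' : orderOf (b : ↥d.O) = p := by rw [Subgroup.orderOf_coe]; exact hbo
    have h1 : V (b : ↥d.O) = 1 := by
      show (V.comp P.subtype) b = 1
      rw [hb, map_pow, ha, one_pow]
    rw [hV, GoodTransfer.transfer_good _ (hgood _ b.2 hbo'), MonoidHom.id_apply] at h1
    rw [show b = 1 from h1, orderOf_one] at hbo
    exact hp.one_lt.ne hbo
  have hbij : Function.Bijective (V.comp P.subtype) := ⟨hinj, Finite.injective_iff_surjective.1 hinj⟩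
  have hcop : (Nat.card V.ker).Coprime (Nat.card P) := by
    refine Nat.coprime_of_dvd fun p hp h1 h2 => ?_
    haveI := Fact.mk hp
    obtain ⟨a, ha⟩ := exists_prime_orderOf_dvd_card' p h2
    have h3 := GoodTransfer.index_mod (hgood (p := p) (a : ↥d.O) a.2 (by rw [Subgroup.orderOf_coe]; exact ha))
    have hrange : Nat.card V.range = Nat.card P := by
      rw [MonoidHom.range_eq_top.2 fun y => by obtain ⟨b, hb⟩ := hbij.2 y; exact ⟨b, hb⟩, Subgroup.card_top]
    have h4 : Nat.card V.ker = P.index := by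
      have e1 := V.ker.card_mul_index
      rw [Subgroup.index_ker, hrange, ← P.card_mul_index, mul_comm (Nat.card P)] at e1
      exact mul_right_cancel₀ Nat.card_pos.ne' e1
    rw [h4] at h1
    rw [Nat.mod_eq_zero_of_dvd h1] at h3
    exact zero_ne_one h3
  -- conjugation by `u`
  let α : ↥d.O →* ↥d.O := MonoidHom.mk' (fun x => ⟨u * x * u⁻¹, Frame.Spec.O_conj hu x.2⟩) fun x y =>
    Subtype.ext (by show u * ((x : G) * y) * u⁻¹ = (u * x * u⁻¹) * (u * y * u⁻¹); group)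
  have hαK : ∀ x ∈ V.ker, V (α x) = 1 := fun x hx => by
    refine orderOf_eq_one_iff.1 (Nat.eq_one_of_dvd_coprimes hcop ?_ (orderOf_dvd_natCard _))
    exact ((orderOf_map_dvd V _).trans (orderOf_map_dvd α x)).trans
      (Subgroup.orderOf_dvd_natCard V.ker hx)
  have hdec : ∀ x : ↥d.O, ∃ y : P, ∃ k ∈ V.ker, x = (y : ↥d.O) * k := fun x => by
    obtain ⟨y, hy⟩ := hbij.2 (V x)
    have hy' : V (y : ↥d.O) = V x := hy
    exact ⟨y, (y : ↥d.O)⁻¹ * x, by rw [MonoidHom.mem_ker, map_mul, map_inv, hy', inv_mul_cancel],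
      (mul_inv_cancel_left _ _).symm⟩
  have hfix : ∀ y : P, α y = y := fun y => Subtype.ext (by
    show u * ((y : ↥d.O) : G) * u⁻¹ = _
    rw [← (hPm _).1 y.2, mul_inv_cancel_right])
  set I := V.ker.map d.O.subtype with hI
  have hchar : ∀ x : ↥d.O, x ∈ V.ker ↔ u * (x : G) * u⁻¹ = (x : G)⁻¹ := by
    intro x
    constructor
    · intro hx
      obtain ⟨c, hc, i, hi, hcu, hiu, hce⟩ := exists_fixed_mul_inverted (W := I)
        (d.O_odd.of_dvd_nat (Subgroup.card_dvd_of_le (Subgroup.map_subtype_le _)))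
        (Subgroup.mem_normalizer_fintype fun y hy => by
          obtain ⟨y, hy', rfl⟩ := hy
          exact ⟨α y, MonoidHom.mem_ker.2 (hαK y hy'), rfl⟩) huu (Subgroup.mem_map_of_mem _ hx)
      obtain ⟨c, hck, rfl⟩ := hc
      have hc1 : c = 1 := by
        have hcP : c ∈ P := (hPm c).2 (mul_inv_eq_iff_eq_mul.1 hcu).symm
        exact congrArg Subtype.val (hinj (a₁ := ⟨c, hcP⟩) (a₂ := 1) (by
          rw [map_one]; exact hck))
      rw [hc1, map_one, one_mul] at hce
      have hce' : (x : G) = i := hce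
      rw [hce']
      exact hiu
    · intro hx
      obtain ⟨y, k, hk, rfl⟩ := hdec x
      have e : α ((y : ↥d.O) * k) = ((y : ↥d.O) * k)⁻¹ := Subtype.ext hx
      have h1 := congrArg V e
      rw [map_mul α, hfix, map_mul, hαK k hk, mul_one, map_inv, map_mul, hk, mul_one] at h1
      have h2 : V (y : ↥d.O) * V y = 1 := by
        nth_rewrite 2 [h1]; exact mul_inv_cancel _
      rw [MonoidHom.mem_ker, map_mul, hk, mul_one]
      refine Subtype.ext (Subtype.ext ?_)
      exact eq_one_of_sq d.O_odd ((V y : ↥d.O)).2 (congrArg (fun z : P => (((z : ↥d.O)) : G)) h2)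
  have hIle : I ≤ d.O := Subgroup.map_subtype_le _
  have hiff : ∀ x, x ∈ I ↔ x ∈ d.O ∧ u * x * u⁻¹ = x⁻¹ := fun x => by
    constructor
    · rintro ⟨y, hy, rfl⟩
      exact ⟨y.2, (hchar y).1 hy⟩
    · rintro ⟨hx, e⟩
      exact ⟨⟨x, hx⟩, (hchar ⟨x, hx⟩).2 e, rfl⟩
  refine ⟨I, hIle, hiff, fun x hx y hy => ?_, fun x hx i hi => ?_, fun x hx => ?_⟩
  · have e := ((hiff _).1 (mul_mem hx hy)).2
    rw [show u * (x * y) * u⁻¹ = (u * x * u⁻¹) * (u * y * u⁻¹) by group, ((hiff x).1 hx).2, ((hiff y).1 hy).2,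
      ← mul_inv_rev] at e
    exact (inv_injective e).symm
  · obtain ⟨i, hi, rfl⟩ := hi
    exact ⟨⟨x, hx⟩ * i * ⟨x, hx⟩⁻¹, (inferInstance : V.ker.Normal).conj_mem i hi _, rfl⟩
  · obtain ⟨y, k, hk, e⟩ := hdec ⟨x, hx⟩
    exact ⟨((y : ↥d.O) : G), (y : ↥d.O).2, (hPm _).1 y.2, (k : G), ⟨k, hk, rfl⟩, congrArg Subtype.val e⟩

end CfsgLib.RankTwoModel
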