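import Cfsg.Agent.Lib.RankTwo.PairTrivial

/-!
The element form of `pair_trivial` and the intersection of two cores at commuting involutions, for `[O, D] = 1`.

Blueprint: `blueprint/RankTwo.md` (P7).
-/

set_option autoImplicit false
set_option linter.unusedSectionVars false

namespace CfsgLib.RankTwoModel

open Cfsg

universe u

variable {G : Type u} [Group G] [Finite G] {d : Frame G}

/-- An odd element centralising `D` and its conjugate at a commuting involution is trivial. -/
theorem Hyp.pair_trivial_elem (h : Hyp G) (hd : d.Spec) (hq : 3 < d.q)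
    (hOD : ∀ x ∈ d.O, ∀ y ∈ d.D, x * y = y * x) {g : G} (hne : g * d.z * g⁻¹ ≠ d.z)
    (hcm : g * d.z * g⁻¹ * d.z = d.z * (g * d.z * g⁻¹)) {x : G} (hx : Odd (orderOf x))
    (hxD : ∀ y ∈ d.D, x * y = y * x) (hxg : ∀ y ∈ d.D, x * (g * y * g⁻¹) = g * y * g⁻¹ * x) : x = 1 := by
  have hn : ∀ a : G, x * a = a * x → a ∈ Subgroup.normalizer (Subgroup.zpowers x : Set G) := fun a ha =>
    Subgroup.mem_normalizer_fintype fun y hy => by
      obtain ⟨k, rfl⟩ := Subgroup.mem_zpowers_iff.1 hy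
      rw [((show Commute x a from ha).zpow_left k).symm.eq, mul_inv_cancel_right]
      exact Subgroup.zpow_mem_zpowers x k
  exact Subgroup.zpowers_eq_bot.1 (h.pair_trivial hd hq hOD (A := Subgroup.zpowers x)
    (by rwa [Nat.card_zpowers]) (fun y hy => hn y (hxD y hy)) hne hcm fun y hy => hn _ (hxg y hy))

/-- **The cores at two commuting involutions meet trivially.** -/
theorem Hyp.core_meet (h : Hyp G) (hd : d.Spec) (hq : 3 < d.q)
    (hOD : ∀ x ∈ d.O, ∀ y ∈ d.D, x * y = y * x) {g : G} (hne : g * d.z * g⁻¹ ≠ d.z)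
    (hcm : g * d.z * g⁻¹ * d.z = d.z * (g * d.z * g⁻¹)) {x : G} (hx : x ∈ d.O) (hxg : g⁻¹ * x * g ∈ d.O) :
    x = 1 := by
  refine h.pair_trivial_elem hd hq hOD hne hcm (d.O_odd.of_dvd_nat (Subgroup.orderOf_dvd_natCard _ hx))
    (fun y hy => hOD x hx y hy) fun y hy => ?_
  have e := hOD _ hxg y hy
  calc x * (g * y * g⁻¹) = g * (g⁻¹ * x * g * y) * g⁻¹ := by group
    _ = g * (y * (g⁻¹ * x * g)) * g⁻¹ := by rw [e]
    _ = g * y * g⁻¹ * x := by group

end CfsgLib.RankTwoModel
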