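import Cfsg.Agent.Lib.RankTwo.Recognise
import Cfsg.Agent.Lib.RankTwo.HeisLift
import Cfsg.Agent.Lib.RankTwo.CentralFalse
import Cfsg.Agent.Lib.RankTwo.Core
import Cfsg.Agent.Lib.RankTwoModel.OddNormalized
import Cfsg.Agent.Lib.RankTwoModel.Invol

/-!
# No odd subgroup is normalised by `D` and a conjugate of `D` at a commuting involution

In the case `[O(C(z)), D] = 1`.

Blueprint: `blueprint/RankTwo.md` (P7, L1/L2).
-/

set_option autoImplicit false
set_option linter.unusedSectionVars false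
set_option linter.style.haveILetI false

namespace CfsgLib.RankTwoModel

open Cfsg CfsgLib.BG CfsgLib.GW CfsgLib.DihedralFusion CfsgLib.BenderMax
open scoped MatrixGroups commutatorElement

universe u

variable {G : Type u} [Group G] [Finite G] {d : Frame G}

/-- Two by two matrices of determinant one anticommuting with a trace zero one. -/
theorem exists_anticomm {F : Type*} [Field F] [Fintype F] (hF : Odd (Fintype.card F)) (g : GL (Fin 2) F)
    (htr : g.1.trace = 0) : ∃ A : Matrix.SpecialLinearGroup (Fin 2) F, g.1 * A.1 * (g⁻¹).1 = -A.1 := by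
  classical
  have h2 : (2 : F) ≠ 0 := Ring.two_ne_zero fun h => Nat.not_even_iff_odd.mpr hF
    ((FiniteField.even_card_iff_char_two).mp h |> Nat.even_iff.mpr)
  rw [Matrix.trace_fin_two] at htr
  set a := g.1 0 0
  set b := g.1 0 1
  set c := g.1 1 0
  have hd : g.1 1 1 = -a := by linear_combination htr
  have hdet : a * a + b * c ≠ 0 := fun e => by
    have h := (Matrix.isUnit_iff_isUnit_det g.1).1 g.isUnit
    refine h.ne_zero ?_
    rw [Matrix.det_fin_two, hd]
    linear_combination -e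
  obtain ⟨x, y, w, hs, hdt⟩ : ∃ x y w : F, 2 * a * x + b * w + c * y = 0 ∧ -(x * x) - y * w = 1 := by
    by_cases hb : b = 0
    · have ha : a ≠ 0 := fun e => hdet (by rw [e, hb]; ring)
      exact ⟨-c / (2 * a), 1, -1 - (-c / (2 * a)) * (-c / (2 * a)), by rw [hb]; field_simp; ring, by ring⟩
    · set D := a * a + b * c with hD
      obtain ⟨X, Y, hXY⟩ := FiniteField.exists_root_sum_quadratic
        (f := Polynomial.C (1 : F) * Polynomial.X ^ 2 + Polynomial.C (b * b))
        (g := Polynomial.C (-D) * Polynomial.X ^ 2)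
        (by rw [Polynomial.degree_add_C (by rw [Polynomial.degree_C_mul_X_pow 2 one_ne_zero]; decide),
          Polynomial.degree_C_mul_X_pow 2 one_ne_zero]; rfl)
        (Polynomial.degree_C_mul_X_pow 2 (neg_ne_zero.2 hdet)) (Nat.odd_iff.1 hF)
      simp only [Polynomial.eval_add, Polynomial.eval_mul, Polynomial.eval_C, Polynomial.eval_pow,
        Polynomial.eval_X, one_mul] at hXY
      refine ⟨(X + a * Y) / b, Y, -(2 * a * ((X + a * Y) / b) + c * Y) / b, by field_simp; ring, ?_⟩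
      rw [hD] at hXY
      field_simp
      linear_combination -hXY
  refine ⟨⟨!![x, y; w, -x], by rw [Matrix.det_fin_two_of]; linear_combination hdt⟩, ?_⟩
  have hg1 : g.1 = !![a, b; c, -a] := by
    ext i j
    fin_cases i <;> fin_cases j <;> simp [a, b, c, hd]
  have hanti : g.1 * !![x, y; w, -x] = -(!![x, y; w, -x] * g.1) := by
    rw [hg1, Matrix.mul_fin_two, Matrix.mul_fin_two]
    ext i j
    fin_cases i <;> fin_cases j <;> simp <;> first | linear_combination hs | linear_combination -hs | ring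
  show g.1 * !![x, y; w, -x] * (g⁻¹).1 = -!![x, y; w, -x]
  rw [hanti, neg_mul, Matrix.mul_assoc, ← Units.val_mul, mul_inv_cancel, Units.val_one, Matrix.mul_one]

/-- An element of `D` swaps the two other involutions of a four group through `z`. -/
theorem Hyp.swap_D (h : Hyp G) (hd : d.Spec) (hq : 3 < d.q) {v : G} (hv : v ∈ d.C) (hv2 : orderOf v = 2)
    (hvz : v ≠ d.z) : ∃ y ∈ d.D, y * v * y⁻¹ = d.z * v := by
  haveI := Fintype.ofFinite G
  obtain ⟨R⟩ := hd.exists_rep
  obtain ⟨g, htr, -, hg⟩ := R.invol hd hq h hv hv2 hvz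
  obtain ⟨A, hA⟩ := exists_anticomm hd.odd_card g htr
  obtain ⟨y, hy, hyA⟩ := R.surj_D hd hq A
  have hz : d.z * d.z = 1 := invol_mul_self hd.zord
  have hvv : v * v = 1 := invol_mul_self hv2
  have hvi : v⁻¹ = v := inv_eq_of_mul_eq_one_right hvv
  have hcz : v * d.z = d.z * v := Frame.Spec.z_central hv
  have hzv : orderOf (d.z * v) = 2 := orderOf_mul_invol hd.zord hv2 hcz.symm hvz
  have hyL : y ∈ d.L := hd.D_le_L hq hy
  -- the commutator lies in the core
  have hσ : R.σ ⟨v, hv⟩ A = R.π ⟨d.z, hd.z_mem_L⟩ * A := by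
    refine Subtype.ext ?_
    rw [hg, hA, R.pi_z hd]
    simp
  rw [← hyA, R.compat, ← map_mul, eq_comm, ← inv_mul_eq_one, ← map_inv, ← map_mul] at hσ
  have hO : (d.z * y)⁻¹ * (v * y * v⁻¹) ∈ d.O := (R.ker _).1 hσ
  set E := d.O ⊓ d.D with hE
  have hwE : (d.z * v) * (y * v * y⁻¹) ∈ E := by
    constructor
    · have e : (d.z * v) * (y * v * y⁻¹) = y * ((d.z * y)⁻¹ * (v * y * v⁻¹)) * y⁻¹ := by
        rw [mul_inv_rev, hvi, inv_eq_of_mul_eq_one_right hz]
        group
      rw [e]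
      exact Frame.Spec.O_conj (d.D_le hy) hO
    · show _ ∈ d.D
      have e : (d.z * v) * (y * v * y⁻¹) = d.z * (v * y * v⁻¹) * y⁻¹ := by
        rw [hvi]
        group
      rw [e]
      exact mul_mem (mul_mem (hd.z_mem_D hq) (d.D_conj hv hy)) (inv_mem hy)
  obtain ⟨b, hb, c, hc, hcz', hbc⟩ := CfsgLib.RankTwo.coset_conj E
    (d.O_odd.of_dvd_nat (Subgroup.card_dvd_of_le inf_le_left)) (invol_mul_self hzv)
    (fun e he => ⟨Frame.Spec.O_conj (mul_mem Frame.Spec.z_mem_C hv) he.1, d.D_conj (mul_mem Frame.Spec.z_mem_C hv) he.2⟩)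
    hwE
  have hw : d.z * v * ((d.z * v) * (y * v * y⁻¹)) = y * v * y⁻¹ := by
    rw [← mul_assoc, invol_mul_self hzv, one_mul]
  rw [hw] at hbc
  have hcc : c * c = 1 := by
    have h1 : (d.z * v * c) * (d.z * v * c) = 1 := by
      rw [← hbc, show b * (y * v * y⁻¹) * b⁻¹ * (b * (y * v * y⁻¹) * b⁻¹) = b * (y * (v * v) * y⁻¹) * b⁻¹ by group,
        hvv]
      group
    rwa [mul_assoc (d.z * v) c, ← mul_assoc c, hcz', mul_assoc (d.z * v) c c, ← mul_assoc (d.z * v) (d.z * v),
      invol_mul_self hzv, one_mul] at h1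
  have hc1 : c = 1 := by
    by_contra hne
    exact not_mem_of_odd (d.O_odd.of_dvd_nat (Subgroup.card_dvd_of_le inf_le_left))
      (orderOf_eq_prime (by rw [pow_two, hcc]) hne) hc
  rw [hc1, mul_one] at hbc
  refine ⟨b * y, mul_mem hb.2 hy, ?_⟩
  rw [← hbc]
  group

/-- An abelian subgroup normalised by the normaliser of an odd one. -/
theorem exists_abelian_below {A : Subgroup G} (hA : A ≠ ⊥) (hodd : Odd (Nat.card A)) :
    ∃ B : Subgroup G, B ≠ ⊥ ∧ B ≤ A ∧ (∀ a ∈ B, ∀ b ∈ B, a * b = b * a) ∧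
      Subgroup.normalizer (A : Set G) ≤ Subgroup.normalizer (B : Set G) := by
  classical
  haveI : Group.IsSolvable A := CfsgLib.OddOrder.feitThompson hodd
  obtain ⟨n, hn⟩ := (isSolvable_def A).1 inferInstance
  have hex : ∃ k, derivedSeries A k = ⊥ := ⟨n, hn⟩
  set k := Nat.find hex with hk
  have hk0 : k ≠ 0 := fun e => by
    have := Nat.find_spec hex
    rw [← hk, e, derivedSeries_zero] at this
    refine hA ((Subgroup.eq_bot_iff_forall _).2 fun x hx => ?_)
    have h1 := Subgroup.mem_top (⟨x, hx⟩ : A)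
    rw [this] at h1
    exact congrArg Subtype.val (Subgroup.mem_bot.1 h1)
  obtain ⟨j, hj⟩ := Nat.exists_eq_succ_of_ne_zero hk0
  refine ⟨(derivedSeries A j).map A.subtype, fun e => ?_, Subgroup.map_subtype_le _, ?_, fun x hx => ?_⟩
  · exact Nat.find_min hex (show j < Nat.find hex by omega)
      ((Subgroup.map_eq_bot_iff_of_injective _ A.subtype_injective).1 e)
  · rintro _ ⟨a, ha, rfl⟩ _ ⟨b, hb, rfl⟩
    have h1 : ⁅a, b⁆ ∈ derivedSeries A k := by
      rw [hj, derivedSeries_succ]; exact Subgroup.commutator_mem_commutator ha hb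
    rw [hk, Nat.find_spec hex, Subgroup.mem_bot, commutatorElement_eq_one_iff_mul_comm] at h1
    exact congrArg Subtype.val h1
  · refine Subgroup.mem_normalizer_fintype fun y hy => ?_
    obtain ⟨a, ha, rfl⟩ := hy
    haveI : (A.subgroupOf (Subgroup.normalizer (A : Set G))).Normal := Subgroup.normal_in_normalizer
    let e : A ≃* A :=
      { toFun := fun b => ⟨x * b * x⁻¹, (Subgroup.mem_normalizer_iff.1 hx _).1 b.2⟩
        invFun := fun b => ⟨x⁻¹ * b * x, (Subgroup.mem_normalizer_iff.1 hx _).2 (by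
          rw [show x * (x⁻¹ * (b : G) * x) * x⁻¹ = b by group]; exact b.2)⟩
        left_inv := fun b => Subtype.ext (by show x⁻¹ * (x * (b : G) * x⁻¹) * x = b; group)
        right_inv := fun b => Subtype.ext (by show x * (x⁻¹ * (b : G) * x) * x⁻¹ = b; group)
        map_mul' := fun b b' => Subtype.ext (by
          show x * ((b : G) * b') * x⁻¹ = x * b * x⁻¹ * (x * b' * x⁻¹)
          group) }
    exact ⟨e a, map_derivedSeries_le_derivedSeries e.toMonoidHom j (Subgroup.mem_map_of_mem _ ha), rfl⟩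

/-- **L1/L2.** -/
theorem Hyp.pair_trivial (h : Hyp G) (hd : d.Spec) (hq : 3 < d.q)
    (hOD : ∀ x ∈ d.O, ∀ y ∈ d.D, x * y = y * x) {A : Subgroup G} (hodd : Odd (Nat.card A))
    (hDA : d.D ≤ Subgroup.normalizer (A : Set G)) {g : G} (hne : g * d.z * g⁻¹ ≠ d.z)
    (hcm : g * d.z * g⁻¹ * d.z = d.z * (g * d.z * g⁻¹))
    (hgDA : ∀ x ∈ d.D, g * x * g⁻¹ ∈ Subgroup.normalizer (A : Set G)) : A = ⊥ := by
  classical
  by_contra hA0
  obtain ⟨B, hB, hBA, hBc, hNB⟩ := exists_abelian_below hA0 hodd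
  have hBodd : Odd (Nat.card B) := hodd.of_dvd_nat (Subgroup.card_dvd_of_le hBA)
  set H := Subgroup.normalizer (B : Set G) with hHdef
  have hH : H ≠ ⊤ := h.normalizer_ne_top hB hBodd
  have hDH : d.D ≤ H := hDA.trans hNB
  have hzH : d.z ∈ H := hDH (hd.z_mem_D hq)
  -- fusion in `H`
  obtain ⟨y, hy, hyv⟩ := h.swap_D hd hq (v := g⁻¹ * d.z * g) (by
      refine Subgroup.mem_centralizer_singleton_iff.2 ?_
      calc g⁻¹ * d.z * g * d.z = g⁻¹ * (d.z * (g * d.z * g⁻¹)) * g := by group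
        _ = g⁻¹ * (g * d.z * g⁻¹ * d.z) * g := by rw [hcm]
        _ = d.z * (g⁻¹ * d.z * g) := by group)
    (by simpa using (orderOf_cj g⁻¹ d.z).trans hd.zord) (fun e => hne (by
      calc g * d.z * g⁻¹ = g * (g⁻¹ * d.z * g) * g⁻¹ := by rw [e]
        _ = d.z := by group))
  set h₀ := g * y * g⁻¹ with hh₀
  have hh₀H : h₀ ∈ H := hNB (hgDA y hy)
  have hh₀z : h₀ * d.z * h₀⁻¹ = g * d.z * g⁻¹ * d.z := by
    calc h₀ * d.z * h₀⁻¹ = g * (y * (g⁻¹ * d.z * g) * y⁻¹) * g⁻¹ := by rw [hh₀]; group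
      _ = g * (d.z * (g⁻¹ * d.z * g)) * g⁻¹ := by rw [hyv]
      _ = g * d.z * g⁻¹ * d.z := by group
  have hzz : d.z * d.z = 1 := invol_mul_self hd.zord
  obtain ⟨X, hXH, hXn, hPX, hcore, -, hzX, hsimp, hqw, -, hheis, hcop⟩ :=
    h.recognise_cover hd hq hH (fun x hx => ⟨1, one_mem _, by rw [mul_one]; exact hDH hx⟩) hh₀H
      (by
        rw [hh₀z]
        intro e
        have h1 : g * d.z * g⁻¹ = 1 := mul_eq_right.1 e
        rw [conj_eq_one_iff] at h1
        have := hd.zord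
        rw [h1, orderOf_one] at this
        omega)
      (by
        rw [hh₀z, hcm, mul_assoc, hcm])
  haveI := hsimp
  set N := oddCore X with hN
  set NG := (oddCore X).map X.subtype with hNG
  have hNodd := CfsgLib.odd_card_oddCore (G := X)
  haveI := d.D_perfect
  have hDX : d.D ≤ X := hPX d.D hDH inferInstance
  have hq5 : 5 ≤ d.q := by
    obtain ⟨k, hk⟩ : Odd d.q := by
      have := hd.odd_card
      rwa [hd.card] at this
    omega
  have hqodd : Odd d.q := by
    have := hd.odd_card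
    rwa [hd.card] at this
  -- the small character
  haveI := Fintype.ofFinite G
  haveI := h.simple
  haveI := Fact.mk hd.prime
  haveI : Fintype ↥(Subgroup.centralizer ({d.z} : Set G)) := Fintype.ofFinite _
  obtain ⟨eQ⟩ := hd.sl
  obtain ⟨S⟩ : Nonempty (CfsgLib.RankTwo.SmallCharM d.z d.q) :=
    CfsgLib.RankTwo.exists_smallCharM h.noncomm d.S hd.qw hd.zord hd.zS hd.zc d.U hd.US hd.klein hd.Un hd.podd
      d.n hd.npos d.F hd.card ⟨_, inferInstance, ⟨eQ⟩⟩
  have hO' : NG ⊓ d.C ≤ d.O := by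
    refine hd.odd_le_O hq inf_le_right (CfsgLib.odd_card_oddCore.of_dvd_nat
      ((Subgroup.card_dvd_of_le inf_le_left).trans
        (dvd_of_eq (Subgroup.card_map_of_injective X.subtype_injective)))) fun x hx => ⟨1, one_mem _, ?_⟩
    rw [mul_one]
    refine Subgroup.mem_normalizer_fintype fun n hn => ⟨?_, ?_⟩
    · obtain ⟨m, hm, rfl⟩ := hn.1
      exact ⟨⟨x, hDX hx⟩ * m * ⟨x, hDX hx⟩⁻¹, (inferInstance : (oddCore X).Normal).conj_mem m hm _, rfl⟩
    · show _ ∈ d.C
      exact mul_mem (mul_mem (d.D_le hx) hn.2) (inv_mem (d.D_le hx))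
  have hznN : (⟨d.z, hzX⟩ : X) ∉ N := not_mem_of_odd hNodd ((Subgroup.orderOf_mk _ _).trans hd.zord)
  obtain ⟨hh, hcent, hinv⟩ := hheis
  have hcov := CfsgLib.RankTwo.core_of_smallChar S.toSmallChar hzz hzX N hNodd hznN
    (fun n hn hnz => hO' ⟨⟨n, hn, rfl⟩, Subgroup.mem_centralizer_singleton_iff.2 hnz⟩) hd.prime rfl hq5 hqodd hh
  have hNz : ∀ n ∈ N, (n : G) * d.z = d.z * n := fun n hn =>
    congrArg Subtype.val (CfsgLib.RankTwo.commute_of_cover N hNodd (z := ⟨d.z, hzX⟩) (Subtype.ext hzz) hcov hn)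
  have hNO : NG ≤ d.O := by
    rintro _ ⟨n, hn, rfl⟩
    exact hO' ⟨⟨n, hn, rfl⟩, Subgroup.mem_centralizer_singleton_iff.2 (hNz n hn)⟩
  have hBN : B ≤ NG := by
    rw [hcore]
    haveI : (B.subgroupOf H).Normal := Subgroup.normal_in_normalizer
    intro b hb
    exact ⟨⟨b, Subgroup.le_normalizer hb⟩,
      CfsgLib.le_oddCore (CfsgLib.BG.odd_subgroupOf hBodd) (Subgroup.mem_subgroupOf.2 hb), rfl⟩
  -- the cover
  set CN := Subgroup.centralizer (N : Set X) with hCN
  obtain ⟨n, hn⟩ := CfsgLib.GW.exists_perfect_derived CN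
  haveI := hn
  set K₀ : Subgroup X := (derivedSeries CN n).map CN.subtype with hK₀
  haveI : Group.IsPerfect K₀ := Group.IsPerfect.map CN.subtype
  set K := K₀.map X.subtype with hK
  haveI : Group.IsPerfect K := Group.IsPerfect.map X.subtype
  have hKX : K ≤ X := Subgroup.map_subtype_le _
  have hDK : d.D ≤ K := by
    intro x hx
    haveI : Group.IsPerfect (d.D.subgroupOf X) := Group.IsPerfect.ofSurjective
      (f := (Subgroup.subgroupOfEquivOfLe hDX).symm.toMonoidHom) (Subgroup.subgroupOfEquivOfLe hDX).symm.surjective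
    have hle : d.D.subgroupOf X ≤ CN := fun w hw => Subgroup.mem_centralizer_iff.2 fun m hm =>
      Subtype.ext (hOD _ (hNO ⟨m, hm, rfl⟩) _ hw)
    haveI : Group.IsPerfect ((d.D.subgroupOf X).subgroupOf CN) := Group.IsPerfect.ofSurjective
      (f := (Subgroup.subgroupOfEquivOfLe hle).symm.toMonoidHom) (Subgroup.subgroupOfEquivOfLe hle).symm.surjective
    exact ⟨⟨x, hDX hx⟩, ⟨⟨⟨x, hDX hx⟩, hle hx⟩,
      CfsgLib.GW.perfect_le_derived ((d.D.subgroupOf X).subgroupOf CN) n
        (show (⟨⟨x, hDX hx⟩, hle hx⟩ : CN) ∈ (d.D.subgroupOf X).subgroupOf CN from hx), rfl⟩, rfl⟩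
  let f : K →* X ⧸ N := (QuotientGroup.mk' N).comp (Subgroup.inclusion hKX)
  haveI hLp : Group.IsPerfect (X ⧸ N) := by
    refine Group.isPerfect_def.2 ?_
    refine (Subgroup.Normal.eq_bot_or_eq_top (Subgroup.commutator_normal _ _)).resolve_left fun e => ?_
    exact hqw.noncomm ⟨⟨fun a b => commutatorElement_eq_one_iff_mul_comm.1 (Subgroup.mem_bot.1
      (e ▸ Subgroup.commutator_mem_commutator (Subgroup.mem_top a) (Subgroup.mem_top b)))⟩⟩
  have hf : Function.Surjective f := by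
    have hsur : Function.Surjective ((QuotientGroup.mk' N).comp CN.subtype) := fun w => by
      obtain ⟨x, rfl⟩ := QuotientGroup.mk'_surjective N w
      obtain ⟨c, hc, m, hm, rfl⟩ := Subgroup.mem_sup_of_normal_right.1 (hcov.symm ▸ Subgroup.mem_top x : x ∈ CN ⊔ N)
      refine ⟨⟨c, hc⟩, ?_⟩
      show QuotientGroup.mk' N c = QuotientGroup.mk' N (c * m)
      rw [map_mul, show QuotientGroup.mk' N m = 1 from (QuotientGroup.eq_one_iff m).2 hm, mul_one]
    intro w
    have h2 := map_derivedSeries_eq hsur n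
    rw [CfsgLib.GW.derived_eq_top_of_perfect (Q := X ⧸ N)] at h2
    obtain ⟨c, hc, hcw⟩ := h2.ge (Subgroup.mem_top w)
    exact ⟨⟨((c : X) : G), ⟨(c : X), ⟨c, hc, rfl⟩, rfl⟩⟩, hcw⟩
  have hKN : ∀ k ∈ K, ∀ m ∈ N, k * (m : G) = (m : G) * k := by
    rintro _ ⟨_, ⟨c, -, rfl⟩, rfl⟩ m hm
    exact (congrArg Subtype.val (Subgroup.mem_centralizer_iff.1 c.2 m hm)).symm
  have hker : f.ker ≤ Subgroup.center K := fun k hk => Subgroup.mem_center_iff.2 fun w => Subtype.ext
    (hKN w w.2 (Subgroup.inclusion hKX k) ((QuotientGroup.eq_one_iff _).1 hk))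
  have hcenter : Subgroup.center K = f.ker := by
    refine le_antisymm (fun k hk => ?_) hker
    rcases (inferInstance : (Subgroup.center (X ⧸ N)).Normal).eq_bot_or_eq_top with e | e
    · refine MonoidHom.mem_ker.2 (Subgroup.mem_bot.1 (e ▸ Subgroup.mem_center_iff.2 fun w => ?_))
      obtain ⟨w, rfl⟩ := hf w
      rw [← map_mul, ← map_mul, Subgroup.mem_center_iff.1 hk w]
    · exact absurd ⟨⟨fun a b => (Subgroup.mem_center_iff.1 (e ▸ Subgroup.mem_top a :) b).symm⟩⟩ hqw.noncomm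
  have hKq : IsQuasisimple K := ⟨inferInstance,
    ((QuotientGroup.quotientMulEquivOfEq hcenter).trans
      (QuotientGroup.quotientKerEquivOfSurjective f hf)).isSimpleGroup⟩
  have hstem : IsStemExtension f := ⟨hf, hker, by rw [Group.IsPerfect.commutator_eq_top]; exact le_top⟩
  have hHK : HeisZ K ⟨d.z, hDK (hd.z_mem_D hq)⟩ d.q :=
    heisZ_lift f hf hker hd.prime rfl (show 1 < d.q by omega) (hcop K f hstem) ⟨hh, hcent, hinv⟩
  exact central_false S hd.zord hqodd hq5 d.D_le (hd.z_mem_D hq) hDK hKq hHK hB hBc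
    (fun a ha k hk => by
      obtain ⟨m, hm, rfl⟩ := hBN ha
      exact (hKN k hk m hm).symm)
    (hBN.trans hNO)

end CfsgLib.RankTwoModel
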