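import Cfsg.Agent.Lib.RankTwoModel.Rep
import Cfsg.Agent.Lib.RankTwoModel.Comps
import Cfsg.Agent.Lib.GW.Model.Shape
import Cfsg.Agent.Lib.WalterUse.DihAb
import Cfsg.Agent.S0516
import Cfsg.Agent.S3066

/-!
Proper subgroups covering the derived group of the centraliser of `z` and fusing `z` inside the four group: modulo
the core there is one component, simple with semidihedral or wreathed Sylow 2-subgroups, containing every perfect
subgroup.

Blueprint: `blueprint/RankTwo.md` (P7, recognition).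
-/

set_option autoImplicit false
set_option linter.unusedSectionVars false
set_option linter.style.haveILetI false

namespace CfsgLib.RankTwoModel

open Cfsg CfsgLib.BG CfsgLib.GW CfsgLib.DihedralFusion CfsgLib.BenderMax
open scoped commutatorElement

universe u

section Abstract

variable {K : Type u} [Group K] [Finite K]

/-- A perfect group acting on at most two points fixes them. -/
theorem perm_trivial {R : Type*} [Group R] [Group.IsPerfect R] {α : Type*} [Finite α] (hα : Nat.card α ≤ 2)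
    (f : R →* Equiv.Perm α) (r : R) : f r = 1 := by
  have hc : ∀ a b : Equiv.Perm α, a * b = b * a := by
    intro a b
    have h2 : Nat.card (Equiv.Perm α) ≤ 2 := by
      rw [Nat.card_perm]
      exact le_trans (Nat.factorial_le hα) (by decide)
    by_cases ha : a = 1
    · simp [ha]
    by_cases hb : b = 1
    · simp [hb]
    by_cases hab : a = b
    · rw [hab]
    exfalso
    haveI := Fintype.ofFinite (Equiv.Perm α)
    classical
    have : ({1, a, b} : Finset (Equiv.Perm α)).card ≤ Fintype.card (Equiv.Perm α) := Finset.card_le_univ _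
    rw [Finset.card_insert_of_notMem (by simp [Ne.symm ha, Ne.symm hb]), Finset.card_pair hab,
      ← Nat.card_eq_fintype_card] at this
    omega
  have hle : (⊤ : Subgroup R) ≤ f.ker := by
    rw [← (Group.IsPerfect.commutator_eq_top (G := R)), commutator_def, Subgroup.commutator_le]
    intro a _ b _
    rw [MonoidHom.mem_ker, map_commutatorElement, commutatorElement_eq_one_iff_mul_comm]
    exact hc _ _
  exact hle (Subgroup.mem_top r)

/-- A perfect group with an abelian image is killed. -/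
theorem hom_comm_trivial {R A : Type*} [Group R] [Group.IsPerfect R] [Group A] (f : R →* A)
    (hc : ∀ a b, f a * f b = f b * f a) (r : R) : f r = 1 := by
  have hle : (⊤ : Subgroup R) ≤ f.ker := by
    rw [← (Group.IsPerfect.commutator_eq_top (G := R)), commutator_def, Subgroup.commutator_le]
    intro a _ b _
    rw [MonoidHom.mem_ker, map_commutatorElement, commutatorElement_eq_one_iff_mul_comm]
    exact hc _ _
  exact hle (Subgroup.mem_top r)

/-- Commuting involutions in a group of 2-rank two lie in a four group. -/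
theorem rank_cases (h2 : PRankLE 2 2 K) {a b c : K} (ha : a * a = 1) (hb : b * b = 1) (hc : c * c = 1)
    (hab : a * b = b * a) (hac : a * c = c * a) (hbc : b * c = c * b) (ha1 : a ≠ 1) (hb1 : b ≠ 1) (hne : a ≠ b) :
    c = 1 ∨ c = a ∨ c = b ∨ c = a * b := by
  classical
  set E := Subgroup.closure ({a, b, c} : Set K) with hE
  have hmem : ∀ {x : K}, x ∈ ({a, b, c} : Set K) → x ∈ E := fun hx => Subgroup.subset_closure hx
  have hEc : IsMulCommutative E := Subgroup.isMulCommutative_closure fun x hx y hy => by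
    simp only [Set.mem_insert_iff, Set.mem_singleton_iff] at hx hy
    rcases hx with rfl | rfl | rfl <;> rcases hy with rfl | rfl | rfl <;>
      first | rfl | exact hab | exact hab.symm | exact hac | exact hac.symm | exact hbc | exact hbc.symm
  have hEe : ∀ x ∈ E, x ^ 2 = 1 := fun x hx => by
    refine Subgroup.closure_induction (p := fun y _ => y ^ 2 = 1) ?_ (one_pow _) ?_
      (fun y _ hy => by rw [inv_pow, hy, inv_one]) hx
    · intro y hy
      simp only [Set.mem_insert_iff, Set.mem_singleton_iff] at hy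
      rcases hy with rfl | rfl | rfl <;> rw [pow_two] <;> assumption
    · intro y w hy hw e1 e2
      have : y * w = w * y := congrArg Subtype.val (hEc.is_comm.comm ⟨y, hy⟩ ⟨w, hw⟩)
      rw [(show Commute y w from this).mul_pow, e1, e2, one_mul]
  have hcard := h2 E hEc hEe
  by_contra hno
  push Not at hno
  haveI := Fintype.ofFinite E
  have hsub : ({1, a, b, a * b, c} : Finset K) ⊆ (Finset.univ : Finset E).image Subtype.val := by
    intro x hx
    simp only [Finset.mem_insert, Finset.mem_singleton] at hx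
    refine Finset.mem_image.2 ⟨⟨x, ?_⟩, Finset.mem_univ _, rfl⟩
    rcases hx with rfl | rfl | rfl | rfl | rfl
    exacts [one_mem _, hmem (by simp), hmem (by simp), mul_mem (hmem (by simp)) (hmem (by simp)), hmem (by simp)]
  have h5 : ({1, a, b, a * b, c} : Finset K).card = 5 := by
    have hab1 : a * b ≠ 1 := fun e => hne (mul_right_cancel (e.trans hb.symm))
    rw [Finset.card_insert_of_notMem (by simp [Ne.symm ha1, Ne.symm hb1, Ne.symm hab1, Ne.symm hno.1]),
      Finset.card_insert_of_notMem (by simp [hne, Ne.symm hno.2.1, hb1]),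
      Finset.card_insert_of_notMem (by simp [Ne.symm hno.2.2.1, ha1]),
      Finset.card_insert_of_notMem (by simp [Ne.symm hno.2.2.2]), Finset.card_singleton]
  have := (Finset.card_le_card hsub).trans Finset.card_image_le
  rw [h5, Finset.card_univ, ← Nat.card_eq_fintype_card] at this
  omega

/-- An involution centralised by a 2-group in each even subgroup it normalises. -/
theorem exists_fixed {T V : Subgroup K} (hT : IsPGroup 2 T) (hn : T ≤ Subgroup.normalizer (V : Set K))
    (heven : ¬ Odd (Nat.card V)) : ∃ c ∈ V, orderOf c = 2 ∧ ∀ x ∈ T, x * c = c * x := by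
  haveI : Fact (Nat.Prime 2) := ⟨Nat.prime_two⟩
  set Y := Subgroup.normalizer (V : Set K) with hY
  have hVY : V ≤ Y := Subgroup.le_normalizer
  have hTY : IsPGroup 2 (T.subgroupOf Y) := hT.comap_of_injective _ Y.subtype_injective
  obtain ⟨P, hP⟩ := hTY.exists_le_sylow
  set V' : Subgroup Y := V.subgroupOf Y
  haveI hn' : V'.Normal := Subgroup.normal_in_normalizer
  have hM : V' ⊓ (P : Subgroup Y) ≠ ⊥ := by
    intro e
    rw [Nat.not_odd_iff_even, even_iff_two_dvd] at heven
    rw [← Nat.card_congr (Subgroup.subgroupOfEquivOfLe hVY).toEquiv] at heven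
    obtain ⟨c, hc⟩ := exists_prime_orderOf_dvd_card' (G := V') 2 heven
    rw [← Subgroup.orderOf_coe] at hc
    obtain ⟨g, hg⟩ := exists_conj_le (S := P) (T := Subgroup.zpowers (c : Y))
      (IsPGroup.of_card (n := 1) (by rw [Nat.card_zpowers, hc]; rfl))
    have hmem : g * (c : Y) * g⁻¹ ∈ V' ⊓ (P : Subgroup Y) :=
      ⟨hn'.conj_mem _ c.2 g, hg ⟨c, Subgroup.mem_zpowers _, rfl⟩⟩
    rw [e, Subgroup.mem_bot, conj_eq_one_iff] at hmem
    rw [hmem, orderOf_one] at hc
    omega
  obtain ⟨c, hcM, hc, hcc⟩ := CfsgLib.Comp.exists_central_in_normal (p := 2) P.2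
    (inf_le_right : V' ⊓ (P : Subgroup Y) ≤ P)
    (fun q hq => Subgroup.mem_normalizer_fintype fun x hx =>
      ⟨hn'.conj_mem x hx.1 q, (P : Subgroup Y).mul_mem ((P : Subgroup Y).mul_mem hq hx.2)
        ((P : Subgroup Y).inv_mem hq)⟩) hM
  rw [← Subgroup.orderOf_coe] at hc
  exact ⟨c, hcM.1, hc, fun x hx => congrArg Subtype.val (hcc ⟨x, hn hx⟩ (hP hx))⟩

/-- Perfect subgroups lie in a self-centralising normal subgroup with solvable outer automorphism group. -/
theorem perfect_le_of_out (L : Subgroup K) [L.Normal] (hC : Subgroup.centralizer (L : Set K) = ⊥)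
    (hout : Group.IsSolvable (Cfsg.Out L)) (P : Subgroup K) [Group.IsPerfect P] : P ≤ L := by
  set φ : K →* Cfsg.Out L := (QuotientGroup.mk' (Cfsg.Inn L)).comp (MulAut.conjNormal (H := L)) with hφ
  intro x hx
  obtain ⟨n, hn⟩ := (isSolvable_def _).1 hout
  have hx1 : φ x = 1 := by
    have h1 : φ x ∈ derivedSeries (Cfsg.Out L) n :=
      map_derivedSeries_le_derivedSeries φ n (Subgroup.mem_map_of_mem φ (CfsgLib.GW.perfect_le_derived P n hx))
    rwa [hn, Subgroup.mem_bot] at h1
  obtain ⟨l, hl⟩ := (QuotientGroup.eq_one_iff _).1 hx1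
  have hmem : (l : K)⁻¹ * x ∈ Subgroup.centralizer (L : Set K) := by
    refine Subgroup.mem_centralizer_iff.2 fun m hm => ?_
    have e : (l : K) * m * (l : K)⁻¹ = x * m * x⁻¹ :=
      congrArg Subtype.val (DFunLike.congr_fun hl (⟨m, hm⟩ : L))
    calc m * ((l : K)⁻¹ * x) = (l : K)⁻¹ * ((l : K) * m * (l : K)⁻¹) * x := by group
      _ = (l : K)⁻¹ * (x * m * x⁻¹) * x := by rw [e]
      _ = (l : K)⁻¹ * x * m := by group
  rw [hC, Subgroup.mem_bot, inv_mul_eq_one] at hmem
  rw [← hmem]
  exact l.2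

/-- The component of the quotient. -/
theorem exists_simple_layer (hO : oddCore K = ⊥) (h2 : PRankLE 2 2 K) (R : Subgroup K) [Group.IsPerfect R] {e v : K}
    (heR : e ∈ R) (he : orderOf e = 2) (hv : ∃ g, g * e * g⁻¹ = v) (hve : v ≠ e) (hev : e * v = v * e)
    (hRe : ∀ r ∈ R, r * e = e * r) {T : Subgroup K} (hT : IsPGroup 2 T) (hTR : T ≤ R)
    (hfix : ∀ c : K, c * c = 1 → (∀ x ∈ T, x * c = c * x) → c = 1 ∨ c = e) :
    ∃ L : Subgroup K, L.Normal ∧ IsSimpleGroup L ∧ ¬ IsMulCommutative L ∧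
      Subgroup.centralizer (L : Set K) = ⊥ ∧ e ∈ L := by
  classical
  haveI : Fact (Nat.Prime 2) := ⟨Nat.prime_two⟩
  obtain ⟨g, hg⟩ := hv
  have hv2 : orderOf v = 2 := by rw [← hg]; exact (MulEquiv.orderOf_eq (MulAut.conj g) e).trans he
  have hee : e * e = 1 := invol_mul_self he
  have hvv : v * v = 1 := invol_mul_self hv2
  have ne1 : ∀ {c : K}, orderOf c = 2 → c ≠ 1 := fun hc e1 => by rw [e1, orderOf_one] at hc; omega
  -- each even subgroup normalised by `T` contains `e`
  have hmem : ∀ V : Subgroup K, T ≤ Subgroup.normalizer (V : Set K) → ¬ Odd (Nat.card V) → e ∈ V := by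
    intro V hn heven
    obtain ⟨c, hcV, hc, hcT⟩ := exists_fixed hT hn heven
    rcases hfix c (invol_mul_self hc) hcT with e1 | e1
    · exact absurd e1 (ne1 hc)
    · exact e1 ▸ hcV
  have hmemn : ∀ (V : Subgroup K) [V.Normal], ¬ Odd (Nat.card V) → e ∈ V := fun V _ heven =>
    hmem V (le_top.trans (Subgroup.normalizer_eq_top_iff.2 inferInstance).ge) heven
  -- no normal two-subgroup
  have hO2 : pCore 2 K = ⊥ := by
    by_contra hne
    set V := pCore 2 K with hV
    have hVp : IsPGroup 2 V := CfsgLib.isPGroup_pCore 2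
    haveI : Nontrivial V := (Subgroup.nontrivial_iff_ne_bot V).2 hne
    set Z := (Subgroup.center V).map V.subtype with hZ
    haveI : Z.Normal := inferInstance
    have hZne : Z ≠ ⊥ := fun e1 => by
      have := hVp.center_nontrivial
      exact (Subgroup.nontrivial_iff_ne_bot _).1 this
        ((Subgroup.map_eq_bot_iff_of_injective _ V.subtype_injective).1 e1)
    have heZ : e ∈ Z := hmemn Z (two_group_even ((hVp.to_subgroup _).map _) hZne)
    have hvZ : v ∈ Z := hg ▸ (inferInstance : Z.Normal).conj_mem e heZ g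
    have hZc : ∀ a ∈ Z, ∀ b ∈ Z, a * b = b * a := by
      rintro _ ⟨a, ha, rfl⟩ _ ⟨b, -, rfl⟩
      exact congrArg Subtype.val (Subgroup.mem_center_iff.1 ha b).symm
    have hcase : ∀ r : R, (r : K) * v * (r : K)⁻¹ * v⁻¹ ∈ Subgroup.zpowers e := by
      intro r
      set w := (r : K) * v * (r : K)⁻¹
      have hwZ : w ∈ Z := (inferInstance : Z.Normal).conj_mem v hvZ r
      have hw2 : orderOf w = 2 := (MulEquiv.orderOf_eq (MulAut.conj (r : K)) v).trans hv2
      rcases rank_cases h2 hee hvv (invol_mul_self hw2) hev (hZc _ heZ _ hwZ) (hZc _ hvZ _ hwZ) (ne1 he) (ne1 hv2)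
        hve.symm with e1 | e1 | e1 | e1
      · exact absurd e1 (ne1 hw2)
      · exact absurd (mul_left_cancel (mul_right_cancel (e1.trans (mul_inv_eq_iff_eq_mul.2 (hRe r r.2)).symm))) hve
      · rw [e1, mul_inv_cancel]; exact one_mem _
      · rw [e1, mul_inv_cancel_right]; exact Subgroup.mem_zpowers e
    have hze : ∀ a ∈ Subgroup.zpowers e, ∀ r : R, (r : K) * a * (r : K)⁻¹ = a := by
      rintro _ ⟨i, rfl⟩ r
      exact mul_inv_eq_iff_eq_mul.2 ((show Commute (r : K) e from hRe r r.2).zpow_right i).eq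
    let f : R →* Subgroup.zpowers e := MonoidHom.mk' (fun r => ⟨_, hcase r⟩) fun a b => Subtype.ext (by
      show (a : K) * b * v * ((a : K) * b)⁻¹ * v⁻¹ =
        (a : K) * v * (a : K)⁻¹ * v⁻¹ * ((b : K) * v * (b : K)⁻¹ * v⁻¹)
      have hcm : ∀ x ∈ Subgroup.zpowers e, ∀ y ∈ Subgroup.zpowers e, x * y = y * x := by
        rintro _ ⟨i, rfl⟩ _ ⟨j, rfl⟩
        exact zpow_mul_comm e i j
      rw [← hcm _ (hcase b) _ (hcase a)]
      conv_rhs => rw [← hze _ (hcase b) a]
      group)
    have hvR : ∀ r ∈ R, r * v = v * r := fun r hr => by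
      have h1 := congrArg Subtype.val (hom_comm_trivial f (fun a b => Subtype.ext (by
        show ((f a : Subgroup.zpowers e) : K) * (f b : Subgroup.zpowers e) = (f b : Subgroup.zpowers e) * (f a : Subgroup.zpowers e)
        obtain ⟨i, hi⟩ := (f a).2
        obtain ⟨j, hj⟩ := (f b).2
        rw [← hi, ← hj]
        exact zpow_mul_comm e i j)) ⟨r, hr⟩)
      exact mul_inv_eq_iff_eq_mul.1 (mul_inv_eq_one.1 h1)
    rcases hfix v hvv fun x hx => hvR x (hTR hx) with e1 | e1
    exacts [ne1 hv2 e1, hve e1]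
  have hF : fittingSubgroup K = ⊥ := by
    rw [CfsgLib.fittingSubgroup_eq_iSup_pCore, iSup_eq_bot]
    intro p
    by_cases hp : (p : ℕ) = 2
    · rw [hp]; exact hO2
    · haveI := Fact.mk p.2
      refine le_bot_iff.1 (hO ▸ CfsgLib.le_oddCore ?_)
      obtain ⟨k, hk⟩ := (CfsgLib.isPGroup_pCore (G := K) (p : ℕ)).exists_card_eq
      rw [hk]
      exact (p.2.odd_of_ne_two hp).pow
  have hcomm : ∀ {A B : Subgroup K}, IsComponent A → IsComponent B → A ≠ B → ∀ x ∈ A, ∀ y ∈ B, x * y = y * x :=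
    fun hA hB hne x hx y hy =>
      CfsgLib.Comp.comm_of_commutator_eq_bot ((components_eq_or_commute hA hB).resolve_left hne) hx hy
  have hcen : ∀ A : Subgroup K, IsComponent A → Subgroup.center A = ⊥ := by
    intro A hA
    have hle : (Subgroup.center A).map A.subtype ≤ (Subgroup.center (layer K)).map (layer K).subtype := by
      rintro _ ⟨a, ha, rfl⟩
      refine ⟨⟨a, CfsgLib.le_layer hA a.2⟩, Subgroup.mem_center_iff.2 fun y => Subtype.ext ?_, rfl⟩
      have : layer K ≤ Subgroup.centralizer ({(a : K)} : Set K) := sSup_le fun B hB b hb => by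
        refine Subgroup.mem_centralizer_singleton_iff.2 ?_
        by_cases e1 : B = A
        · subst e1
          exact congrArg Subtype.val (Subgroup.mem_center_iff.1 ha ⟨b, hb⟩)
        · exact hcomm hB hA e1 b hb a a.2
      exact Subgroup.mem_centralizer_singleton_iff.1 (this y.2)
    have hnil : Group.IsNilpotent ((Subgroup.center (layer K)).map (layer K).subtype) := by
      letI : CommGroup ((Subgroup.center (layer K)).map (layer K).subtype) :=
        { (inferInstance : Group ((Subgroup.center (layer K)).map (layer K).subtype)) with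
          mul_comm := by
            rintro ⟨_, a, ha, rfl⟩ ⟨_, b, -, rfl⟩
            refine Subtype.ext ?_
            show (a : K) * b = b * a
            exact congrArg Subtype.val (Subgroup.mem_center_iff.1 ha b).symm }
      exact CommGroup.isNilpotent
    have h1 := hle.trans (CfsgLib.le_fittingSubgroup hnil)
    rw [hF, le_bot_iff] at h1
    exact (Subgroup.map_eq_bot_iff_of_injective _ A.subtype_injective).1 h1
  have hsimp : ∀ A : Subgroup K, IsComponent A → IsSimpleGroup A ∧ ¬ IsMulCommutative A := by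
    intro A hA
    haveI := hA.2.2
    haveI := hA.2.1
    have hs : IsSimpleGroup A := by
      haveI : Nontrivial A := (Subgroup.nontrivial_iff_ne_bot A).2 (isComponent_ne_bot hA)
      exact ((QuotientGroup.quotientBot (G := A)).symm.trans
        (QuotientGroup.quotientMulEquivOfEq (hcen A hA).symm)).isSimpleGroup
    refine ⟨hs, fun hc => isComponent_ne_bot hA ?_⟩
    have h1 : Subgroup.center A = ⊤ := eq_top_iff.2 fun x _ => Subgroup.mem_center_iff.2 fun y => hc.is_comm.comm y x
    rw [hcen A hA] at h1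
    haveI := Subgroup.subsingleton_iff.1 (subsingleton_of_bot_eq_top h1)
    exact Subgroup.eq_bot_of_subsingleton A
  have hevenC : ∀ A : Subgroup K, IsComponent A → ¬ Odd (Nat.card A) := fun A hA ho =>
    isQuasisimple_not_isSolvable hA.2 (CfsgLib.OddOrder.feitThompson ho)
  have hinv : ∀ A : Subgroup K, IsComponent A → ∃ a ∈ A, orderOf a = 2 := fun A hA => by
    obtain ⟨a, ha⟩ := exists_prime_orderOf_dvd_card' (G := A) 2
      (even_iff_two_dvd.1 (Nat.not_odd_iff_even.1 (hevenC A hA)))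
    rw [← Subgroup.orderOf_coe] at ha
    exact ⟨a, a.2, ha⟩
  have hmeet : ∀ {A B : Subgroup K}, IsComponent A → IsComponent B → A ≠ B → ∀ x ∈ A, x ∈ B → x = 1 := by
    intro A B hA hB hne x hxA hxB
    have : (⟨x, hxA⟩ : A) ∈ Subgroup.center A :=
      Subgroup.mem_center_iff.2 fun y => Subtype.ext (hcomm hA hB hne y y.2 x hxB)
    rw [hcen A hA, Subgroup.mem_bot] at this
    exact congrArg Subtype.val this
  -- at most two components
  have htwo : Nat.card {A : Subgroup K // IsComponent A} ≤ 2 := by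
    by_contra hlt
    haveI := Fintype.ofFinite {A : Subgroup K // IsComponent A}
    rw [Nat.card_eq_fintype_card, not_le, Fintype.two_lt_card_iff] at hlt
    obtain ⟨⟨A, hA⟩, ⟨B, hB⟩, ⟨C, hC⟩, hAB, hAC, hBC⟩ := hlt
    replace hAB : A ≠ B := fun e1 => hAB (Subtype.ext e1)
    replace hAC : A ≠ C := fun e1 => hAC (Subtype.ext e1)
    replace hBC : B ≠ C := fun e1 => hBC (Subtype.ext e1)
    obtain ⟨a, haA, ha⟩ := hinv A hA
    obtain ⟨b, hbB, hb⟩ := hinv B hB
    obtain ⟨c, hcC, hc⟩ := hinv C hC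
    have hne : a ≠ b := fun e1 => ne1 ha (hmeet hA hB hAB a haA (e1 ▸ hbB))
    rcases rank_cases h2 (invol_mul_self ha) (invol_mul_self hb) (invol_mul_self hc) (hcomm hA hB hAB a haA b hbB)
      (hcomm hA hC hAC a haA c hcC) (hcomm hB hC hBC b hbB c hcC) (ne1 ha) (ne1 hb) hne with e1 | e1 | e1 | e1
    · exact ne1 hc e1
    · exact ne1 hc (hmeet hA hC hAC c (e1 ▸ haA) hcC)
    · exact ne1 hc (hmeet hB hC hBC c (e1 ▸ hbB) hcC)
    · have hcen' : (⟨c, hcC⟩ : C) ∈ Subgroup.center C := Subgroup.mem_center_iff.2 fun y => Subtype.ext (by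
        show (y : K) * c = c * y
        rw [e1]
        exact ((show Commute (y : K) a from hcomm hC hA hAC.symm y y.2 a haA).mul_right
          (show Commute (y : K) b from hcomm hC hB hBC.symm y y.2 b hbB)).eq)
      rw [hcen C hC, Subgroup.mem_bot] at hcen'
      exact ne1 hc (congrArg Subtype.val hcen')
  let act : K →* Equiv.Perm {A : Subgroup K // IsComponent A} :=
    MonoidHom.mk' (fun r =>
      { toFun := fun A => ⟨A.1.map (MulAut.conj r).toMonoidHom, isComponent_map_equiv (MulAut.conj r) A.2⟩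
        invFun := fun A => ⟨A.1.map (MulAut.conj r⁻¹).toMonoidHom, isComponent_map_equiv (MulAut.conj r⁻¹) A.2⟩
        left_inv := fun A => Subtype.ext (by
          show (A.1.map _).map _ = A.1
          rw [Subgroup.map_map]
          ext x
          simp [mul_assoc])
        right_inv := fun A => Subtype.ext (by
          show (A.1.map _).map _ = A.1
          rw [Subgroup.map_map]
          ext x
          simp [mul_assoc]) })
      fun a b => Equiv.ext fun A => Subtype.ext (by
        show A.1.map (MulAut.conj (a * b)).toMonoidHom = (A.1.map (MulAut.conj b).toMonoidHom).map _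
        rw [Subgroup.map_map]
        congr 1
        ext x
        simp [mul_assoc])
  have hRfix : ∀ A : Subgroup K, IsComponent A → ∀ r ∈ R, ∀ x ∈ A, r * x * r⁻¹ ∈ A := by
    intro A hA r hr x hx
    have h1 := congrArg (fun f : Equiv.Perm {A : Subgroup K // IsComponent A} => (f ⟨A, hA⟩).1)
      (perm_trivial htwo (act.comp R.subtype) ⟨r, hr⟩)
    have h2' : A.map (MulAut.conj r).toMonoidHom = A := h1
    rw [← h2']
    exact ⟨x, hx, rfl⟩
  have heA : ∀ A : Subgroup K, IsComponent A → e ∈ A := fun A hA =>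
    hmem A (fun r hr => Subgroup.mem_normalizer_fintype (hRfix A hA r (hTR hr))) (hevenC A hA)
  obtain ⟨L, hL⟩ : ∃ L : Subgroup K, IsComponent L := by
    by_contra hno
    push Not at hno
    have hl : layer K = ⊥ := sSup_eq_bot.2 fun A hA => absurd hA (hno A)
    have h1 := centralizer_generalizedFitting_le (G := K)
    have hg0 : generalizedFittingSubgroup K = ⊥ := by
      rw [generalizedFittingSubgroup, hl, hF, bot_sup_eq]
    rw [hg0] at h1
    exact ne1 he (Subgroup.mem_bot.1 (h1 (Subgroup.mem_centralizer_iff.2 fun x hx => by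
      rw [Subgroup.mem_bot.1 hx, one_mul, mul_one])))
  have huniq : ∀ A : Subgroup K, IsComponent A → A = L := fun A hA => by
    by_contra hne
    exact ne1 he (hmeet hA hL hne e (heA A hA) (heA L hL))
  have hLn : L.Normal := ⟨fun x hx k => by
    rw [← huniq _ (isComponent_map_equiv (MulAut.conj k) hL)]
    exact ⟨x, hx, rfl⟩⟩
  refine ⟨L, hLn, (hsimp L hL).1, (hsimp L hL).2, ?_, heA L hL⟩
  haveI := hLn
  haveI : (Subgroup.centralizer (L : Set K)).Normal := Subgroup.normal_centralizer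
  by_contra hne
  by_cases ho : Odd (Nat.card (Subgroup.centralizer (L : Set K)))
  · exact hne (le_bot_iff.1 (hO ▸ CfsgLib.le_oddCore ho))
  · have hec := hmemn _ ho
    have : (⟨e, heA L hL⟩ : L) ∈ Subgroup.center L :=
      Subgroup.mem_center_iff.2 fun y => Subtype.ext (Subgroup.mem_centralizer_iff.1 hec y y.2)
    rw [hcen L hL, Subgroup.mem_bot] at this
    exact ne1 he (congrArg Subtype.val this)

/-- A two-generated Sylow 2-subgroup of a simple group: the outer automorphism group is solvable. -/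
theorem out_solvable {L : Type u} [Group L] [Finite L] [IsSimpleGroup L] (hna : ¬ IsMulCommutative L) (S : Sylow 2 L)
    (hgen : ∃ a b : ↥(S : Subgroup L), Subgroup.closure ({a, b} : Set ↥(S : Subgroup L)) = ⊤) :
    Group.IsSolvable (Cfsg.Out L) := by
  haveI : Fact (Nat.Prime 2) := ⟨Nat.prime_two⟩
  refine Cfsg.Agent.S3066.result hna S (fun e => ?_) (Or.inl hgen)
  have hd : 2 ∣ Nat.card L := by
    rw [← even_iff_two_dvd, ← Nat.not_odd_iff_even]
    intro ho
    haveI := CfsgLib.OddOrder.feitThompson (G := L) ho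
    exact hna ⟨⟨fun a b => IsSimpleGroup.comm_iff_isSolvable.mpr inferInstance a b⟩⟩
  exact S.ne_bot_of_dvd_card hd e

/-- A semidihedral or wreathed group is two-generated. -/
theorem qw_two_gen {S : Type*} [Group S] [Finite S] (h : IsQuasiDihedral S ∨ IsWreathed S) :
    ∃ a b : S, Subgroup.closure ({a, b} : Set S) = ⊤ := by
  rcases h with h | h
  · obtain ⟨-, -, -, d, -⟩ := CfsgLib.QD.exists_data h
    refine ⟨d.x, d.y, top_le_iff.1 fun g _ => ?_⟩
    have hle : d.X ≤ Subgroup.closure ({d.x, d.y} : Set S) :=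
      Subgroup.zpowers_le.2 (Subgroup.subset_closure (by simp))
    by_cases hg : g ∈ d.X
    · exact hle hg
    · have h1 : g * d.y ∈ d.X := by
        rw [Subgroup.mul_mem_iff_of_index_two (CfsgLib.QD.index_X d)]
        exact iff_of_false hg (CfsgLib.QD.y_not_mem d)
      simpa using mul_mem (hle h1) (inv_mem (Subgroup.subset_closure (by simp : d.y ∈ ({d.x, d.y} : Set S))))
  · obtain ⟨-, -, -, d, -⟩ := CfsgLib.Wr.exists_data h
    refine ⟨d.x, d.z, top_le_iff.1 fun g _ => ?_⟩
    set C := Subgroup.closure ({d.x, d.z} : Set S)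
    have hx : d.x ∈ C := Subgroup.subset_closure (by simp)
    have hz : d.z ∈ C := Subgroup.subset_closure (by simp)
    have hy : d.y ∈ C := d.hzx ▸ mul_mem (mul_mem hz hx) (inv_mem hz)
    have hu : ∀ i j : ℤ, d.u i j ∈ C := fun i j => mul_mem (zpow_mem hx i) (zpow_mem hy j)
    obtain ⟨i, j, rfl | rfl⟩ := CfsgLib.Wr.cases_elem d g
    · exact hu i j
    · rw [CfsgLib.Wr.v_eq]; exact mul_mem (hu i j) hz

/-- A dihedral group is two-generated. -/
theorem dihedral_two_gen {S : Type*} [Group S] {n : ℕ} (e : S ≃* DihedralGroup n) :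
    ∃ a b : S, Subgroup.closure ({a, b} : Set S) = ⊤ := by
  refine ⟨e.symm (DihedralGroup.r 1), e.symm (DihedralGroup.sr 0), top_le_iff.1 fun g _ => ?_⟩
  set C := Subgroup.closure ({e.symm (DihedralGroup.r 1), e.symm (DihedralGroup.sr 0)} : Set S)
  have hr : e.symm (DihedralGroup.r 1) ∈ C := Subgroup.subset_closure (by simp)
  have hs : e.symm (DihedralGroup.sr 0) ∈ C := Subgroup.subset_closure (by simp)
  have hR : ∀ i : ZMod n, e.symm (DihedralGroup.r i) ∈ C := fun i => by
    obtain ⟨k, rfl⟩ := ZMod.intCast_surjective i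
    rw [← DihedralGroup.r_one_zpow, map_zpow]
    exact zpow_mem hr k
  rw [← e.symm_apply_apply g]
  cases hg : e g with
  | r i => exact hR i
  | sr i =>
    rw [show DihedralGroup.sr i = DihedralGroup.sr 0 * DihedralGroup.r i by rw [DihedralGroup.sr_mul_r, zero_add],
      map_mul]
    exact mul_mem hs (hR i)

/-- No dihedral Sylow 2-subgroup above a perfect subgroup with a central involution. -/
theorem not_dihedral_of_perfect {S : Sylow 2 K} {n : ℕ} (e : (S : Subgroup K) ≃* DihedralGroup n) {R : Subgroup K}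
    [Group.IsPerfect R] {z : R} (hz : z ∈ Subgroup.center R) (hz2 : orderOf z = 2) : False := by
  haveI : Fact (Nat.Prime 2) := ⟨Nat.prime_two⟩
  have hK : CfsgLib.WalterUse.DihAb K := fun T => Or.inr ⟨n, ⟨(Sylow.equiv T S).trans e⟩⟩
  obtain ⟨T, hTR, hT2, hTna⟩ := exists_nonabelian_two (L := R) hz hz2
  have hT' : IsPGroup 2 (T.subgroupOf R) := hT2.comap_of_injective _ R.subtype_injective
  obtain ⟨P, hP⟩ := hT'.exists_le_sylow
  have hPna : ¬ IsMulCommutative (P : Subgroup R) := fun hc => hTna ⟨⟨fun a b => Subtype.ext (by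
    exact congrArg (fun t : (P : Subgroup R) => ((t : R) : K))
      (hc.is_comm.comm ⟨⟨a, hTR a.2⟩, hP a.2⟩ ⟨⟨b, hTR b.2⟩, hP b.2⟩))⟩⟩
  obtain ⟨k, ⟨ek⟩⟩ := (hK.subgroup R P).resolve_left hPna
  haveI : Finite (DihedralGroup k) := Finite.of_equiv _ ek.toEquiv
  have hk2 : 2 ≤ k := by
    rcases k with _ | _ | k
    · exact absurd (inferInstance : Finite (DihedralGroup 0)) (not_finite_iff_infinite.2 inferInstance)
    · refine absurd ⟨⟨fun a b => ek.injective ?_⟩⟩ hPna
      rw [map_mul, map_mul]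
      exact (by decide : ∀ a b : DihedralGroup 1, a * b = b * a) _ _
    · omega
  obtain ⟨hsimp, hperf⟩ := GWModel.simple_perfect (CfsgLib.GW.gwThm R ⟨P, k, hk2, ⟨ek⟩⟩)
  haveI := hsimp
  have hzq : (QuotientGroup.mk' (oddCore R) z) ∈ Subgroup.center (R ⧸ oddCore R) := Subgroup.mem_center_iff.2 fun y => by
    obtain ⟨y, rfl⟩ := QuotientGroup.mk'_surjective _ y
    rw [← map_mul, ← map_mul, Subgroup.mem_center_iff.1 hz y]
  rcases (inferInstance : (Subgroup.center (R ⧸ oddCore R)).Normal).eq_bot_or_eq_top with h1 | h1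
  · rw [h1, Subgroup.mem_bot] at hzq
    exact not_mem_of_odd CfsgLib.odd_card_oddCore hz2 ((QuotientGroup.eq_one_iff z).1 hzq)
  · haveI := hperf
    have htriv := hom_comm_trivial (MonoidHom.id (R ⧸ oddCore R)) fun a b =>
      (Subgroup.mem_center_iff.1 (h1 ▸ Subgroup.mem_top a : a ∈ Subgroup.center (R ⧸ oddCore R)) b).symm
    exact not_nontrivial_iff_subsingleton.2 ⟨fun a b => (htriv a).trans (htriv b).symm⟩ hsimp.toNontrivial

end Abstract

variable {G : Type u} [Group G] [Finite G]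

/-- No embedded Sylow 2-subgroup of `U₃(4)`. -/
theorem Hyp.no_sixty (h : Hyp G) {F : Type} [Field F] [Fintype F] (hF : Fintype.card F = 16)
    (P : Sylow 2 (Cfsg.PSU 3 F 4)) (f : (P : Subgroup (Cfsg.PSU 3 F 4)) →* G) (hf : Function.Injective f) :
    False := by
  revert f hf
  set W := (P : Subgroup (Cfsg.PSU 3 F 4)) with hWdef
  intro f hf
  have h6 := CfsgLib.SuzukiTwo.sixty hF P
  obtain ⟨a, ha, ha1⟩ := (Subgroup.center W).bot_or_exists_ne_one.resolve_left fun e0 => by
    have := h6.card_center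
    rw [e0, Subgroup.card_bot] at this
    omega
  obtain ⟨b, hb, hba, hb1⟩ : ∃ b ∈ Subgroup.center W, b ≠ a ∧ b ≠ 1 := by
    by_contra hc
    push Not at hc
    have hle := Set.ncard_le_ncard (s := (Subgroup.center W : Set W)) (t := {1, a}) (fun x hx => by
      by_cases hxa : x = a
      · exact Or.inr hxa
      · exact Or.inl (hc x hx hxa))
    rw [← Nat.card_coe_set_eq, show Nat.card (Subgroup.center W : Set W) = Nat.card (Subgroup.center W) from rfl,
      h6.card_center, Set.ncard_pair (Ne.symm ha1)] at hle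
    omega
  have hna : ¬ IsMulCommutative f.range := fun hc => by
    have e0 : Subgroup.center W = ⊤ := eq_top_iff.2 fun x _ => Subgroup.mem_center_iff.2 fun y =>
      hf (by rw [map_mul, map_mul]; exact congrArg Subtype.val (hc.is_comm.comm ⟨f y, y, rfl⟩ ⟨f x, x, rfl⟩))
    have := h6.card_center
    rw [e0, Subgroup.card_top, h6.card] at this
    omega
  have ord : ∀ x ∈ Subgroup.center W, x ≠ 1 → orderOf (f x) = 2 := fun x hx hx1 => by
    rw [orderOf_injective f hf]
    exact orderOf_eq_prime (by rw [sq]; exact h6.cen x hx) hx1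
  have com : ∀ x ∈ Subgroup.center W, ∀ y ∈ f.range, f x * y = y * f x := by
    rintro x hx _ ⟨y, rfl⟩
    rw [← map_mul, ← map_mul, Subgroup.mem_center_iff.1 hx y]
  refine hba (hf (h.eq_of_fixes (T := f.range) ?_ hna (ord b hb hb1) (ord a ha ha1)
    (com b hb _ ⟨a, rfl⟩) (com b hb) (com a ha)))
  exact P.2.of_surjective f.rangeRestrict f.rangeRestrict_surjective

variable {d : Frame G}

/-- A perfect subgroup of `H ∩ D` covering `D` modulo `O`. -/
theorem Frame.Spec.exists_cover (hd : d.Spec) (hq : 3 < d.q) {H : Subgroup G}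
    (hcov : ∀ x ∈ d.D, ∃ o ∈ d.O, x * o ∈ H) :
    ∃ R : Subgroup G, R ≤ H ∧ R ≤ d.D ∧ Group.IsPerfect R ∧ (∀ x ∈ d.D, ∃ o ∈ d.O, x * o ∈ R) ∧ d.z ∈ R := by
  set C := Subgroup.centralizer ({d.z} : Set G) with hC
  set K : Subgroup C := H.subgroupOf C with hK
  set q := QuotientGroup.mk' (oddCore C)
  set D' : Subgroup C := d.D.subgroupOf C with hD'
  haveI := d.D_perfect
  haveI : Group.IsPerfect D' := Group.IsPerfect.ofSurjective
    (f := (Subgroup.subgroupOfEquivOfLe (d.D_le : d.D ≤ C)).symm.toMonoidHom)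
    (Subgroup.subgroupOfEquivOfLe (d.D_le : d.D ≤ C)).symm.surjective
  have hle : ∀ n, D'.map q ≤ ((derivedSeries K n).map K.subtype).map q := by
    intro n
    induction n with
    | zero =>
      rintro _ ⟨x, hx, rfl⟩
      obtain ⟨o, ⟨o', ho', rfl⟩, hxo⟩ := hcov x hx
      refine ⟨x * o', ⟨⟨x * o', hxo⟩, by simp, rfl⟩, ?_⟩
      rw [map_mul, show q o' = 1 from (QuotientGroup.eq_one_iff _).2 ho', mul_one]
    | succ n ih =>
      rw [derivedSeries_succ, Subgroup.map_commutator, Subgroup.map_commutator]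
      refine le_trans (le_of_eq ?_) (Subgroup.commutator_mono ih ih)
      rw [← Subgroup.map_commutator, Subgroup.commutator_eq_self]
  obtain ⟨n, hn⟩ := CfsgLib.GW.exists_perfect_derived K
  set R := ((derivedSeries K n).map K.subtype).map C.subtype with hR
  haveI := hn
  haveI : Group.IsPerfect R := by
    haveI : Group.IsPerfect ((derivedSeries K n).map K.subtype) := Group.IsPerfect.map K.subtype
    exact Group.IsPerfect.map C.subtype
  have hRH : R ≤ H := by
    rintro _ ⟨_, ⟨x, -, rfl⟩, rfl⟩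
    exact x.2
  have hRD : R ≤ d.D := d.le_D (Subgroup.map_subtype_le _)
  have hcov' : ∀ x ∈ d.D, ∃ o ∈ d.O, x * o ∈ R := by
    intro x hx
    obtain ⟨y, hy, hyx⟩ := hle n ⟨⟨x, d.D_le hx⟩, hx, rfl⟩
    refine ⟨x⁻¹ * (y : G), ⟨(⟨x, d.D_le hx⟩ : C)⁻¹ * y, ?_, rfl⟩, ?_⟩
    · exact QuotientGroup.eq.1 hyx.symm
    · rw [mul_inv_cancel_left]
      exact ⟨y, hy, rfl⟩
  refine ⟨R, hRH, hRD, inferInstance, hcov', ?_⟩
  obtain ⟨o, ho, hzo⟩ := hcov' d.z (hd.z_mem_D hq)
  have hoz : Commute d.z o := (Subgroup.mem_centralizer_singleton_iff.1 (d.O_le ho)).symm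
  obtain ⟨k, hk⟩ := d.O_odd.of_dvd_nat (Subgroup.orderOf_dvd_natCard _ ho)
  have hzz : d.z * d.z = 1 := invol_mul_self hd.zord
  have e : (d.z * o) ^ orderOf o = d.z := by
    rw [hoz.mul_pow, pow_orderOf_eq_one, mul_one, hk, pow_succ, pow_mul, pow_two, hzz, one_pow, one_mul]
  rw [← e]
  exact pow_mem hzo _

/-- **The layer of a subgroup containing a perfect subgroup through `z` centralising it.** -/
theorem Hyp.exists_layer_perfect (h : Hyp G) (hd : d.Spec) {H : Subgroup G} (hH : H ≠ ⊤)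
    {R : Subgroup G} (hRH : R ≤ H) (hRp : Group.IsPerfect R) (hzR : d.z ∈ R) (hRz : ∀ r ∈ R, r * d.z = d.z * r)
    {g : G} (hg : g ∈ H) (hne : g * d.z * g⁻¹ ≠ d.z)
    (hcm : g * d.z * g⁻¹ * d.z = d.z * (g * d.z * g⁻¹)) :
    ∃ X : Subgroup G, X ≤ H ∧ (∀ x ∈ H, ∀ y ∈ X, x * y * x⁻¹ ∈ X) ∧
      (∀ P ≤ H, Group.IsPerfect P → P ≤ X) ∧ (oddCore X).map X.subtype = (oddCore H).map H.subtype ∧
      d.z ∈ X ∧ g * d.z * g⁻¹ ∈ X ∧ IsSimpleGroup (X ⧸ oddCore X) ∧ QW (X ⧸ oddCore X) ∧ Model (X ⧸ oddCore X) := by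
  classical
  haveI : Fact (Nat.Prime 2) := ⟨Nat.prime_two⟩
  haveI := hRp
  obtain ⟨T₀, hT₀R, hT₀, hT₀na⟩ := exists_nonabelian_two (L := R) (w := ⟨d.z, hzR⟩)
    (Subgroup.mem_center_iff.2 fun r => Subtype.ext (hRz r r.2)) ((Subgroup.orderOf_mk _ hzR).trans hd.zord)
  set T := T₀ ⊔ Subgroup.zpowers d.z with hTdef
  have hT : IsPGroup 2 T := by
    refine hT₀.to_sup_of_normal_right' (IsPGroup.of_card (n := 1) (by rw [Nat.card_zpowers, hd.zord]; rfl))
      fun x hx => Subgroup.mem_normalizer_fintype fun y hy => ?_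
    obtain ⟨i, rfl⟩ := hy
    rw [((show Commute x d.z from hRz x (hT₀R hx)).zpow_right i).eq, mul_inv_cancel_right]
    exact ⟨i, rfl⟩
  have hTR : T ≤ R := sup_le hT₀R (Subgroup.zpowers_le.2 hzR)
  have hzT : d.z ∈ T := Subgroup.mem_sup_right (Subgroup.mem_zpowers _)
  have hTna : ¬ IsMulCommutative T := fun hc => hT₀na ⟨⟨fun a b => Subtype.ext (congrArg Subtype.val
    (hc.is_comm.comm ⟨a, Subgroup.mem_sup_left a.2⟩ ⟨b, Subgroup.mem_sup_left b.2⟩) :)⟩⟩
  set π := QuotientGroup.mk' (oddCore H) with hπ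
  have hodd := CfsgLib.odd_card_oddCore (G := H)
  set u := g * d.z * g⁻¹ with hudef
  have huz : u ≠ d.z := hne
  have huH : u ∈ H := mul_mem (mul_mem hg (hRH hzR)) (inv_mem hg)
  have hgz : g * d.z * g⁻¹ = u := rfl
  set e : H ⧸ oddCore H := π ⟨d.z, hRH hzR⟩ with hedef
  set v : H ⧸ oddCore H := π ⟨u, huH⟩ with hvdef
  set T' : Subgroup (H ⧸ oddCore H) := (T.subgroupOf H).map π with hT'def
  set R' : Subgroup (H ⧸ oddCore H) := (R.subgroupOf H).map π with hR'def
  haveI : Group.IsPerfect (R.subgroupOf H) := Group.IsPerfect.ofSurjective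
    (f := (Subgroup.subgroupOfEquivOfLe hRH).symm.toMonoidHom) (Subgroup.subgroupOfEquivOfLe hRH).symm.surjective
  haveI hR'p : Group.IsPerfect R' := Group.IsPerfect.map π
  have he : orderOf e = 2 := by
    refine orderOf_eq_prime ?_ fun e1 => ?_
    · rw [hedef, pow_two, ← map_mul, show (⟨d.z, hRH hzR⟩ : H) * ⟨d.z, hRH hzR⟩ = 1 from
        Subtype.ext (invol_mul_self hd.zord), map_one]
    · exact not_mem_of_odd hodd ((Subgroup.orderOf_mk _ _).trans hd.zord) ((QuotientGroup.eq_one_iff _).1 e1)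
  have hUc : u * d.z = d.z * u := hcm
  have hu2 : orderOf u = 2 := hgz ▸ (orderOf_cj g d.z).trans hd.zord
  have hve : v ≠ e := fun e1 => by
    refine not_mem_of_odd hodd (t := (⟨u, huH⟩ : H)⁻¹ * ⟨d.z, hRH hzR⟩) ?_
      (QuotientGroup.eq.1 (show (((⟨u, huH⟩ : H)) : H ⧸ oddCore H) = ((⟨d.z, hRH hzR⟩ : H) : H ⧸ oddCore H) from e1))
    rw [← Subgroup.orderOf_coe]
    show orderOf (u⁻¹ * d.z) = 2
    rw [inv_eq_of_mul_eq_one_right (invol_mul_self hu2)]
    exact orderOf_mul_invol hu2 hd.zord hUc huz.symm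
  have hRe : ∀ r ∈ R', r * e = e * r := by
    rintro _ ⟨r, hr, rfl⟩
    rw [hedef, ← map_mul, ← map_mul]
    exact congrArg π (Subtype.ext (hRz r hr))
  have hfix : ∀ c : H ⧸ oddCore H, c * c = 1 → (∀ x ∈ T', x * c = c * x) → c = 1 ∨ c = e := by
    intro c hc hcT
    set Pb := T' ⊔ Subgroup.zpowers c with hPb
    have hPb2 : IsPGroup 2 Pb := by
      refine ((hT.comap_of_injective H.subtype H.subtype_injective).map π).to_sup_of_normal_right' ?_
        fun x hx => Subgroup.mem_normalizer_fintype fun y hy => ?_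
      · exact fun ⟨y, hy⟩ => ⟨1, Subtype.ext (by
          obtain ⟨i, rfl⟩ := hy
          show (c ^ i) ^ (2 ^ 1) = 1
          rw [← zpow_natCast, ← zpow_mul, mul_comm, zpow_mul, pow_one, zpow_natCast, pow_two, hc, one_zpow])⟩
      · obtain ⟨i, rfl⟩ := hy
        rw [((show Commute x c from hcT x hx).zpow_right i).eq, mul_inv_cancel_right]
        exact ⟨i, rfl⟩
    set Y := Pb.comap π
    have hTY : T.subgroupOf H ≤ Y := fun x hx => Subgroup.mem_sup_left (Subgroup.mem_map_of_mem π hx)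
    obtain ⟨P, hP⟩ := ((hT.comap_of_injective H.subtype H.subtype_injective).comap_of_injective Y.subtype
      Y.subtype_injective).exists_le_sylow
    let φ : Y →* Pb := π.subgroupComap Pb
    have hφ : Function.Surjective φ :=
      MonoidHom.subgroupComap_surjective_of_surjective π Pb (QuotientGroup.mk'_surjective _)
    have hPtop : (P.mapSurjective hφ : Subgroup Pb) = ⊤ :=
      (P.mapSurjective hφ).is_maximal' (hPb2.of_equiv Subgroup.topEquiv.symm) le_top ▸ rfl
    obtain ⟨c', hc'P, hc'⟩ : (⟨c, Subgroup.mem_sup_right (Subgroup.mem_zpowers c)⟩ : Pb) ∈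
        (P : Subgroup Y).map φ := by
      rw [show (P : Subgroup Y).map φ = (P.mapSurjective hφ : Subgroup Pb) from rfl, hPtop]
      exact Subgroup.mem_top _
    have hc'' : π (c' : H) = c := congrArg Subtype.val hc'
    have kill : ∀ y ∈ (P : Subgroup Y), π (y : H) = 1 → y = 1 := by
      intro y hy hy1
      obtain ⟨k, hk⟩ := P.2 ⟨y, hy⟩
      have h1 : orderOf (y : H) ∣ 2 ^ k :=
        orderOf_dvd_of_pow_eq_one (congrArg (fun t : (P : Subgroup Y) => ((t : Y) : H)) hk)
      have h2 := Subgroup.orderOf_dvd_natCard _ ((QuotientGroup.eq_one_iff _).1 hy1)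
      exact Subtype.ext (orderOf_eq_one_iff.1
        (Nat.eq_one_of_dvd_coprimes (Nat.Coprime.pow_left k (Nat.coprime_two_left.2 hodd)) h1 h2))
    have hc'2 : c' * c' = 1 := kill _ (mul_mem hc'P hc'P) (by
      rw [show ((c' * c' : Y) : H) = (c' : H) * c' from rfl, map_mul, hc'', hc])
    have hc'T : ∀ x ∈ T, x * ((c' : H) : G) = ((c' : H) : G) * x := by
      intro x hx
      have hxH : x ∈ H := hRH (hTR hx)
      set x' : Y := ⟨⟨x, hxH⟩, hTY hx⟩
      have h1 : x' * c' * x'⁻¹ * c'⁻¹ = 1 := kill _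
        (mul_mem (mul_mem (mul_mem (hP hx) hc'P) (inv_mem (hP hx))) (inv_mem hc'P)) (by
          rw [show ((x' * c' * x'⁻¹ * c'⁻¹ : Y) : H) = ⟨x, hxH⟩ * (c' : H) * ⟨x, hxH⟩⁻¹ * (c' : H)⁻¹ from rfl,
            map_mul, map_mul, map_mul, map_inv, map_inv, hc'',
            hcT _ (Subgroup.mem_map_of_mem π (show (⟨x, hxH⟩ : H) ∈ T.subgroupOf H from hx)), mul_inv_cancel_right,
            mul_inv_cancel])
      have h2 := congrArg (fun t : Y => ((t : H) : G)) h1
      exact mul_inv_eq_iff_eq_mul.1 (mul_inv_eq_one.1 h2)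
    by_cases hc1 : c' = 1
    · left
      rw [← hc'', hc1, Subgroup.coe_one, map_one]
    right
    have hord : orderOf ((c' : H) : G) = 2 :=
      orderOf_eq_prime (by rw [pow_two]; exact congrArg (fun t : Y => ((t : H) : G)) hc'2)
        fun e1 => hc1 (Subtype.ext (Subtype.ext e1))
    have := h.eq_of_fixes hT hTna hord hd.zord (hc'T d.z hzT).symm (fun x hx => (hc'T x hx).symm)
      fun x hx => (hRz x (hTR hx)).symm
    rw [← hc'', hedef]
    exact congrArg π (Subtype.ext this)
  have h2 : PRankLE 2 2 (H ⧸ oddCore H) :=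
    CfsgLib.MinSimpleOdd.pRankLE_quotient _ (fun hd' => Nat.not_even_iff_odd.2 hodd (even_iff_two_dvd.2 hd'))
      (CfsgLib.RankTwoTower.pRankLE_of_injective H.subtype H.subtype_injective h.rank_two)
  have hO : oddCore (H ⧸ oddCore H) = ⊥ := CfsgLib.pPrimeCore_quotient_eq_bot 2
  obtain ⟨L, hLn, hLs, hLna, hLC, heL⟩ := exists_simple_layer hO h2 R'
    ⟨⟨d.z, hRH hzR⟩, hzR, rfl⟩ he ⟨π ⟨g, hg⟩, by
      show π ⟨g, hg⟩ * π ⟨d.z, hRH hzR⟩ * (π ⟨g, hg⟩)⁻¹ = π ⟨u, huH⟩
      rw [← map_inv, ← map_mul, ← map_mul]; exact congrArg π (Subtype.ext hgz)⟩ hve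
    (by show π ⟨d.z, hRH hzR⟩ * π ⟨u, huH⟩ = π ⟨u, huH⟩ * π ⟨d.z, hRH hzR⟩; rw [← map_mul, ← map_mul]; exact congrArg π (Subtype.ext hUc.symm)) hRe
    ((hT.comap_of_injective H.subtype H.subtype_injective).map π)
    (Subgroup.map_mono fun x hx => hTR hx) hfix
  haveI := hLn
  haveI := hLs
  haveI hnt : Nontrivial L := hLs.toNontrivial
  -- the Sylow 2-subgroup of the component
  obtain ⟨S⟩ : Nonempty (Sylow 2 L) := inferInstance
  letI : Fintype (GaloisField 2 4) := Fintype.ofFinite _
  have h16 : Fintype.card (GaloisField 2 4) = 16 := by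
    rw [← Nat.card_eq_fintype_card, GaloisField.card 2 4 (by norm_num)]; norm_num
  obtain ⟨P⟩ : Nonempty (Sylow 2 (Cfsg.PSU 3 (GaloisField 2 4) 4)) := inferInstance
  have hperfect : (∃ a b : (S : Subgroup L), Subgroup.closure ({a, b} : Set (S : Subgroup L)) = ⊤) →
      ∀ Q ≤ H, Group.IsPerfect Q → (Q.subgroupOf H).map π ≤ L := fun hgen Q hQ hQp => by
    haveI := hQp
    haveI : Group.IsPerfect (Q.subgroupOf H) := Group.IsPerfect.ofSurjective
      (f := (Subgroup.subgroupOfEquivOfLe hQ).symm.toMonoidHom) (Subgroup.subgroupOfEquivOfLe hQ).symm.surjective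
    haveI : Group.IsPerfect ((Q.subgroupOf H).map π) := Group.IsPerfect.map π
    exact perfect_le_of_out L hLC (out_solvable hLna S hgen) _
  rcases Cfsg.Agent.S0516.result hLna (CfsgLib.RankTwoTower.pRankLE_of_injective L.subtype L.subtype_injective h2)
    S h16 P with ⟨n, hn, ⟨eD⟩⟩ | hS | hS | ⟨⟨eP⟩⟩
  · exfalso
    have hRL : R' ≤ L := hperfect (dihedral_two_gen eD) R hRH hRp
    haveI : Group.IsPerfect (R'.subgroupOf L) := Group.IsPerfect.ofSurjective
      (f := (Subgroup.subgroupOfEquivOfLe hRL).symm.toMonoidHom) (Subgroup.subgroupOfEquivOfLe hRL).symm.surjective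
    refine not_dihedral_of_perfect eD (R := R'.subgroupOf L)
      (z := ⟨⟨e, heL⟩, show e ∈ R' from ⟨⟨d.z, hRH hzR⟩, Subgroup.mem_subgroupOf.2 hzR, rfl⟩⟩) ?_ ?_
    · exact Subgroup.mem_center_iff.2 fun r => Subtype.ext (Subtype.ext (hRe _ r.2))
    · rw [← Subgroup.orderOf_coe, ← Subgroup.orderOf_coe]; exact he
  case inr.inr.inr =>
    exfalso
    obtain ⟨T₁, hT₁⟩ := (S.2.map L.subtype).exists_le_sylow
    obtain ⟨T₂⟩ : Nonempty (Sylow 2 H) := inferInstance
    obtain ⟨eT⟩ := CfsgLib.GWConseq.sylow_quotient_odd _ hodd T₂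
    let ι : (P : Subgroup (Cfsg.PSU 3 (GaloisField 2 4) 4)) →* G :=
      H.subtype.comp ((T₂ : Subgroup H).subtype.comp (eT.symm.toMonoidHom.comp
        ((Sylow.equiv T₁ (T₂.mapSurjective (QuotientGroup.mk'_surjective (oddCore H)))).toMonoidHom.comp
          ((Subgroup.inclusion hT₁).comp (((S : Subgroup L).equivMapOfInjective L.subtype L.subtype_injective).toMonoidHom.comp
            eP.symm.toMonoidHom)))))
    refine h.no_sixty h16 P ι ?_
    exact H.subtype_injective.comp ((T₂ : Subgroup H).subtype_injective.comp (eT.symm.injective.comp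
      ((Sylow.equiv T₁ _).injective.comp ((Subgroup.inclusion_injective hT₁).comp
        ((((S : Subgroup L).equivMapOfInjective L.subtype L.subtype_injective).injective).comp eP.symm.injective)))))
  all_goals
    have hShape : IsQuasiDihedral (S : Subgroup L) ∨ IsWreathed (S : Subgroup L) := by
      first | exact Or.inl hS | exact Or.inr hS
    set X := (L.comap π).map H.subtype with hX
    have hXH : X ≤ H := Subgroup.map_subtype_le _
    have hmemX : ∀ x : H, (x : G) ∈ X ↔ π x ∈ L := fun x => by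
      rw [hX, show (x : G) = H.subtype x from rfl, Subgroup.mem_map_iff_mem H.subtype_injective]
      rfl
    let f : X →* L := (π.comp (Subgroup.inclusion hXH)).codRestrict L fun x => (hmemX _).1 x.2
    have hf : Function.Surjective f := fun y => by
      obtain ⟨x, hx⟩ := QuotientGroup.mk'_surjective (oddCore H) (y : H ⧸ oddCore H)
      exact ⟨⟨x, (hmemX x).2 (by rw [hπ, hx]; exact y.2)⟩, Subtype.ext hx⟩
    have hker : oddCore X = f.ker := by
      refine le_antisymm (fun x hx => ?_) (CfsgLib.le_oddCore ?_)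
      · have hno : Odd (Nat.card ((oddCore X).map f)) :=
          (CfsgLib.odd_card_oddCore (G := X)).of_dvd_nat (Subgroup.card_map_dvd _ _)
        haveI : ((oddCore X).map f).Normal := Subgroup.Normal.map inferInstance f hf
        rcases (inferInstance : ((oddCore X).map f).Normal).eq_bot_or_eq_top with e1 | e1
        · exact MonoidHom.mem_ker.2 (Subgroup.mem_bot.1 (e1 ▸ Subgroup.mem_map_of_mem f hx))
        · rw [e1, Subgroup.card_top] at hno
          haveI := CfsgLib.OddOrder.feitThompson (G := L) hno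
          exact absurd ⟨⟨fun a b => IsSimpleGroup.comm_iff_isSolvable.mpr inferInstance a b⟩⟩ hLna
      · refine hodd.of_dvd_nat (Subgroup.card_dvd_of_injective
          (((Subgroup.inclusion hXH).comp f.ker.subtype).codRestrict (oddCore H) fun x =>
            (QuotientGroup.eq_one_iff _).1 (congrArg Subtype.val (MonoidHom.mem_ker.1 x.2))) ?_)
        intro a b hab
        exact Subtype.ext (Subgroup.inclusion_injective hXH (congrArg Subtype.val hab))
    let eX : X ⧸ oddCore X ≃* L :=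
      (QuotientGroup.quotientMulEquivOfEq hker).trans (QuotientGroup.quotientKerEquivOfSurjective f hf)
    haveI : Nontrivial (X ⧸ oddCore X) := eX.toEquiv.nontrivial
    have hqw : QW (X ⧸ oddCore X) := by
      refine ⟨S.mapSurjective (f := eX.symm.toMonoidHom) eX.symm.surjective, ?_⟩
      exact CfsgLib.QDWNoTwo.shape_equiv
        ((S : Subgroup L).equivMapOfInjective eX.symm.toMonoidHom eX.symm.injective) hShape
    have hsX : IsSimpleGroup (X ⧸ oddCore X) := eX.isSimpleGroup
    have hgen := qw_two_gen hShape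
    have hPX : ∀ Q ≤ H, Group.IsPerfect Q → Q ≤ X := fun Q hQ hQp x hx =>
      (hmemX ⟨x, hQ hx⟩).2 (hperfect hgen Q hQ hQp (Subgroup.mem_map_of_mem π (show (⟨x, hQ hx⟩ : H) ∈ Q.subgroupOf H from hx)))
    have hXn : ∀ x ∈ H, ∀ y ∈ X, x * y * x⁻¹ ∈ X := fun x hx y hy => by
      refine (hmemX (⟨x, hx⟩ * ⟨y, hXH hy⟩ * ⟨x, hx⟩⁻¹)).2 ?_
      rw [map_mul, map_mul, map_inv]
      exact hLn.conj_mem _ ((hmemX ⟨y, hXH hy⟩).1 hy) _
    have hzX : d.z ∈ X := hPX R hRH hRp hzR
    refine ⟨X, hXH, hXn, hPX, ?_, hzX, hgz ▸ hXn g hg _ hzX, hsX, hqw, h.ih _ hsX ?_ hqw⟩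
    · refine le_antisymm ?_ ?_
      · rintro _ ⟨x, hx, rfl⟩
        refine ⟨Subgroup.inclusion hXH x, ?_, rfl⟩
        rw [hker] at hx
        exact (QuotientGroup.eq_one_iff _).1 (congrArg Subtype.val (MonoidHom.mem_ker.1 hx))
      · rintro _ ⟨x, hx, rfl⟩
        have hx1 : π x = 1 := (QuotientGroup.eq_one_iff _).2 hx
        have hxX : (x : G) ∈ X := (hmemX x).2 (by rw [hx1]; exact one_mem L)
        refine ⟨⟨x, hxX⟩, ?_, rfl⟩
        show (⟨(x : G), hxX⟩ : X) ∈ oddCore X
        rw [hker]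
        exact MonoidHom.mem_ker.2 (Subtype.ext hx1)
    · calc Nat.card (X ⧸ oddCore X) ≤ Nat.card X :=
            Nat.le_of_dvd Nat.card_pos (Subgroup.card_quotient_dvd_card _)
        _ ≤ Nat.card H := Subgroup.card_le_of_le hXH
        _ < Nat.card G := card_lt_of_ne_top hH

/-- **The layer of a covering subgroup.** -/
theorem Hyp.exists_layer (h : Hyp G) (hd : d.Spec) (hq : 3 < d.q) {H : Subgroup G} (hH : H ≠ ⊤)
    (hcov : ∀ x ∈ d.D, ∃ o ∈ d.O, x * o ∈ H) {g : G} (hg : g ∈ H) (hne : g * d.z * g⁻¹ ≠ d.z)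
    (hcm : g * d.z * g⁻¹ * d.z = d.z * (g * d.z * g⁻¹)) :
    ∃ X : Subgroup G, X ≤ H ∧ (∀ x ∈ H, ∀ y ∈ X, x * y * x⁻¹ ∈ X) ∧
      (∀ P ≤ H, Group.IsPerfect P → P ≤ X) ∧ (oddCore X).map X.subtype = (oddCore H).map H.subtype ∧
      d.z ∈ X ∧ g * d.z * g⁻¹ ∈ X ∧ IsSimpleGroup (X ⧸ oddCore X) ∧ QW (X ⧸ oddCore X) ∧ Model (X ⧸ oddCore X) := by
  obtain ⟨R, hRH, hRD, hRp, -, hzR⟩ := hd.exists_cover hq hcov
  exact h.exists_layer_perfect hd hH hRH hRp hzR
    (fun r hr => Subgroup.mem_centralizer_singleton_iff.1 (d.D_le (hRD hr))) hg hne hcm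

end CfsgLib.RankTwoModel
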