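import Cfsg.Agent.Lib.RankTwo.RecogLayer
import Cfsg.Agent.Lib.RankTwo.HeisModel

/-!
Recognition of a proper subgroup covering the derived group of the centraliser of `z` and fusing `z` to another
involution commuting with it: modulo the core a single component `L₃(q)` or `U₃(q)` for the same `q`, with a
Heisenberg subgroup at `z`.

Blueprint: `blueprint/RankTwo.md` (P7, recognition).
-/

set_option autoImplicit false
set_option linter.unusedSectionVars false
set_option linter.style.haveILetI false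

namespace CfsgLib.RankTwoModel

open Cfsg CfsgLib.BG CfsgLib.GW CfsgLib.DihedralFusion CfsgLib.BenderMax Matrix
open scoped commutatorElement

universe u v w

/-- A homomorphism with kernel of odd elements has an image at least as big as a special linear one. -/
theorem range_dvd {A : Type*} [Group A] [Finite A] {B : Type*} [Group B] {B' : Type*} [Group B'] {K : Type*}
    [Field K] [Fintype K] (hK : Odd (Fintype.card K)) (f : A →* B) (g : A →* B')
    (ι : SpecialLinearGroup (Fin 2) K →* B') (hι : Function.Injective ι) (hg : g.range = ι.range)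
    (hf : ∀ a, f a = 1 → Odd (orderOf a)) :
    Fintype.card K * (Fintype.card K ^ 2 - 1) ∣ Nat.card f.range := by
  set M : Subgroup (SpecialLinearGroup (Fin 2) K) := (f.ker.map g).comap ι
  have hn : M.Normal := ⟨fun s hs t => by
    obtain ⟨a, ha, has⟩ := hs
    obtain ⟨b, hb⟩ := hg.ge ⟨t, rfl⟩
    refine ⟨b * a * b⁻¹, (inferInstance : f.ker.Normal).conj_mem a ha b, ?_⟩
    rw [map_mul, map_mul, map_inv, has, hb, map_mul, map_mul, map_inv]⟩
  have hb : M = ⊥ := @CfsgLib.GU2Cent.sl2_odd_normal K _ _ hK M hn fun s hs => by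
    obtain ⟨a, ha, has⟩ := hs
    rw [← orderOf_injective ι hι, ← has]
    exact (hf a ha).of_dvd_nat (orderOf_map_dvd g a)
  have hle : f.ker ≤ g.ker := fun a ha => by
    obtain ⟨s, hs⟩ := hg.le ⟨a, rfl⟩
    have : s ∈ M := ⟨a, ha, hs.symm⟩
    rw [hb, Subgroup.mem_bot] at this
    rw [MonoidHom.mem_ker, ← hs, this, map_one]
  have h1 := Subgroup.index_dvd_of_le hle
  rw [Subgroup.index_ker, Subgroup.index_ker, hg] at h1
  refine dvd_trans (dvd_of_eq ?_) h1
  rw [← Nat.card_congr (MonoidHom.ofInjective hι).toEquiv, CfsgLib.SLCard.card_SL_two]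

/-- A perfect group maps into a subgroup containing the commutators of the image. -/
theorem range_le_of_comm {A B : Type*} [Group A] [Group.IsPerfect A] [Group B] (f : A →* B) (S : Subgroup B)
    (h : ∀ a b : A, f a * f b * (f a)⁻¹ * (f b)⁻¹ ∈ S) : f.range ≤ S := by
  rw [MonoidHom.range_eq_map, Subgroup.map_le_iff_le_comap,
    ← (Group.IsPerfect.commutator_eq_top (G := A)), commutator_def, Subgroup.commutator_le]
  intro a _ b _
  show f ⁅a, b⁆ ∈ S
  rw [map_commutatorElement, commutatorElement_def]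
  exact h a b

theorem cube_lt {a b : ℕ} (ha : 2 ≤ a) (hab : a < b) : a * (a ^ 2 - 1) < b * (b ^ 2 - 1) :=
  Nat.mul_lt_mul_of_lt_of_le hab (Nat.sub_le_sub_right (Nat.pow_le_pow_left hab.le 2) 1)
    (Nat.sub_pos_of_lt (lt_of_lt_of_le (by norm_num) (Nat.pow_le_pow_left (ha.trans hab.le) 2)))

variable {G : Type u} [Group G] [Finite G] {d : Frame G}

/-- **Recognition**, with the multiplier prime to `q`. -/
theorem Hyp.recognise_cover (h : Hyp G) (hd : d.Spec) (hq : 3 < d.q) {H : Subgroup G} (hH : H ≠ ⊤)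
    (hcov : ∀ x ∈ d.D, ∃ o ∈ d.O, x * o ∈ H) {g : G} (hg : g ∈ H) (hne : g * d.z * g⁻¹ ≠ d.z)
    (hcm : g * d.z * g⁻¹ * d.z = d.z * (g * d.z * g⁻¹)) :
    ∃ X : Subgroup G, X ≤ H ∧ (∀ x ∈ H, ∀ y ∈ X, x * y * x⁻¹ ∈ X) ∧ (∀ P ≤ H, Group.IsPerfect P → P ≤ X) ∧
      (oddCore X).map X.subtype = (oddCore H).map H.subtype ∧ g * d.z * g⁻¹ ∈ X ∧
      ∃ hz : d.z ∈ X, IsSimpleGroup (X ⧸ oddCore X) ∧ QW (X ⧸ oddCore X) ∧ Model (X ⧸ oddCore X) ∧
        HeisZ (X ⧸ oddCore X) (QuotientGroup.mk' (oddCore X) ⟨d.z, hz⟩) d.q ∧ StemCoprime (X ⧸ oddCore X) d.q := by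
  classical
  obtain ⟨X, hXH, hXn, hPX, hcore, hzX, huX, hsimp, hqw, hmod⟩ := h.exists_layer hd hq hH hcov hg hne hcm
  refine ⟨X, hXH, hXn, hPX, hcore, huX, hzX, hsimp, hqw, hmod, ?_⟩
  haveI := hsimp
  set π := QuotientGroup.mk' (oddCore X) with hπ
  set t := π ⟨d.z, hzX⟩ with htdef
  have hzz : d.z * d.z = 1 := invol_mul_self hd.zord
  have ht : orderOf t = 2 := by
    refine orderOf_eq_prime ?_ fun e => ?_
    · rw [htdef, pow_two, ← map_mul, show (⟨d.z, hzX⟩ : X) * ⟨d.z, hzX⟩ = 1 from Subtype.ext hzz, map_one]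
    · exact not_mem_of_odd CfsgLib.odd_card_oddCore ((Subgroup.orderOf_mk _ _).trans hd.zord)
        ((QuotientGroup.eq_one_iff _).1 e)
  set C := Subgroup.centralizer ({d.z} : Set G) with hC
  set ρ := QuotientGroup.mk' (oddCore C) with hρ
  obtain ⟨eQ⟩ := hd.sl
  let ιQ : SpecialLinearGroup (Fin 2) d.F →* C ⧸ oddCore C :=
    (commutator (C ⧸ oddCore C)).subtype.comp eQ.symm.toMonoidHom
  have hιQ : Function.Injective ιQ := (commutator _).subtype_injective.comp eQ.symm.injective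
  have hιr : ιQ.range = commutator (C ⧸ oddCore C) := by
    rw [MonoidHom.range_comp, MonoidHom.range_eq_top_of_surjective _ eQ.symm.surjective, ← MonoidHom.range_eq_map,
      Subgroup.range_subtype]
  have hsl : Nat.card (commutator (C ⧸ oddCore C)) = d.q * (d.q ^ 2 - 1) := by
    rw [Nat.card_congr eQ.toEquiv, CfsgLib.SLCard.card_SL_two, hd.card]; rfl
  -- the perfect cover
  obtain ⟨R, hRH, hRD, hRp, hRcov, -⟩ := hd.exists_cover hq hcov
  haveI := hRp
  have hRX : R ≤ X := hPX R hRH hRp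
  have hRC : R ≤ C := hRD.trans d.D_le
  let f₁ : R →* X ⧸ oddCore X := π.comp (Subgroup.inclusion hRX)
  let f₂ : R →* C ⧸ oddCore C := ρ.comp (Subgroup.inclusion hRC)
  have hf₁C : f₁.range ≤ Subgroup.centralizer ({t} : Set (X ⧸ oddCore X)) := by
    rintro _ ⟨r, rfl⟩
    refine Subgroup.mem_centralizer_singleton_iff.2 ?_
    show π _ * π _ = π _ * π _
    rw [← map_mul, ← map_mul]
    exact congrArg π (Subtype.ext (Subgroup.mem_centralizer_singleton_iff.1 (hRC r.2)))
  have hf₂ : f₂.range = ιQ.range := by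
    rw [hιr]
    refine le_antisymm (range_le_of_comm f₂ _ fun a b => ?_) fun y hy => ?_
    · rw [← commutatorElement_def, commutator_def]
      exact Subgroup.commutator_mem_commutator (Subgroup.mem_top _) (Subgroup.mem_top _)
    · replace hy := (hd.D_cover hq).ge hy
      obtain ⟨⟨x, hxC⟩, hx, rfl⟩ := hy
      obtain ⟨o, ⟨o', ho', rfl⟩, hxo⟩ := hRcov x ⟨⟨x, hxC⟩, hx, rfl⟩
      refine ⟨⟨_, hxo⟩, ?_⟩
      show ρ ((⟨x, hxC⟩ : ↥C) * o') = ρ ⟨x, hxC⟩
      rw [map_mul, show ρ o' = 1 from (QuotientGroup.eq_one_iff _).2 ho', mul_one]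
  have hdown : d.q * (d.q ^ 2 - 1) ∣ Nat.card f₁.range := by
    have := range_dvd (B := X ⧸ oddCore X) hd.odd_card f₁ f₂ ιQ hιQ hf₂ fun r hr => by
      rw [← orderOf_injective (Subgroup.inclusion hRX) (Subgroup.inclusion_injective hRX)]
      exact CfsgLib.odd_card_oddCore.of_dvd_nat
        (Subgroup.orderOf_dvd_natCard _ ((QuotientGroup.eq_one_iff _).1 hr))
    rwa [hd.card] at this
  have hq3 : 5 ≤ d.q := by
    obtain ⟨k, hk⟩ : Odd d.q := by
      have := hd.odd_card
      rwa [hd.card] at this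
    omega
  rcases Model.exists_block hsimp hqw hmod ht with hM | ⟨K, _, _, hK, j, hj, hjC, hjcomm, hH', hcop⟩
  · exfalso
    letI := Fintype.ofFinite (X ⧸ oddCore X)
    have h48 := CfsgSimpleM11.cent_involution hM ht
    have h1 := Nat.le_of_dvd Nat.card_pos hdown
    have h2 := Subgroup.card_le_of_le hf₁C
    rw [h48] at h2
    have h3 : 5 * (5 ^ 2 - 1) ≤ d.q * (d.q ^ 2 - 1) :=
      Nat.mul_le_mul hq3 (Nat.sub_le_sub_right (Nat.pow_le_pow_left hq3 2) 1)
    omega
  have hcardK : Nat.card j.range = Fintype.card K * (Fintype.card K ^ 2 - 1) := by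
    rw [← Nat.card_congr (MonoidHom.ofInjective hj).toEquiv, CfsgLib.SLCard.card_SL_two]
  have hf₁j : f₁.range ≤ j.range := range_le_of_comm f₁ _ fun a b =>
    hjcomm _ (hf₁C ⟨a, rfl⟩) _ (hf₁C ⟨b, rfl⟩)
  have h1 : d.q * (d.q ^ 2 - 1) ≤ Fintype.card K * (Fintype.card K ^ 2 - 1) := by
    rw [← hcardK]
    exact Nat.le_of_dvd Nat.card_pos (hdown.trans (Subgroup.card_dvd_of_le hf₁j))
  have hKq : d.q ≤ Fintype.card K := by
    by_contra hlt
    exact absurd h1 (not_le.2 (cube_lt Fintype.one_lt_card (not_le.1 hlt)))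
  -- the lift of the block
  haveI : Group.IsPerfect (SpecialLinearGroup (Fin 2) K) := ⟨CfsgLib.StSL.perfect_SL2 (by omega)⟩
  haveI : Group.IsPerfect j.range :=
    Group.IsPerfect.ofSurjective (f := j.rangeRestrict) j.rangeRestrict_surjective
  set W : Subgroup X := j.range.comap π ⊓ C.subgroupOf X with hW
  have hWsurj : W.map π = j.range := by
    refine le_antisymm (Subgroup.map_le_iff_le_comap.2 inf_le_left) fun y hy => ?_
    obtain ⟨x, rfl⟩ := QuotientGroup.mk'_surjective (oddCore X) y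
    have hc : π x * t = t * π x := Subgroup.mem_centralizer_singleton_iff.1 (hjC hy)
    obtain ⟨b, hb, hbx⟩ := lift_comm (G := X) (CfsgLib.odd_card_oddCore (G := X)) (i := ⟨d.z, hzX⟩) (x := x)
      (Subtype.ext hzz) (fun o ho => (inferInstance : (oddCore X).Normal).conj_mem o ho _)
      ((QuotientGroup.eq_one_iff _).1 (by
        show π (x * ⟨d.z, hzX⟩ * x⁻¹ * (⟨d.z, hzX⟩ : X)⁻¹) = 1
        rw [map_mul, map_mul, map_mul, map_inv, map_inv, ← htdef, hc]
        group))
    have he : π (b * x) = π x := by rw [map_mul, show π b = 1 from (QuotientGroup.eq_one_iff _).2 hb, one_mul]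
    refine ⟨b * x, ⟨?_, ?_⟩, he⟩
    · show π (b * x) ∈ j.range
      rw [he]; exact hy
    · exact Subgroup.mem_centralizer_singleton_iff.2 (congrArg Subtype.val hbx)
  obtain ⟨n, hn⟩ := CfsgLib.GW.exists_perfect_derived W
  set P : Subgroup X := (derivedSeries W n).map W.subtype with hPdef
  haveI := hn
  haveI : Group.IsPerfect P := Group.IsPerfect.map W.subtype
  have hPmap : P.map π = j.range := by
    let fW : W →* j.range := (π.comp W.subtype).codRestrict j.range fun x => x.2.1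
    have hfW : Function.Surjective fW := fun y => by
      obtain ⟨x, hx, hxy⟩ := hWsurj.ge y.2
      exact ⟨⟨x, hx⟩, Subtype.ext hxy⟩
    have h2 := map_derivedSeries_eq hfW n
    rw [CfsgLib.GW.derived_eq_top_of_perfect (Q := j.range)] at h2
    ext y
    constructor
    · rintro ⟨_, ⟨x, -, rfl⟩, rfl⟩
      exact x.2.1
    · intro hy
      obtain ⟨x, hx, hxy⟩ := h2.ge (Subgroup.mem_top (⟨y, hy⟩ : j.range))
      exact ⟨x, ⟨x, hx, rfl⟩, congrArg Subtype.val hxy⟩
  have hPC : ∀ p ∈ P, ((p : X) : G) ∈ C := by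
    rintro _ ⟨x, -, rfl⟩
    exact x.2.2
  let g₁ : P →* X ⧸ oddCore X := π.comp P.subtype
  let g₂ : P →* C ⧸ oddCore C := ρ.comp ((X.subtype.comp P.subtype).codRestrict C fun p => hPC p p.2)
  have hg₁ : g₁.range = j.range := by rw [MonoidHom.range_comp, Subgroup.range_subtype, hPmap]
  have hg₂ : g₂.range ≤ commutator (C ⧸ oddCore C) := range_le_of_comm g₂ _ fun a b => by
    rw [← commutatorElement_def, commutator_def]
    exact Subgroup.commutator_mem_commutator (Subgroup.mem_top _) (Subgroup.mem_top _)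
  have h2 : Fintype.card K * (Fintype.card K ^ 2 - 1) ≤ d.q * (d.q ^ 2 - 1) := by
    rw [← hsl]
    refine Nat.le_of_dvd Nat.card_pos
      ((range_dvd hK g₂ g₁ j hj hg₁ fun p hp => ?_).trans (Subgroup.card_dvd_of_le hg₂))
    have hinj : Function.Injective ((X.subtype.comp P.subtype).codRestrict C fun p => hPC p p.2) := fun a b e => by
      exact Subtype.ext (Subtype.ext (congrArg Subtype.val e :))
    rw [← orderOf_injective _ hinj]
    exact CfsgLib.odd_card_oddCore.of_dvd_nat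
      (Subgroup.orderOf_dvd_natCard _ ((QuotientGroup.eq_one_iff _).1 hp))
  have hKeq : Fintype.card K = d.q := by
    refine le_antisymm ?_ hKq
    by_contra hlt
    exact absurd h2 (not_le.2 (cube_lt (by omega) (not_le.1 hlt)))
  rw [← hKeq]
  exact ⟨hH', hcop⟩

/-- **Recognition.** -/
theorem Hyp.recognise (h : Hyp G) (hd : d.Spec) (hq : 3 < d.q) {H : Subgroup G} (hH : H ≠ ⊤)
    (hcov : ∀ x ∈ d.D, ∃ o ∈ d.O, x * o ∈ H) {g : G} (hg : g ∈ H) (hne : g * d.z * g⁻¹ ≠ d.z)
    (hcm : g * d.z * g⁻¹ * d.z = d.z * (g * d.z * g⁻¹)) :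
    ∃ X : Subgroup G, X ≤ H ∧ (∀ x ∈ H, ∀ y ∈ X, x * y * x⁻¹ ∈ X) ∧ (∀ P ≤ H, Group.IsPerfect P → P ≤ X) ∧
      (oddCore X).map X.subtype = (oddCore H).map H.subtype ∧ g * d.z * g⁻¹ ∈ X ∧
      ∃ hz : d.z ∈ X, IsSimpleGroup (X ⧸ oddCore X) ∧ QW (X ⧸ oddCore X) ∧ Model (X ⧸ oddCore X) ∧
        HeisZ (X ⧸ oddCore X) (QuotientGroup.mk' (oddCore X) ⟨d.z, hz⟩) d.q := by
  obtain ⟨X, h1, h2, h3, h4, h5, hz, h6, h7, h8, h9, -⟩ := h.recognise_cover hd hq hH hcov hg hne hcm
  exact ⟨X, h1, h2, h3, h4, h5, hz, h6, h7, h8, h9⟩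

end CfsgLib.RankTwoModel
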