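import Cfsg.Agent.Lib.RankTwo.SmallChar

/-!
# The small character, with what it tells about its value classes

As `SmallChar`: moreover `|v| ≤ q + 2`, the value at `z y` ignores a commuting factor from the odd core, and the
elements `y` of odd order with value `v` at `z y` lie in a normal subgroup with abelian 2-subgroups (the kernel of
the action on the `q + 1` points).
-/

set_option autoImplicit false
set_option linter.unusedSectionVars false
set_option linter.style.haveILetI false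

namespace CfsgLib.RankTwo

open Cfsg CfsgLib.CharTheory CfsgLib.Blocks CfsgLib.Blocks.AbelianFree CfsgLib.BrauerOrder

universe u w

/-- The small character with its value classes. -/
structure SmallCharM {G : Type u} [Group G] (z : G) (q : ℕ) extends SmallChar z q where
  vle : |v| ≤ (q : ℤ) + 2
  zconst : ∀ y o : ↥(Subgroup.centralizer ({z} : Set G)), o ∈ oddCore ↥(Subgroup.centralizer ({z} : Set G)) →
    y * o = o * y → ¬ 2 ∣ orderOf y → χ (z * ((y * o : ↥(Subgroup.centralizer ({z} : Set G))) : G)) = χ (z * (y : G))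
  moved : ∃ N : Subgroup ↥(Subgroup.centralizer ({z} : Set G)), N.Normal ∧
    (∀ P : Subgroup ↥(Subgroup.centralizer ({z} : Set G)), P ≤ N → IsPGroup 2 P → ∀ a ∈ P, ∀ b ∈ P, a * b = b * a) ∧
    ∀ y : ↥(Subgroup.centralizer ({z} : Set G)), ¬ 2 ∣ orderOf y → χ (z * (y : G)) = (v : ℂ) → y ∈ N

/-- 2-subgroups of the kernel of the action are abelian. -/
theorem kern_comm {C : Type u} [Group C] [Finite C] {d : Core C} {Ω : Type w} [MulAction C Ω] (hd : d.Spec Ω)
    (P : Subgroup C) (hP : P ≤ (MulAction.toPermHom C Ω).ker) (hP2 : IsPGroup 2 P) :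
    ∀ a ∈ P, ∀ b ∈ P, a * b = b * a := by
  haveI := hd.onorm
  haveI : Finite Ω := Nat.finite_of_card_ne_zero (by rw [hd.card]; omega)
  have hcen : ∀ a ∈ P, ∀ b : C, b * a * b⁻¹ * a⁻¹ ∈ d.O := by
    intro a ha
    obtain ⟨k, hk⟩ := hP2 ⟨a, ha⟩
    have hk' : a ^ 2 ^ k = 1 := congrArg Subtype.val hk
    obtain ⟨j, -, hj⟩ := (Nat.dvd_prime_pow Nat.prime_two).1 (orderOf_dvd_of_pow_eq_one hk')
    obtain ⟨t, hat, ht⟩ := hd.exh a ⟨j, hj⟩
    obtain ⟨g, hg⟩ := isConj_iff.1 hat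
    have htker : t ∈ (MulAction.toPermHom C Ω).ker := hg ▸ (inferInstance : (MulAction.toPermHom C Ω).ker.Normal).conj_mem a (hP ha) g
    have htZ : t ∈ d.Z := by
      have hfix : Nat.card (MulAction.fixedBy Ω t) = d.q + 1 := by
        rw [← hd.card]
        exact Nat.card_congr (Equiv.subtypeUnivEquiv fun w => DFunLike.congr_fun (MonoidHom.mem_ker.1 htker) w)
      by_contra hZ
      have h2 : ∀ b, t ∈ d.T b → False := fun b hb => by
        have h1 := hd.fix b t hb hZ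
        rw [hfix] at h1
        have := hd.qlb
        rcases hd.sgn b with e | e <;> rw [e] at h1 <;> push_cast at h1 <;> omega
      rcases ht with h | h | h
      exacts [hZ h, h2 false h, h2 true h]
    intro b
    have h1 := hd.zcent t htZ (g * b * g⁻¹)
    have h2 := hd.onorm.conj_mem _ h1 g⁻¹
    have ha' : a = g⁻¹ * t * g := by rw [← hg]; group
    rw [show b * a * b⁻¹ * a⁻¹ = g⁻¹ * (g * b * g⁻¹ * t * (g * b * g⁻¹)⁻¹ * t⁻¹) * g⁻¹⁻¹ by rw [ha']; group]
    exact h2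
  intro a ha b hb
  have h1 := hcen b hb a
  have h2 : a * b * a⁻¹ * b⁻¹ ∈ P := mul_mem (mul_mem (mul_mem ha hb) (inv_mem ha)) (inv_mem hb)
  obtain ⟨k, hk⟩ := hP2 ⟨_, h2⟩
  have h3 : orderOf (a * b * a⁻¹ * b⁻¹) ∣ 2 ^ k := orderOf_dvd_of_pow_eq_one (congrArg Subtype.val hk)
  have h4 := Nat.eq_one_of_dvd_coprimes (Nat.Coprime.pow_left k (Nat.coprime_two_left.2 hd.oodd)) h3
    (Subgroup.orderOf_dvd_natCard _ h1)
  exact mul_inv_eq_iff_eq_mul.1 (mul_inv_eq_one.1 (orderOf_eq_one_iff.1 h4))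

variable {G : Type u} [Group G] [Fintype G] [IsSimpleGroup G] {z : G} [Fintype (Cz z)] {Ω : Type u}
  [MulAction (Cz z) Ω] [Finite Ω] {D : Sys G z}

/-- The second or third member of the six gives the small character with its value classes. -/
theorem smallCharM_of_member (hD : D.Spec Ω)
    (hgen : ∀ (b : Bool) (τ : ↥(D.core.T b) →* ℂˣ), IsGeneralizedCharacter (Cz z) (D.core.R Ω b τ))
    {M : Ideal AlgInt} {e : Fin 6 → G → ℂ} (he : D.Six Ω M e) (hM : IsPModular 2 M) (hq : Odd D.core.q)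
    (i : Fin 6) (hi : i = 2 ∨ i = 3) (h1 : classInner (e i) (fun _ : G => (1 : ℂ)) = 0) {B V : ℤ}
    (hB : e i 1 = (B : ℂ)) (hV : e i z = (V : ℂ)) (hvle : |V| ≤ (D.core.q : ℤ) + 2) (hV1 : V ≠ 1)
    (hsmall : |B| - |V| < 2 * ((D.core.q : ℤ) ^ 2 - 1)) :
    Nonempty (SmallCharM z D.core.q) := by
  classical
  obtain ⟨χ, hχ, hE⟩ := he.inB0 i
  obtain ⟨ε, hε, hae⟩ : ∃ ε : ℤ, (ε = 1 ∨ ε = -1) ∧ e i = fun g => (ε : ℂ) * (χ : G → ℂ) g := by
    rcases hE with e' | e'
    · exact ⟨1, Or.inl rfl, by rw [e']; funext g; simp⟩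
    · exact ⟨-1, Or.inr rfl, by rw [e']; funext g; simp⟩
  have hεε : (ε : ℂ) * (ε : ℂ) = 1 := by rcases hε with rfl | rfl <;> norm_num
  have hχa : ∀ g, (χ : G → ℂ) g = (ε : ℂ) * e i g := fun g => by rw [hae]; linear_combination (-(χ : G → ℂ) g) * hεε
  obtain ⟨d, -, hd⟩ := irr_degree_pos χ.2
  have hdB : (d : ℤ) = |B| := by
    have h : ((d : ℤ) : ℂ) = ((ε * B : ℤ) : ℂ) := by push_cast; rw [← hd, hχa 1, hB]
    have h' : (d : ℤ) = ε * B := by exact_mod_cast h
    have habs : |(d : ℤ)| = |B| := by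
      rw [h', abs_mul]
      rcases hε with rfl | rfl <;> simp
    rwa [abs_of_nonneg (Int.natCast_nonneg d)] at habs
  haveI : Fintype (↥(D.core.T false) →* ℂˣ) := Fintype.ofFinite _
  obtain ⟨p, r, hp, hpz, hr, -⟩ := zsection hD hM hχ
  have hval : (χ : G → ℂ) z = ((ε * V : ℤ) : ℂ) := by rw [hχa z, hV]; push_cast; rfl
  have hev : Even (Nat.card Ω) := by rw [hD.core.card]; exact hq.add_one
  have hr' : 2 * r = (ε : ℂ) := by
    rw [← hr]
    have hre := r_formula hD hgen he i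
    rw [show (((![-1, 0, 1, -1, 0, -1] : Fin 6 → ℤ) i : ℂ) +
        2 * (D.θ ⟨D.zc, hD.core.zle false hD.zcZ⟩ : ℂ) * ((![-1, 0, 0, -1, -1, 0] : Fin 6 → ℤ) i : ℂ) +
        (-2 - 2 * (D.θ ⟨D.zc, hD.core.zle false hD.zcZ⟩ : ℂ)) * ((![-1, 0, 0, -1, 0, 0] : Fin 6 → ℤ) i : ℂ)) = 1
      by rcases hi with rfl | rfl <;> simp <;> ring] at hre
    rw [← mul_one (ε : ℂ), ← hre, Finset.mul_sum]
    refine Finset.sum_congr rfl fun φ _ => ?_
    simp only [classInner, hχa, mul_assoc, ← Finset.mul_sum]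
    ring
  have hpr : p ≠ r := fun e' => hV1 (by
    have h2 : ((ε * V : ℤ) : ℂ) = (ε : ℂ) := by rw [← hval, hpz, e', ← hr']; ring
    have h3 : ε * V = ε := by exact_mod_cast h2
    rcases hε with rfl | rfl <;> omega)
  have hval' : ∀ y o : Cz z, (∀ a : Ω, o • a = a) → D.Sh Ω (y * o) = D.Sh Ω y := fun y o ho => by
    have hfix : MulAction.fixedBy Ω (y * o) = MulAction.fixedBy Ω y := by
      ext a
      simp only [MulAction.mem_fixedBy, mul_smul, ho]
    simp only [Sys.Sh, St, hfix]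
  have hodd := CfsgLib.odd_card_oddCore (G := Cz z)
  have hy2 : ∀ y ∈ oddCore (Cz z), ¬ 2 ∣ orderOf y := fun y hy h => by
    have h' := h.trans (Subgroup.orderOf_dvd_natCard _ hy)
    exact (Nat.not_even_iff_odd.mpr hodd) (even_iff_two_dvd.mpr h')
  have htriv := odd_normal_trivial hev hD.core.two (oddCore (Cz z)) hodd
  refine ⟨{ χ := χ, d := d, v := ε * V, irr := χ.2, deg := hd, val := hval, const := ?_, small := ?_,
            faithful := ?_, vle := ?_, zconst := ?_, moved := ?_ }⟩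
  · intro y hy
    have h2 : D.Sh Ω (1 * y) = D.Sh Ω 1 := hval' 1 y (htriv y hy)
    rw [one_mul] at h2
    rw [hp y (hy2 y hy), h2, Sh_one hD, ← hpz, hval]
  · rw [hdB, abs_mul]
    rcases hε with rfl | rfl <;> simpa using hsmall
  · intro x hx h
    refine no_kernel (he.signed i) h1 hx ?_
    rw [hae]
    simp only [h]
  · rw [abs_mul]
    rcases hε with rfl | rfl <;> simpa using hvle
  · intro y o ho hyo hy
    have hyo2 : ¬ 2 ∣ orderOf (y * o) := fun h =>
      (Nat.prime_two.dvd_mul.1 (h.trans ((show Commute y o from hyo).orderOf_mul_dvd_mul_orderOf))).elim hy (hy2 o ho)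
    rw [hp _ hyo2, hp _ hy, hval' y o (htriv o ho)]
  · refine ⟨(MulAction.toPermHom (Cz z) Ω).ker, inferInstance, fun P hP hP2 => kern_comm hD.core P hP hP2,
      fun y hy hyv => ?_⟩
    rw [hp y hy, ← hval, hpz] at hyv
    have hSh : D.Sh Ω y = D.Sh Ω 1 := by
      rw [Sh_one hD]
      exact mul_left_cancel₀ (sub_ne_zero.2 hpr) (by linear_combination hyv)
    have hσ : (D.core.σ true : ℂ) ≠ 0 := by rcases hD.core.sgn true with e' | e' <;> simp [e']
    have hSt : St Ω y = St Ω (1 : Cz z) := mul_left_cancel₀ hσ hSh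
    have hcard : Nat.card (MulAction.fixedBy Ω y) = Nat.card (MulAction.fixedBy Ω (1 : Cz z)) := by
      simp only [St, sub_left_inj] at hSt
      exact_mod_cast hSt
    have huniv : MulAction.fixedBy Ω y = MulAction.fixedBy Ω (1 : Cz z) := by
      refine Set.eq_of_subset_of_ncard_le (fun a _ => one_smul _ a) ?_ (Set.toFinite _)
      rw [← Nat.card_coe_set_eq, ← Nat.card_coe_set_eq]
      exact hcard.ge
    refine MonoidHom.mem_ker.2 (Equiv.ext fun a => ?_)
    show y • a = a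
    exact (huniv.ge (one_smul _ a : a ∈ MulAction.fixedBy Ω (1 : Cz z)))

/-- The small character from the system. -/
theorem smallCharM_of_sys (hD : D.Spec Ω) (hq : Odd D.core.q) : Nonempty (SmallCharM z D.core.q) := by
  classical
  obtain ⟨M, hM⟩ := exists_isPModular Nat.prime_two
  have hgen := hgen_all hD
  obtain ⟨e, he⟩ := exists_six hD hgen (M := M) hM
  obtain ⟨hC3, hY2, hcase⟩ := values hD hgen he hM
  obtain ⟨q1, q2, q3⟩ := class_equations hD hgen he
  obtain ⟨B, C, hB, hC, hA, hY, hF, nB, nC, nA, nY, nF, -, -, -⟩ := signed_degrees hD hgen he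
  have hz1 : z ≠ 1 := fun h => by have := hD.zord; rw [h, orderOf_one] at this; omega
  have horth : ∀ i : Fin 6, i ≠ 0 → classInner (e i) (fun _ : G => (1 : ℂ)) = 0 := by
    intro i hi
    rw [← he.zero, he.orth, if_neg hi]
  have hQabs : |D.Q| = (D.core.q : ℤ) := by
    rcases hD.core.sgn true with h | h <;> rw [Sys.Q, h] <;> simp
  have hq3 := hD.core.qlb
  obtain ⟨hQ0, hQ1, hQm⟩ := Q_facts hD
  rw [kappa_cast hD] at q1 q2 q3
  set K : ℚ := (Nat.card (Cz z) : ℚ) ^ 3 /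
    ((Nat.card G : ℚ) * (Nat.card (Subgroup.centralizer ({(D.w : G), z} : Set G)) : ℚ) ^ 2) with hK
  have mA : (1 : ℚ) - B ≠ 0 := by exact_mod_cast nA
  have mB : (B : ℚ) ≠ 0 := by exact_mod_cast nB
  have mC : (C : ℚ) ≠ 0 := by exact_mod_cast nC
  have mY : (-1 : ℚ) - C ≠ 0 := by exact_mod_cast nY
  have mF : (B : ℚ) - 1 - C ≠ 0 := by exact_mod_cast nF
  rcases hcase with ⟨-, hδ, a1, a2, a5⟩ | ⟨-, hδ, hv⟩
  · rw [hδ, hA, a1, a2, hB] at q1
    rw [hδ, hA, hC, hF, a1, hC3, a5] at q3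
    have E1 : (-1 : ℚ) + ((D.Q : ℚ) + 1) ^ 2 / (1 - B) + (D.Q : ℚ) ^ 2 / B = K * (-1 - 1 / (D.Q : ℚ)) := by
      apply Rat.cast_injective (α := ℂ)
      push_cast
      linear_combination q1
    have E3 : ((D.Q : ℚ) + 1) ^ 2 / (1 - B) + (D.Q : ℚ) ^ 2 / C + 1 / (B - 1 - C) =
        K * (-1 - 1 / (D.Q : ℚ)) := by
      apply Rat.cast_injective (α := ℂ)
      push_cast
      linear_combination q3
    have hne : (C : ℚ) ≠ B := by
      intro h
      refine no_kernel (he.signed 5) (horth 5 (by decide)) hz1 ?_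
      rw [a5, hF, show (C : ℂ) = ((C : ℚ) : ℂ) by norm_cast, h]
      push_cast; ring
    obtain ⟨r1, -⟩ := Arith.qd_key hQ0 mA mB mC mF hne E1 E3
    have r1' : C * (D.Q ^ 2 - B) = D.Q ^ 2 * (B - 1) := by exact_mod_cast r1
    rcases qd_small (by omega) hQabs r1' with hsm | hsm
    · refine smallCharM_of_member hD hgen he hM hq 2 (Or.inl rfl) (horth 2 (by decide)) hB
        (V := -D.Q) (by rw [a2]; push_cast; rfl) (by rw [abs_neg, hQabs]; omega) (fun hV => absurd (congrArg abs hV) (by rw [abs_neg, hQabs, abs_one]; omega)) ?_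
      rw [abs_neg, hQabs]
      have : (3 : ℤ) ≤ (D.core.q : ℤ) := by exact_mod_cast hq3
      omega
    · refine smallCharM_of_member hD hgen he hM hq 3 (Or.inr rfl) (horth 3 (by decide)) hC
        (V := -D.Q) (by rw [hC3]; push_cast; rfl) (by rw [abs_neg, hQabs]; omega) (fun hV => absurd (congrArg abs hV) (by rw [abs_neg, hQabs, abs_one]; omega)) ?_
      rw [abs_neg, hQabs]
      have : (3 : ℤ) ≤ (D.core.q : ℤ) := by exact_mod_cast hq3
      omega
  · rw [hδ, hA] at q1 q3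
    rw [hB] at q1
    rw [hY2, hC3, hY, hC] at q2
    rw [hC, hC3, hF] at q3
    have E2 : (1 : ℚ) + ((D.Q : ℚ) - 1) ^ 2 / (-1 - C) + (D.Q : ℚ) ^ 2 / C = K * (1 - 1 / (D.Q : ℚ)) := by
      apply Rat.cast_injective (α := ℂ)
      push_cast
      linear_combination q2
    rcases hv with ⟨a1, a2, a5⟩ | ⟨a1, a2, a5⟩
    · rw [a1, a2] at q1
      rw [a1, a5] at q3
      have E1 : (-1 : ℚ) + ((D.Q : ℚ) + 1) ^ 2 / (1 - B) + ((D.Q : ℚ) + 2) ^ 2 / B =
          K * (4 / ((D.Q : ℚ) + 1) - 1 - 1 / (D.Q : ℚ)) := by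
        apply Rat.cast_injective (α := ℂ)
        push_cast
        linear_combination q1
      have E3 : ((D.Q : ℚ) + 1) ^ 2 / (1 - B) + (D.Q : ℚ) ^ 2 / C + (2 * (D.Q : ℚ) + 1) ^ 2 / (B - 1 - C) =
          K * (4 / ((D.Q : ℚ) + 1) - 1 - 1 / (D.Q : ℚ)) := by
        apply Rat.cast_injective (α := ℂ)
        push_cast
        linear_combination q3
      have hker : (B : ℚ) ≠ (D.Q : ℚ) + 2 := by
        intro h
        refine no_kernel (he.signed 2) (horth 2 (by decide)) hz1 ?_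
        rw [a2, hB, show (B : ℂ) = ((B : ℚ) : ℂ) by norm_cast, h]
        push_cast; ring
      obtain ⟨r1, -⟩ := Arith.wreathed_normal hQ0 hQ1 hQm mA mB mC mY mF hker E1 E2 E3
      have r1' : B = D.Q ^ 2 + D.Q + 1 := by exact_mod_cast r1
      refine smallCharM_of_member hD hgen he hM hq 2 (Or.inl rfl) (horth 2 (by decide)) hB
        (V := D.Q + 2) (by rw [a2]; push_cast; rfl) ((abs_add_le _ _).trans (by rw [hQabs]; norm_num))
        (fun hV => absurd (congrArg abs (show D.Q = -1 by linarith)) (by rw [hQabs, abs_neg, abs_one]; omega)) ?_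
      have h3 : (3 : ℤ) ≤ (D.core.q : ℤ) := by exact_mod_cast hq3
      rcases hD.core.sgn true with h | h <;> rw [Sys.Q, h] at r1' ⊢
      · rw [one_mul] at r1' ⊢
        rw [r1', abs_of_nonneg (by positivity), abs_of_nonneg (by omega)]
        nlinarith
      · rw [neg_one_mul] at r1' ⊢
        rw [r1', abs_of_nonneg (by nlinarith), abs_of_nonpos (by omega)]
        nlinarith
    · rw [a1, a2] at q1
      rw [a1, a5] at q3
      have E1 : (-1 : ℚ) + ((D.Q : ℚ) + 1) ^ 2 / (1 - B) + (D.Q : ℚ) ^ 2 / B =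
          K * (4 / ((D.Q : ℚ) + 1) - 1 - 1 / (D.Q : ℚ)) := by
        apply Rat.cast_injective (α := ℂ)
        push_cast
        linear_combination q1
      have E3 : ((D.Q : ℚ) + 1) ^ 2 / (1 - B) + (D.Q : ℚ) ^ 2 / C + 1 / (B - 1 - C) =
          K * (4 / ((D.Q : ℚ) + 1) - 1 - 1 / (D.Q : ℚ)) := by
        apply Rat.cast_injective (α := ℂ)
        push_cast
        linear_combination q3
      have hker : (B : ℚ) ≠ -(D.Q : ℚ) := by
        intro h
        refine no_kernel (he.signed 2) (horth 2 (by decide)) hz1 ?_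
        rw [a2, hB, show (B : ℂ) = ((B : ℚ) : ℂ) by norm_cast, h]
        push_cast; ring
      exact (Arith.wreathed_alt hQ0 hQ1 hQm mA mB mC mY mF hker E1 E2 E3).elim

/-- The small character from the local hypotheses. -/
theorem exists_smallCharM (hG : ¬ IsMulCommutative G) (S : Sylow 2 G)
    (hS : IsQuasiDihedral (S : Subgroup G) ∨ IsWreathed (S : Subgroup G))
    (hz : orderOf z = 2) (hzS : z ∈ S) (hzc : ∀ s ∈ (S : Subgroup G), s * z = z * s)
    (U : Subgroup G) (hUS : U ≤ S) (hU : IsKleinFour U)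
    (hUn : IsWreathed (S : Subgroup G) → ∀ s ∈ (S : Subgroup G), ∀ t ∈ U, s * t * s⁻¹ ∈ U)
    {p : ℕ} [Fact p.Prime] (hp : p ≠ 2) (n : ℕ) (hn : 1 ≤ n) (F : Type w) [Field F] [Fintype F]
    (hF : Fintype.card F = p ^ n)
    (hL : ∃ N : Subgroup (↥(Subgroup.centralizer ({z} : Set G)) ⧸ oddCore ↥(Subgroup.centralizer ({z} : Set G))),
      N.Normal ∧ Nonempty (↥N ≃* Matrix.SpecialLinearGroup (Fin 2) F)) :
    Nonempty (SmallCharM z (p ^ n)) := by
  obtain ⟨Ω', hΩ, D, hD, hDq, -⟩ := exists_sys hG S hS z hz hzS hzc U hUS hU hUn hp n hn F hF hL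
  haveI : Finite Ω' := Nat.finite_of_card_ne_zero (by rw [hD.core.card]; omega)
  have hodd : Odd D.core.q := hDq ▸ ((Fact.out : p.Prime).odd_of_ne_two hp).pow
  exact hDq ▸ smallCharM_of_sys hD hodd

end CfsgLib.RankTwo
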