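import Cfsg.Agent.Lib.RankTwo.HeisLinear
import Cfsg.Agent.Lib.RankTwo.Criterion

/-!
# Small modules of a minimal cover

* `linear_cover_trivial`: a minimal cover has no non-trivial representation of degree `n`, `n ^ 2 < q (q - 1)`, in
  which the normal subgroups of the kernel of the cover are semisimple.
* `small_module_trivial`: it acts trivially on an odd abelian `r`-group, `r` prime to `q`, of order below `4 q ^ 2`.
-/

set_option autoImplicit false
set_option linter.unusedSectionVars false
set_option linter.style.haveILetI false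

namespace CfsgLib.RankTwo

open scoped commutatorElement

universe u v w

section Conj

variable {K : Type u} [Group K] (N : Subgroup K) [N.Normal] {G : Type v} [Group G] (ρ : K →* G)

/-- Conjugation on the image of a normal subgroup. -/
noncomputable def imageAut : K →* MulAut (ρ.comp N.subtype).range where
  toFun k :=
    { toFun := fun x => ⟨ρ k * x * (ρ k)⁻¹, by
        obtain ⟨n, hn⟩ := x.2
        exact ⟨⟨k * n * k⁻¹, Subgroup.Normal.conj_mem inferInstance _ n.2 k⟩, by rw [← hn]; simp⟩⟩
      invFun := fun x => ⟨(ρ k)⁻¹ * x * ρ k, by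
        obtain ⟨n, hn⟩ := x.2
        refine ⟨⟨k⁻¹ * n * k⁻¹⁻¹, Subgroup.Normal.conj_mem inferInstance _ n.2 k⁻¹⟩, ?_⟩
        rw [← hn]; simp⟩
      left_inv := fun x => Subtype.ext (by simp [mul_assoc])
      right_inv := fun x => Subtype.ext (by simp [mul_assoc])
      map_mul' := fun a b => Subtype.ext (by simp [mul_assoc]) }
  map_one' := MulEquiv.ext fun x => Subtype.ext (by simp)
  map_mul' a b := MulEquiv.ext fun x => Subtype.ext (by simp [mul_assoc])

theorem imageAut_apply (k : K) (x : (ρ.comp N.subtype).range) :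
    ((imageAut N ρ k x : (ρ.comp N.subtype).range) : G) = ρ k * x * (ρ k)⁻¹ := rfl

end Conj

variable {K : Type u} [Group K] [Finite K] {N : Subgroup K} [N.Normal] {q : ℕ}
  {F : Type v} [Field F] [IsAlgClosed F] {W : Type w} [AddCommGroup W] [Module F W] [FiniteDimensional F W]

section Weights

variable (c : Cov N q) {R : Type*} [Group R] [Finite R] (φ : K →* MulAut R) (val : R →* Module.End F W)
  (hvinj : Function.Injective val) (T : K →* (Module.End F W)ˣ)
  (hconj : ∀ (k : K) (x : R), (T k : Module.End F W) * val x = val (φ k x) * (T k : Module.End F W))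

include c hvinj hconj in
/-- An invariant abelian subgroup with few weights is fixed. -/
theorem weights_fixed (hd : Module.finrank F W < q ^ 2) (A : Subgroup R)
    (hAc : ∀ x ∈ A, ∀ y ∈ A, x * y = y * x) (hAF : (Nat.card A : F) ≠ 0) (hAi : ∀ k, ∀ x ∈ A, φ k x ∈ A)
    (k : K) (x : R) (hx : x ∈ A) : φ k x = x := by
  classical
  haveI : Fintype A := Fintype.ofFinite _
  set ψ := restrictAut φ A hAi with hψ
  set ρA : A →* Module.End F W := val.comp A.subtype with hρA
  have hAc' : ∀ a b : A, a * b = b * a := fun a b => Subtype.ext (hAc a a.2 b b.2)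
  haveI := (card_hom_eq hAc' hAF).1
  haveI := Fintype.ofFinite (A →* Fˣ)
  let Ω := {l : A →* Fˣ // eig ρA l ≠ 0}
  have hmove : ∀ (k : K) (l : A →* Fˣ), eig ρA l ≠ 0 → eig ρA (l.comp (ψ k⁻¹).toMonoidHom) ≠ 0 := by
    intro k l hl h0
    have h1 := conj_eig ρA l (ψ k) (T k : Module.End F W) fun a => hconj k a
    rw [show l.comp (ψ k).symm.toMonoidHom = l.comp (ψ k⁻¹).toMonoidHom by rw [map_inv]; rfl, h0,
      zero_mul] at h1
    refine hl ?_
    calc eig ρA l = (((T k)⁻¹ : (Module.End F W)ˣ) : Module.End F W) * ((T k : Module.End F W) * eig ρA l) := by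
          rw [← mul_assoc, ← Units.val_mul, inv_mul_cancel, Units.val_one, one_mul]
      _ = 0 := by rw [h1, mul_zero]
  letI : MulAction K Ω :=
    { smul := fun k l => ⟨l.1.comp (ψ k⁻¹).toMonoidHom, hmove k l.1 l.2⟩
      one_smul := fun l => Subtype.ext (MonoidHom.ext fun a => by
        show l.1 (ψ 1⁻¹ a) = l.1 a
        rw [inv_one, map_one]; rfl)
      mul_smul := fun a b l => Subtype.ext (MonoidHom.ext fun x => by
        show l.1 (ψ (a * b)⁻¹ x) = l.1 (ψ b⁻¹ (ψ a⁻¹ x))
        rw [mul_inv_rev, map_mul]; rfl) }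
  have hsmall : Nat.card Ω < q ^ 2 := by
    refine lt_of_le_of_lt ?_ hd
    rw [Nat.card_eq_fintype_card, Fintype.card_subtype]
    exact card_eig_le ρA hAF _ fun l hl => (Finset.mem_filter.1 hl).2
  have hval : val (ψ k ⟨x, hx⟩ : A) = val x := by
    calc val (ψ k ⟨x, hx⟩ : A) = ρA (ψ k ⟨x, hx⟩) * ∑ l : A →* Fˣ, eig ρA l := by
          rw [sum_eig ρA hAc' hAF, mul_one]; rfl
      _ = ρA ⟨x, hx⟩ * ∑ l : A →* Fˣ, eig ρA l := by
          rw [Finset.mul_sum, Finset.mul_sum]
          refine Finset.sum_congr rfl fun l _ => ?_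
          by_cases he : eig ρA l = 0
          · rw [he, mul_zero, mul_zero]
          · rw [apply_mul_eig, apply_mul_eig]
            have h := c.fixed_of_small hsmall k⁻¹ (⟨l, he⟩ : Ω)
            have h' : l (ψ k⁻¹⁻¹ ⟨x, hx⟩) = l ⟨x, hx⟩ := DFunLike.congr_fun (congrArg Subtype.val h) _
            rw [inv_inv] at h'
            rw [h']
      _ = val x := by rw [sum_eig ρA hAc' hAF, mul_one]; rfl
  exact hvinj hval

variable (E : Subgroup R) (hEi : ∀ k, ∀ x ∈ E, φ k x ∈ E)
  (hcl : ∀ x ∈ E, ∀ y ∈ E, ∀ w ∈ E, x * y * x⁻¹ * y⁻¹ * w = w * (x * y * x⁻¹ * y⁻¹))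

include hcl in
theorem comm_mul_left {g g' h : R} (hg : g ∈ E) (hg' : g' ∈ E) (hh : h ∈ E) :
    g * g' * h * (g * g')⁻¹ * h⁻¹ = (g' * h * g'⁻¹ * h⁻¹) * (g * h * g⁻¹ * h⁻¹) := by
  calc g * g' * h * (g * g')⁻¹ * h⁻¹ = g * (g' * h * g'⁻¹ * h⁻¹) * (h * g⁻¹ * h⁻¹) := by group
    _ = (g' * h * g'⁻¹ * h⁻¹) * g * (h * g⁻¹ * h⁻¹) := by rw [hcl g' hg' h hh g hg]
    _ = _ := by group

include c hvinj hcl hEi in
/-- In an invariant subgroup of class two with fixed centre the commutator characters are fixed. -/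
theorem class_two_fixed (hd : Module.finrank F W ^ 2 < q ^ 2) (hEF : (Nat.card E : F) ≠ 0)
    (hZfix : ∀ k, ∀ y ∈ E ⊓ Subgroup.centralizer (E : Set R), φ k y = y) (k : K) (x : R) (hx : x ∈ E) :
    φ k x = x := by
  classical
  haveI : Fintype E := Fintype.ofFinite _
  set Z := E ⊓ Subgroup.centralizer (E : Set R) with hZdef
  haveI : Fintype Z := Fintype.ofFinite _
  have hZF : (Nat.card Z : F) ≠ 0 := fun h0 => hEF (by
    obtain ⟨m, hm⟩ := Subgroup.card_dvd_of_le (inf_le_left : Z ≤ E)
    rw [hm, Nat.cast_mul, h0, zero_mul])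
  have hZcom : ∀ y : Z, ∀ w ∈ E, w * (y : R) = y * w := fun y w hw =>
    Subgroup.mem_centralizer_iff.1 (Subgroup.mem_inf.1 y.2).2 w hw
  have hZE : ∀ y : Z, (y : R) ∈ E := fun y => (Subgroup.mem_inf.1 y.2).1
  have hZc : ∀ a b : Z, a * b = b * a := fun a b => Subtype.ext (hZcom b a (hZE a))
  haveI := (card_hom_eq hZc hZF).1
  haveI := Fintype.ofFinite (Z →* Fˣ)
  set ρZ : Z →* Module.End F W := val.comp Z.subtype with hρZ
  have hmemZ : ∀ y ∈ E, (∀ w ∈ E, w * y = y * w) → y ∈ Z := fun y hy hw =>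
    Subgroup.mem_inf.2 ⟨hy, Subgroup.mem_centralizer_iff.2 hw⟩
  let cm : E → E → Z := fun g h => ⟨(g : R) * h * (g : R)⁻¹ * (h : R)⁻¹,
    hmemZ _ (mul_mem (mul_mem (mul_mem g.2 h.2) (inv_mem g.2)) (inv_mem h.2))
      fun w hw => (hcl g g.2 h h.2 w hw).symm⟩
  have hcm : ∀ g g' h : E, cm (g * g') h = cm g h * cm g' h := fun g g' h => by
    rw [hZc]; exact Subtype.ext (comm_mul_left E hcl g.2 g'.2 h.2)
  let mh : (Z →* Fˣ) → E → (E →* Fˣ) := fun l g => MonoidHom.mk' (fun h => l (cm h g)) fun a b => by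
    show l (cm (a * b) g) = l (cm a g) * l (cm b g)
    rw [hcm, map_mul]
  set ψE := restrictAut φ E hEi with hψE
  let Cj : E →* Module.End F (Module.End F W) :=
    { toFun := fun h => LinearMap.mulLeft F (val (h : R)) * LinearMap.mulRight F (val (h : R)⁻¹)
      map_one' := LinearMap.ext fun X => by simp
      map_mul' := fun a b => LinearMap.ext fun X => by simp [mul_assoc] }
  -- the displacement commutes with the whole subgroup
  have hdisp : ∀ k, ∀ g h : E, cm h (g⁻¹ * ψE k g) = 1 := by
    intro k g h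
    suffices hval : ρZ (cm h (g⁻¹ * ψE k g)) = 1 from Subtype.ext (hvinj (hval.trans (map_one val).symm))
    calc ρZ (cm h (g⁻¹ * ψE k g))
        = ρZ (cm h (g⁻¹ * ψE k g)) * ∑ l : Z →* Fˣ, eig ρZ l := by rw [sum_eig ρZ hZc hZF, mul_one]
      _ = ∑ l : Z →* Fˣ, eig ρZ l := by
        rw [Finset.mul_sum]
        refine Finset.sum_congr rfl fun l _ => ?_
        by_cases he : eig ρZ l = 0
        · rw [he, mul_zero]
        rw [apply_mul_eig]
        suffices h1 : l (cm h (g⁻¹ * ψE k g)) = 1 by rw [h1, Units.val_one, one_smul]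
        let M := {m : E →* Fˣ // ∃ g : E, mh l g = m}
        have hne : ∀ g' : E, eig Cj (mh l g') ≠ 0 := by
          intro g' h0
          set f := val (g' : R) * eig ρZ l with hf
          have hf0 : f ≠ 0 := fun hf0 => he (by
            calc eig ρZ l = val ((g' : R)⁻¹) * f := by
                  rw [hf, ← mul_assoc, ← map_mul, inv_mul_cancel, map_one, one_mul]
              _ = 0 := by rw [hf0, mul_zero])
          have heig : ∀ a : E, Cj a f = (mh l g' a : F) • f := by
            intro a
            have hce : eig ρZ l * val (a : R)⁻¹ = val (a : R)⁻¹ * eig ρZ l := by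
              rw [eig, smul_mul_assoc, mul_smul_comm, Finset.sum_mul, Finset.mul_sum]
              congr 1
              refine Finset.sum_congr rfl fun y _ => ?_
              rw [smul_mul_assoc, mul_smul_comm]
              congr 1
              show val (y : R) * _ = _ * val (y : R)
              rw [← map_mul, ← map_mul, hZcom y _ (inv_mem a.2)]
            have hstep : (a : R) * g' * (a : R)⁻¹ = g' * (cm a g' : R) := by
              rw [hZcom (cm a g') g' g'.2]
              show _ = (a : R) * g' * (a : R)⁻¹ * (g' : R)⁻¹ * g'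
              rw [inv_mul_cancel_right]
            calc Cj a f = val (a : R) * (f * val (a : R)⁻¹) := rfl
              _ = val ((a : R) * g' * (a : R)⁻¹) * eig ρZ l := by
                rw [hf, mul_assoc, hce, map_mul, map_mul]; simp only [mul_assoc]
              _ = val (g' : R) * (ρZ (cm a g') * eig ρZ l) := by
                rw [hstep, map_mul, mul_assoc]; rfl
              _ = _ := by rw [apply_mul_eig, mul_smul_comm]; rfl
          have h2 : eig Cj (mh l g') f = f := by
            have : ∀ a : E, ((((mh l g' a)⁻¹ : Fˣ) : F) • Cj a) f = f := fun a => by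
              rw [LinearMap.smul_apply, heig, smul_smul, ← Units.val_mul, inv_mul_cancel, Units.val_one, one_smul]
            rw [eig, LinearMap.smul_apply, LinearMap.sum_apply, Finset.sum_congr rfl fun a _ => this a,
              Finset.sum_const, Finset.card_univ, ← Nat.card_eq_fintype_card, ← Nat.cast_smul_eq_nsmul F,
              smul_smul, inv_mul_cancel₀ hEF, one_smul]
          rw [h0, LinearMap.zero_apply] at h2
          exact hf0 h2.symm
        haveI : Finite M := Finite.of_surjective (fun g : E => (⟨mh l g, g, rfl⟩ : M))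
          (by rintro ⟨m, g, rfl⟩; exact ⟨g, rfl⟩)
        have hsmall : Nat.card M < q ^ 2 := by
          refine lt_of_le_of_lt ?_ hd
          haveI := Fintype.ofFinite M
          rw [Nat.card_eq_fintype_card, ← Finset.card_univ,
            ← Finset.card_image_of_injective _ Subtype.val_injective]
          refine le_trans (card_eig_le Cj hEF _ fun m hm => ?_) (le_of_eq ?_)
          · obtain ⟨⟨m', g', rfl⟩, -, rfl⟩ := Finset.mem_image.1 hm
            exact hne g'
          · rw [Module.finrank_linearMap, pow_two]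
        have hfwd : ∀ (k : K) (g' : E), (mh l g').comp (ψE k⁻¹).toMonoidHom = mh l (ψE k g') := by
          intro k g'
          refine MonoidHom.ext fun a => congrArg l (Subtype.ext ?_)
          have e := hZfix k _ (cm (ψE k⁻¹ a) g').2
          have e2 : φ k (φ k⁻¹ (a : R)) = a := by rw [map_inv]; exact (φ k).apply_symm_apply _
          show ((cm (ψE k⁻¹ a) g' : Z) : R) = _
          rw [← e]
          show φ k (φ k⁻¹ (a : R) * g' * (φ k⁻¹ (a : R))⁻¹ * (g' : R)⁻¹) = _
          rw [map_mul, map_mul, map_mul, map_inv (φ k), map_inv (φ k), e2]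
          rfl
        letI : MulAction K M :=
          { smul := fun k m => ⟨m.1.comp (ψE k⁻¹).toMonoidHom, by
              obtain ⟨g', hg'⟩ := m.2
              exact ⟨ψE k g', by rw [← hg', hfwd]⟩⟩
            one_smul := fun m => Subtype.ext (MonoidHom.ext fun a => by
              show m.1 (ψE 1⁻¹ a) = m.1 a
              rw [inv_one, map_one]; rfl)
            mul_smul := fun a b m => Subtype.ext (MonoidHom.ext fun y => by
              show m.1 (ψE (a * b)⁻¹ y) = m.1 (ψE b⁻¹ (ψE a⁻¹ y))
              rw [mul_inv_rev, map_mul]; rfl) }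
        have hfixed : mh l (ψE k g) = mh l g := by
          have h := congrArg Subtype.val (c.fixed_of_small hsmall k (⟨mh l g, g, rfl⟩ : M))
          rwa [← hfwd]
        have hh : l (cm h (ψE k g)) = l (cm h g) := DFunLike.congr_fun hfixed h
        have hsplit : cm h (ψE k g) = cm h g * cm h (g⁻¹ * ψE k g) := by
          apply Subtype.ext
          set d : R := ((g⁻¹ * ψE k g : E) : R) with hdd
          have hg1 : ((ψE k g : E) : R) = g * d := by
            rw [hdd]; show _ = (g : R) * ((g : R)⁻¹ * (ψE k g : E)); rw [mul_inv_cancel_left]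
          have hc0 := hcl h h.2 d (g⁻¹ * ψE k g).2 g g.2
          show (h : R) * (ψE k g : E) * (h : R)⁻¹ * ((ψE k g : E) : R)⁻¹ =
            (h : R) * g * (h : R)⁻¹ * (g : R)⁻¹ * ((h : R) * d * (h : R)⁻¹ * d⁻¹)
          rw [hg1]
          calc (h : R) * (g * d) * (h : R)⁻¹ * ((g : R) * d)⁻¹ = (h : R) * g * (h : R)⁻¹ * (g : R)⁻¹ *
                ((g : R) * ((h : R) * d * (h : R)⁻¹ * d⁻¹)) * (g : R)⁻¹ := by group
            _ = _ := by rw [← hc0]; group
        rw [hsplit, map_mul, mul_eq_left] at hh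
        exact hh
      _ = 1 := sum_eig ρZ hZc hZF
  have hin : ∀ k, x⁻¹ * φ k x ∈ Z := by
    intro k
    refine hmemZ _ (mul_mem (inv_mem hx) (hEi k x hx)) fun w hw => ?_
    have h' : w * (x⁻¹ * φ k x) * w⁻¹ * (x⁻¹ * φ k x)⁻¹ = 1 := congrArg Subtype.val (hdisp k ⟨x, hx⟩ ⟨w, hw⟩)
    rwa [mul_inv_eq_one, mul_inv_eq_iff_eq_mul] at h'
  let δ : K →* Z := MonoidHom.mk' (fun k => ⟨x⁻¹ * φ k x, hin k⟩) fun a b => Subtype.ext (by
    have h1 : φ a (x⁻¹ * φ b x) = x⁻¹ * φ b x := hZfix a _ (hin b)
    show x⁻¹ * φ (a * b) x = (x⁻¹ * φ a x) * (x⁻¹ * φ b x)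
    rw [map_mul, map_inv] at h1
    rw [map_mul, MulAut.mul_apply]
    calc x⁻¹ * φ a (φ b x) = x⁻¹ * φ a x * ((φ a x)⁻¹ * φ a (φ b x)) := by group
      _ = _ := by rw [h1])
  have h' : x⁻¹ * φ k x = 1 := congrArg Subtype.val (hom_trivial_of_comm c.commutator_top δ (fun _ _ => hZc _ _) k)
  exact (inv_mul_eq_one.1 h').symm

end Weights

/-- The image of the kernel of the cover is central. -/
theorem image_central (c : Cov N q) [Group.IsSolvable N] (ρ : K →* (Module.End F W)ˣ)
    (hd : Module.finrank F W ^ 2 < q ^ 2)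
    (hchar : ∀ (r : ℕ) [Fact r.Prime] (A : Subgroup (ρ.comp N.subtype).range), A.Normal →
      (∀ k, ∀ x ∈ A, imageAut N ρ k x ∈ A) → IsPGroup r A → (Nat.card A : F) ≠ 0)
    (n : N) (k : K) : ρ k * ρ n = ρ n * ρ k := by
  haveI : Finite (ρ.comp N.subtype).range := Finite.of_surjective _ (ρ.comp N.subtype).rangeRestrict_surjective
  haveI : Group.IsSolvable (ρ.comp N.subtype).range :=
    Group.isSolvable_of_surjective (ρ.comp N.subtype).rangeRestrict_surjective
  let val : (ρ.comp N.subtype).range →* Module.End F W :=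
    (Units.coeHom _).comp (ρ.comp N.subtype).range.subtype
  have hvinj : Function.Injective val := fun a b h => Subtype.ext (Units.ext h)
  have hconjv : ∀ (k : K) (x : (ρ.comp N.subtype).range),
      (ρ k : Module.End F W) * val x = val (imageAut N ρ k x) * (ρ k : Module.End F W) := by
    intro k x
    show ((ρ k * (x : (Module.End F W)ˣ) : (Module.End F W)ˣ) : Module.End F W) =
      ((ρ k * x * (ρ k)⁻¹ * ρ k : (Module.End F W)ˣ) : Module.End F W)
    rw [inv_mul_cancel_right]
  have hd1 : Module.finrank F W < q ^ 2 := lt_of_le_of_lt (Nat.le_self_pow two_ne_zero _) hd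
  have hfix := fixed_of_criterion (imageAut N ρ) c.commutator_top
    (fun r _ A hAn hAi hAp hAc k x hx =>
      weights_fixed c _ val hvinj ρ hconjv hd1 A hAc (hchar r A hAn hAi hAp) hAi k x hx)
    (fun r _ E hEn hEi hEp hcl hZ k x hx =>
      class_two_fixed c _ val hvinj E hEi hcl hd (hchar r E hEn hEi hEp)
        (fun k y hy => hZ k y hy.1 fun w hw => (Subgroup.mem_centralizer_iff.1 hy.2 w hw).symm) k x hx)
    k ⟨ρ n, n, rfl⟩
  have h := congrArg Subtype.val hfix
  rw [imageAut_apply] at h
  exact mul_inv_eq_iff_eq_mul.1 h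

/-- A small representation of a minimal cover is trivial. -/
theorem linear_cover_trivial (c : Cov N q) [Group.IsSolvable N] (hqF : (q : F) ≠ 0)
    (ρ : K →* (Module.End F W)ˣ) (hd : Module.finrank F W ^ 2 < q * (q - 1))
    (hchar : ∀ (r : ℕ) [Fact r.Prime] (A : Subgroup (ρ.comp N.subtype).range), A.Normal →
      (∀ k, ∀ x ∈ A, imageAut N ρ k x ∈ A) → IsPGroup r A → (Nat.card A : F) ≠ 0)
    (k : K) : ρ k = 1 := by
  classical
  haveI := c.simple
  have hd2 : Module.finrank F W ^ 2 < q ^ 2 := lt_of_lt_of_le hd (by rw [pow_two]; exact Nat.mul_le_mul_left _ (Nat.sub_le _ _))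
  have hcen := image_central c ρ hd2 hchar
  let C : Submodule F (Module.End F W) :=
    { carrier := {X | ∀ n : N, X * (ρ n : Module.End F W) = (ρ n : Module.End F W) * X}
      zero_mem' := fun n => by simp
      add_mem' := fun {a b} ha hb n => by rw [add_mul, mul_add, ha n, hb n]
      smul_mem' := fun t X hX n => by rw [smul_mul_assoc, mul_smul_comm, hX n] }
  have hinv : ∀ k : K, ∀ X ∈ C, (ρ k : Module.End F W) * X * ((ρ k⁻¹ : (Module.End F W)ˣ) : Module.End F W) ∈ C := by
    intro k X hX n
    have h2 : ∀ k', (ρ k' : Module.End F W) * (ρ n : Module.End F W) = (ρ n : Module.End F W) * ρ k' := fun k' => by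
      rw [← Units.val_mul, ← Units.val_mul, hcen n k']
    rw [mul_assoc, h2 k⁻¹, ← mul_assoc, mul_assoc (ρ k : Module.End F W), hX n, ← mul_assoc, h2 k, mul_assoc,
      mul_assoc, mul_assoc]
  let Ad : K →* Module.End F C :=
    { toFun := fun k =>
        { toFun := fun X => ⟨(ρ k : Module.End F W) * X * ((ρ k⁻¹ : (Module.End F W)ˣ) : Module.End F W),
            hinv k X X.2⟩
          map_add' := fun X Y => Subtype.ext (by simp [mul_add, add_mul])
          map_smul' := fun t X => Subtype.ext (by simp) }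
      map_one' := LinearMap.ext fun X => Subtype.ext (by simp)
      map_mul' := fun a b => LinearMap.ext fun X => Subtype.ext (by simp [mul_assoc]) }
  have hker : N ≤ Ad.toHomUnits.ker := fun n hn => MonoidHom.mem_ker.2 (Units.ext (LinearMap.ext fun X =>
    Subtype.ext (by
      show (ρ n : Module.End F W) * X * ((ρ n⁻¹ : (Module.End F W)ˣ) : Module.End F W) = X
      rw [← X.2 ⟨n, hn⟩, mul_assoc, ← Units.val_mul, ← map_mul, mul_inv_cancel, map_one, Units.val_one, mul_one])))
  let ρ' : K ⧸ N →* Module.End F C := (Units.coeHom _).comp (QuotientGroup.lift N Ad.toHomUnits hker)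
  have hdim : Module.finrank F C < q * (q - 1) := by
    refine lt_of_le_of_lt (Submodule.finrank_le C) ?_
    rwa [Module.finrank_linearMap, ← pow_two]
  have hAd : ∀ k, Ad k = 1 := fun k =>
    c.heis.linear_trivial (by have := c.q5; omega) hqF ρ' hdim (k : K ⧸ N)
  refine hom_trivial_of_comm c.commutator_top ρ (fun a b => ?_) k
  have hb : (ρ b : Module.End F W) ∈ C := fun n => by rw [← Units.val_mul, ← Units.val_mul, hcen n b]
  have h := congrArg Subtype.val (LinearMap.congr_fun (hAd a) (⟨_, hb⟩ : C))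
  have h' : (ρ a : Module.End F W) * (ρ b : Module.End F W) * ((ρ a⁻¹ : (Module.End F W)ˣ) : Module.End F W) =
      (ρ b : Module.End F W) := h
  rw [← Units.val_mul, ← Units.val_mul, map_inv] at h'
  exact mul_inv_eq_iff_eq_mul.1 (Units.ext h')

/-- Powers of three outgrow fourth powers. -/
theorem small_dimension {n q : ℕ} (hq : 5 ≤ q) (h : 3 ^ n < 4 * q ^ 2) : n ^ 2 < q * (q - 1) := by
  by_contra hcon
  rw [not_lt] at hcon
  have hqn : q ≤ n + 1 := by
    by_contra h'
    rw [not_le] at h'
    have h1 : n + 1 ≤ q - 1 := by omega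
    have h2 : n ^ 2 < q * (q - 1) := by
      calc n ^ 2 < (n + 1) ^ 2 := Nat.pow_lt_pow_left (by omega) two_ne_zero
        _ ≤ _ := by rw [pow_two]; exact Nat.mul_le_mul (by omega) h1
    omega
  have hn : 4 ≤ n := by omega
  have hgrow : ∀ m : ℕ, 5 ≤ m → 4 * (m + 1) ^ 2 ≤ 3 ^ m := by
    intro m hm
    induction m, hm using Nat.le_induction with
    | base => norm_num
    | succ m hm ih =>
      calc 4 * (m + 1 + 1) ^ 2 ≤ 4 * (m + 1) ^ 2 * 3 := by nlinarith
        _ ≤ 3 ^ m * 3 := Nat.mul_le_mul_right _ ih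
        _ = _ := by ring
  rcases eq_or_lt_of_le hn with h4 | h5
  · subst h4
    have : q = 5 := by omega
    subst this
    norm_num at hcon
  · have := hgrow n h5
    have : 4 * q ^ 2 ≤ 4 * (n + 1) ^ 2 := Nat.mul_le_mul_left _ (Nat.pow_le_pow_left hqn 2)
    omega

end CfsgLib.RankTwo
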