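import Cfsg.Agent.Lib.RankTwo.CoreAbelian

/-!
The elements of `D` commuting with an involution `v ≠ z` of `C` and inverted by the elements of `D` moving `v` to
`z v`: in the case `[O, D] = 1` an element of `C ∩ O(C(u))` commutes with them and differs from one of them by an
element of `C_O(u)` of the same order, and `C_O(u)` is cyclic.

Blueprint: `blueprint/RankTwo.md` (P7).
-/

set_option autoImplicit false
set_option linter.unusedSectionVars false
set_option linter.style.haveILetI false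

namespace CfsgLib.RankTwoModel

open Cfsg CfsgLib.BG CfsgLib.GW CfsgLib.BenderMax
open scoped MatrixGroups

universe u

variable {G : Type u} [Group G] [Finite G] {d : Frame G}

local notation "SL[" d "]" => Matrix.SpecialLinearGroup (Fin 2) (Frame.F d)

/-- An element of the inverted torus at `v`. -/
structure InS (d : Frame G) (v s : G) : Prop where
  mem : s ∈ d.D
  comm : s * v = v * s
  inverted : ∀ w ∈ d.D, w * v * w⁻¹ = d.z * v → w * s * w⁻¹ = s⁻¹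

theorem swap_back (hd : d.Spec) {v w : G} (hw : w ∈ d.C) (hwv : w * v * w⁻¹ = d.z * v) :
    w * (d.z * v) * w⁻¹ = v := by
  calc w * (d.z * v) * w⁻¹ = (w * d.z * w⁻¹) * (w * v * w⁻¹) := by group
    _ = d.z * (d.z * v) := by rw [hwv, Frame.Spec.z_central hw, mul_inv_cancel_right]
    _ = v := by rw [← mul_assoc, invol_mul_self hd.zord, one_mul]

theorem conj_commute (hd : d.Spec) {v w t : G} (hw : w ∈ d.D) (hwv : w * v * w⁻¹ = d.z * v) (ht : t ∈ d.D)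
    (htv : t * v = v * t) : w * t * w⁻¹ * v = v * (w * t * w⁻¹) := by
  have h1 : Commute t (d.z * v) := (show Commute t d.z from Frame.Spec.z_central (d.D_le ht)).mul_right htv
  have h2 := (Commute.conj_iff w).2 h1
  rw [swap_back hd (d.D_le hw) hwv] at h2
  exact h2.eq

theorem sigma_commute (R : Rep d) {v : G} (hvC : v ∈ d.C) {g₀ : GL (Fin 2) d.F}
    (hg₀ : ∀ A : SL[d], (R.σ ⟨v, hvC⟩ A).1 = g₀.1 * A.1 * (g₀⁻¹).1) {A : SL[d]} (hA : R.σ ⟨v, hvC⟩ A = A) :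
    Commute A.1 g₀.1 := by
  have h1 := congrArg Subtype.val hA
  rw [hg₀] at h1
  show A.1 * g₀.1 = g₀.1 * A.1
  conv_lhs => rw [← h1]
  simp [Matrix.mul_assoc]

theorem sigma_fixed (R : Rep d) {v : G} (hvC : v ∈ d.C) {g₀ : GL (Fin 2) d.F}
    (hg₀ : ∀ A : SL[d], (R.σ ⟨v, hvC⟩ A).1 = g₀.1 * A.1 * (g₀⁻¹).1) {A : SL[d]} (hA : Commute A.1 g₀.1) :
    R.σ ⟨v, hvC⟩ A = A :=
  Subtype.ext (by rw [hg₀, ← hA.eq, Matrix.mul_assoc, ← Units.val_mul, mul_inv_cancel, Units.val_one, Matrix.mul_one])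

section

variable (h : Hyp G) (hd : d.Spec) (hq : 3 < d.q) (hOD : ∀ x ∈ d.O, ∀ y ∈ d.D, x * y = y * x) {v : G}
  (hvC : v ∈ d.C) (hv2 : orderOf v = 2) (hvz : v ≠ d.z)

include h hd hq hOD hvC hv2 hvz

theorem T_comm {a c : G} (ha : a ∈ d.D) (hav : a * v = v * a) (hc : c ∈ d.D) (hcv : c * v = v * c) :
    a * c = c * a := by
  obtain ⟨R⟩ := hd.exists_rep
  obtain ⟨g₀, htr, -, hg₀⟩ := R.invol hd hq h hvC hv2 hvz
  set T : Subgroup G := d.D ⊓ Subgroup.centralizer ({v} : Set G) with hT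
  obtain ⟨b, hb, -, hbA⟩ := SL2.exists_torus hd.odd_card (hd.three_lt hq) htr
  obtain ⟨hcyc, -⟩ := SL2Tori.isCyclic_centralizer hb
  haveI := hcyc
  have hTcen : ∀ t : T, R.π ⟨t, hd.D_le_L hq t.2.1⟩ ∈ Subgroup.centralizer ({b} : Set SL[d]) := fun t => by
    refine (hbA _).2 (sigma_commute R hvC hg₀ ?_)
    rw [R.compat]
    congr 1
    exact Subtype.ext (by
      show v * (t : G) * v⁻¹ = t
      rw [← Subgroup.mem_centralizer_singleton_iff.1 t.2.2, mul_inv_cancel_right])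
  let f : T →* Subgroup.centralizer ({b} : Set SL[d]) :=
    (R.π.comp (Subgroup.inclusion (inf_le_left.trans (hd.D_le_L hq) : T ≤ d.L))).codRestrict _ hTcen
  have hfker : f.ker ≤ Subgroup.center T := fun t ht => Subgroup.mem_center_iff.2 fun t' => Subtype.ext
    (hOD _ ((R.ker _).1 (congrArg Subtype.val ht)) _ t'.2.1).symm
  exact congrArg Subtype.val (commutative_of_cyclic_center_quotient f hfker
    ⟨a, ha, Subgroup.mem_centralizer_singleton_iff.2 hav⟩ ⟨c, hc, Subgroup.mem_centralizer_singleton_iff.2 hcv⟩)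

theorem InS.mul' {s t : G} (hs : InS d v s) (ht : InS d v t) : InS d v (s * t) :=
  ⟨mul_mem hs.mem ht.mem, ((show Commute s v from hs.comm).mul_left ht.comm).eq, fun w hw hwv => by
    rw [show w * (s * t) * w⁻¹ = (w * s * w⁻¹) * (w * t * w⁻¹) by group, hs.inverted w hw hwv, ht.inverted w hw hwv,
      ← mul_inv_rev, T_comm h hd hq hOD hvC hv2 hvz ht.mem ht.comm hs.mem hs.comm]⟩

theorem InS.conj' {s k : G} (hs : InS d v s) (hk : k ∈ d.C) (hkv : k * v = v * k) : InS d v (k * s * k⁻¹) := by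
  have hkv' : k * v * k⁻¹ = v := mul_inv_eq_iff_eq_mul.2 hkv
  refine ⟨d.D_conj hk hs.mem, ?_, fun w hw hwv => ?_⟩
  · have := ((Commute.conj_iff k).2 (show Commute s v from hs.comm)).eq
    rwa [hkv'] at this
  · have hwk : k⁻¹ * w * k ∈ d.D := by simpa using d.D_conj (inv_mem hk) hw
    have e : k⁻¹ * w * k * v * (k⁻¹ * w * k)⁻¹ = d.z * v := by
      calc k⁻¹ * w * k * v * (k⁻¹ * w * k)⁻¹ = k⁻¹ * (w * (k * v * k⁻¹) * w⁻¹) * k := by group
        _ = k⁻¹ * (d.z * v) * k := by rw [hkv', hwv]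
        _ = k⁻¹ * (d.z * v * k) := by group
        _ = k⁻¹ * (k * (d.z * v)) := by
          rw [mul_assoc d.z v k, ← hkv, ← mul_assoc d.z k v, ← Frame.Spec.z_central hk, mul_assoc k d.z v]
        _ = _ := by group
    calc w * (k * s * k⁻¹) * w⁻¹ = k * (k⁻¹ * w * k * s * (k⁻¹ * w * k)⁻¹) * k⁻¹ := by group
      _ = _ := by rw [hs.inverted _ hwk e]; group

/-- The squares of the torus. -/
theorem exists_InS (R : Rep d) {g₀ : GL (Fin 2) d.F} (hns : ∀ a : d.F, g₀.1 ≠ a • (1 : Matrix (Fin 2) (Fin 2) d.F))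
    (htr : g₀.1.trace = 0)
    (hg₀ : ∀ A : SL[d], (R.σ ⟨v, hvC⟩ A).1 = g₀.1 * A.1 * (g₀⁻¹).1) {A : SL[d]} (hA : Commute A.1 g₀.1) :
    ∃ (s : G) (hs : InS d v s), R.π ⟨s, hd.D_le_L hq hs.mem⟩ = A * A := by
  obtain ⟨w, hw, hwv⟩ := h.swap_D hd hq hvC hv2 hvz
  have hvv : v * v = 1 := invol_mul_self hv2
  obtain ⟨t, htD, htA, htv⟩ := R.lift_fixed_D hd hq hvC hvv (sigma_fixed R hvC hg₀ hA)
  set W := R.π ⟨w, hd.D_le_L hq hw⟩ with hW
  have hgW : g₀.1 * W.1 * (g₀⁻¹).1 = -W.1 := by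
    have e1 : v * w * v⁻¹ = d.z * w := by
      calc v * w * v⁻¹ = v * (w * v * w⁻¹)⁻¹ * w := by group
        _ = v * (v * d.z)⁻¹ * w := by rw [hwv, Frame.Spec.z_central hvC]
        _ = d.z * w := by
          rw [mul_inv_rev, inv_eq_of_mul_eq_one_right hvv, inv_eq_of_mul_eq_one_right (invol_mul_self hd.zord),
            ← mul_assoc v, Frame.Spec.z_central hvC, mul_assoc d.z, hvv, mul_one]
    have hc := R.compat ⟨v, hvC⟩ ⟨w, hd.D_le_L hq hw⟩
    have e2 : (⟨v * w * v⁻¹, d.L_conj hvC (hd.D_le_L hq hw)⟩ : ↥d.L) = ⟨d.z, hd.z_mem_L⟩ * ⟨w, hd.D_le_L hq hw⟩ :=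
      Subtype.ext e1
    rw [show R.π ⟨(⟨v, hvC⟩ : ↥d.C) * ((⟨w, hd.D_le_L hq hw⟩ : ↥d.L) : G) * ((⟨v, hvC⟩ : ↥d.C) : G)⁻¹, _⟩ = _
      from congrArg R.π e2, map_mul, R.pi_z hd, ← hW] at hc
    have h1 := congrArg Subtype.val hc
    rw [hg₀] at h1
    simpa using h1
  have hinv : A * (W * A * W⁻¹) = 1 := by
    obtain ⟨a, c, hac⟩ := SL2Centralizer.exists_of_commute hns hA
    have hgW' : W.1 * g₀.1 = -(g₀.1 * W.1) := by
      have h1 := congrArg (fun M => M * g₀.1) hgW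
      simp only [Matrix.mul_assoc, ← Units.val_mul, inv_mul_cancel, Units.val_one, Matrix.mul_one,
        Matrix.neg_mul] at h1
      rw [h1, neg_neg]
    have hWA : W.1 * A.1 = (a • (1 : Matrix (Fin 2) (Fin 2) d.F) - c • g₀.1) * W.1 := by
      rw [hac, Matrix.mul_add, Matrix.sub_mul, Matrix.mul_smul, Matrix.mul_smul, Matrix.smul_mul, Matrix.smul_mul,
        Matrix.mul_one, Matrix.one_mul, hgW', smul_neg, sub_eq_add_neg]
    have h11 : g₀.1 1 1 = -g₀.1 0 0 := by rw [Matrix.trace_fin_two] at htr; linear_combination htr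
    have hdet := A.2
    rw [hac, Matrix.det_fin_two] at hdet
    simp [h11] at hdet
    refine Subtype.ext ?_
    show A.1 * (W.1 * A.1 * (W⁻¹).1) = 1
    rw [hWA, Matrix.mul_assoc (a • (1 : Matrix (Fin 2) (Fin 2) d.F) - c • g₀.1), show W.1 * (W⁻¹).1 = 1 from
      congrArg Subtype.val (mul_inv_cancel W), Matrix.mul_one, hac]
    ext i j
    fin_cases i <;> fin_cases j <;> simp [Matrix.mul_apply, Fin.sum_univ_two, h11] <;>
      first | linear_combination hdet | linear_combination -hdet | ring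
  set s := t * (w * t⁻¹ * w⁻¹) with hs
  have hsD : s ∈ d.D := mul_mem htD (mul_mem (mul_mem hw (inv_mem htD)) (inv_mem hw))
  have hti : t⁻¹ * v = v * t⁻¹ := ((show Commute t v from htv).inv_left).eq
  have hsv : s * v = v * s :=
    ((show Commute t v from htv).mul_left (conj_commute hd hw hwv (inv_mem htD) hti)).eq
  have hTc := @T_comm _ _ _ _ h hd hq hOD _ hvC hv2 hvz
  refine ⟨s, ⟨hsD, hsv, fun w' hw' hwv' => ?_⟩, ?_⟩
  · have hw2 : w * w * v = v * (w * w) := by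
      calc w * w * v = w * (w * v * w⁻¹) * w⁻¹ * (w * w) := by group
        _ = v * (w * w) := by rw [hwv, swap_back hd (d.D_le hw) hwv]
    have hws : w * s * w⁻¹ = s⁻¹ := by
      calc w * s * w⁻¹ = w * t * w⁻¹ * ((w * w) * t⁻¹ * (w * w)⁻¹) := by rw [hs]; group
        _ = w * t * w⁻¹ * t⁻¹ := by rw [hTc (mul_mem hw hw) hw2 (inv_mem htD) hti, mul_inv_cancel_right]
        _ = s⁻¹ := by rw [hs]; group
    set τ := w⁻¹ * w' with hτ
    have hτv : τ * v = v * τ := by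
      refine mul_inv_eq_iff_eq_mul.1 ?_
      calc τ * v * τ⁻¹ = w⁻¹ * (w' * v * w'⁻¹) * w := by rw [hτ]; group
        _ = w⁻¹ * (w * v * w⁻¹) * w := by rw [hwv', hwv]
        _ = v := by group
    calc w' * s * w'⁻¹ = w * (τ * s * τ⁻¹) * w⁻¹ := by rw [hτ]; group
      _ = s⁻¹ := by rw [hTc (mul_mem (inv_mem hw) hw') hτv hsD hsv, mul_inv_cancel_right, hws]
  · show R.π ⟨s, _⟩ = A * A
    rw [show (⟨s, hd.D_le_L hq hsD⟩ : ↥d.L) = ⟨t, hd.D_le_L hq htD⟩ * (⟨w, hd.D_le_L hq hw⟩ *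
      ⟨t, hd.D_le_L hq htD⟩⁻¹ * ⟨w, hd.D_le_L hq hw⟩⁻¹) from rfl, map_mul, map_mul, map_mul, map_inv, map_inv,
      htA, ← hW]
    congr 1
    calc W * A⁻¹ * W⁻¹ = (W * A * W⁻¹)⁻¹ := by group
      _ = A := by rw [eq_inv_of_mul_eq_one_right hinv, inv_inv]

/-- An element of the inverted torus in the core is trivial. -/
theorem InS.eq_one_O {s : G} (hs : InS d v s) (hsO : s ∈ d.O) : s = 1 := by
  obtain ⟨w, hw, hwv⟩ := h.swap_D hd hq hvC hv2 hvz
  have h1 := hs.inverted w hw hwv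
  rw [← hOD s hsO w hw, mul_inv_cancel_right] at h1
  exact eq_one_of_sq d.O_odd hsO (by nth_rewrite 2 [h1]; exact mul_inv_cancel s)

end

/-- An involution commuting with `z` and conjugate to it. -/
theorem conj_invol (hd : d.Spec) {g : G} (hcm : g * d.z * g⁻¹ * d.z = d.z * (g * d.z * g⁻¹)) :
    g * d.z * g⁻¹ ∈ d.C ∧ orderOf (g * d.z * g⁻¹) = 2 :=
  ⟨Subgroup.mem_centralizer_singleton_iff.2 hcm, (orderOf_cj g d.z).trans hd.zord⟩

/-- An element of the inverted torus in the core at `u` is trivial. -/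
theorem InS.eq_one_core (h : Hyp G) (hd : d.Spec) (hq : 3 < d.q)
    (hOD : ∀ x ∈ d.O, ∀ y ∈ d.D, x * y = y * x) {g : G} (hne : g * d.z * g⁻¹ ≠ d.z)
    (hcm : g * d.z * g⁻¹ * d.z = d.z * (g * d.z * g⁻¹)) {s : G} (hs : InS d (g * d.z * g⁻¹) s)
    (hsg : g⁻¹ * s * g ∈ d.O) : s = 1 := by
  obtain ⟨hu, hu2⟩ := conj_invol hd hcm
  obtain ⟨w, hw, hwu⟩ := h.swap_D hd hq hu hu2 hne
  set c := g⁻¹ * s * g with hc
  have hwz : g⁻¹ * w * g * d.z * (g⁻¹ * w * g)⁻¹ = g⁻¹ * d.z * g * d.z := by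
    calc g⁻¹ * w * g * d.z * (g⁻¹ * w * g)⁻¹ = g⁻¹ * (w * (g * d.z * g⁻¹) * w⁻¹) * g := by group
      _ = g⁻¹ * (d.z * (g * d.z * g⁻¹)) * g := by rw [hwu]
      _ = _ := by group
  have hc1 : c = 1 := by
    refine h.pair_trivial_elem hd hq hOD (g := g⁻¹ * w * g) ?_ ?_
      (d.O_odd.of_dvd_nat (Subgroup.orderOf_dvd_natCard _ hsg)) (fun a ha => hOD _ hsg a ha) fun a ha => ?_
    · rw [hwz]
      intro e
      have h1 : g⁻¹ * d.z * g = 1 := mul_eq_right.1 e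
      have h2 : d.z = 1 := by
        have := congrArg (fun x => g * x * g⁻¹) h1
        simpa [mul_assoc] using this
      have := hd.zord
      rw [h2, orderOf_one] at this
      omega
    · rw [hwz]
      have e : g⁻¹ * d.z * g * d.z = d.z * (g⁻¹ * d.z * g) := by
        calc g⁻¹ * d.z * g * d.z = g⁻¹ * (d.z * (g * d.z * g⁻¹)) * g := by group
          _ = g⁻¹ * (g * d.z * g⁻¹ * d.z) * g := by rw [hcm]
          _ = _ := by group
      rw [e, mul_assoc, e]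
    · have h1 : Commute c⁻¹ a := (show Commute c a from hOD _ hsg a ha).inv_left
      have h2 := (Commute.conj_iff (g⁻¹ * w * g)).2 h1
      rw [show g⁻¹ * w * g * c⁻¹ * (g⁻¹ * w * g)⁻¹ = g⁻¹ * (w * s * w⁻¹)⁻¹ * g by rw [hc]; group,
        hs.inverted w hw hwu, inv_inv] at h2
      exact h2.eq
  rw [hc] at hc1
  have := congrArg (fun x => g * x * g⁻¹) hc1
  simpa [mul_assoc] using this

/-- Elements of `C` in the core at `u` centralise the inverted torus. -/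
theorem InS.commute_core (h : Hyp G) (hd : d.Spec) (hq : 3 < d.q)
    (hOD : ∀ x ∈ d.O, ∀ y ∈ d.D, x * y = y * x) {g : G} (hne : g * d.z * g⁻¹ ≠ d.z)
    (hcm : g * d.z * g⁻¹ * d.z = d.z * (g * d.z * g⁻¹)) {s : G} (hs : InS d (g * d.z * g⁻¹) s) {k : G}
    (hk : k ∈ d.C) (hkg : g⁻¹ * k * g ∈ d.O) : k * s = s * k := by
  obtain ⟨hu, hu2⟩ := conj_invol hd hcm
  have hku : k * (g * d.z * g⁻¹) = g * d.z * g⁻¹ * k := by
    have e := Frame.Spec.z_central (d.O_le hkg)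
    calc k * (g * d.z * g⁻¹) = g * ((g⁻¹ * k * g) * d.z) * g⁻¹ := by group
      _ = g * (d.z * (g⁻¹ * k * g)) * g⁻¹ := by rw [e]
      _ = _ := by group
  have hsi : InS d (g * d.z * g⁻¹) s⁻¹ := ⟨inv_mem hs.mem, ((show Commute s _ from hs.comm).inv_left).eq,
    fun w hw hwv => by rw [show w * s⁻¹ * w⁻¹ = (w * s * w⁻¹)⁻¹ by group, hs.inverted w hw hwv]⟩
  have hc := InS.mul' h hd hq hOD hu hu2 hne (InS.conj' h hd hq hOD hu hu2 hne hs hk hku) hsi
  have h1 : k * s * k⁻¹ * s⁻¹ = 1 := by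
    refine InS.eq_one_core h hd hq hOD hne hcm hc ?_
    have hsC : g⁻¹ * s * g ∈ d.C := by
      refine Subgroup.mem_centralizer_singleton_iff.2 ?_
      calc g⁻¹ * s * g * d.z = g⁻¹ * (s * (g * d.z * g⁻¹)) * g := by group
        _ = g⁻¹ * (g * d.z * g⁻¹ * s) * g := by rw [hs.comm]
        _ = _ := by group
    rw [show g⁻¹ * (k * s * k⁻¹ * s⁻¹) * g =
      (g⁻¹ * k * g) * ((g⁻¹ * s * g) * (g⁻¹ * k * g)⁻¹ * (g⁻¹ * s * g)⁻¹) by group]
    exact mul_mem hkg (Frame.Spec.O_conj hsC (inv_mem hkg))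
  exact mul_inv_eq_iff_eq_mul.1 (mul_inv_eq_one.1 h1)

/-- **An element of `C` in the core at `u` is a torus element times an element of `C_O(u)`.** -/
theorem exists_part (h : Hyp G) (hd : d.Spec) (hq : 3 < d.q)
    (hOD : ∀ x ∈ d.O, ∀ y ∈ d.D, x * y = y * x) (R : Rep d) {g : G} (hne : g * d.z * g⁻¹ ≠ d.z)
    (hcm : g * d.z * g⁻¹ * d.z = d.z * (g * d.z * g⁻¹)) {g₀ : GL (Fin 2) d.F}
    (hns : ∀ a : d.F, g₀.1 ≠ a • (1 : Matrix (Fin 2) (Fin 2) d.F)) (htr : g₀.1.trace = 0)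
    (hu : g * d.z * g⁻¹ ∈ d.C)
    (hg₀ : ∀ A : SL[d], (R.σ ⟨g * d.z * g⁻¹, hu⟩ A).1 = g₀.1 * A.1 * (g₀⁻¹).1) {k : G} (hk : k ∈ d.C)
    (hkg : g⁻¹ * k * g ∈ d.O) :
    ∃ (s c : G) (hs : InS d (g * d.z * g⁻¹) s), c ∈ d.O ∧ c * (g * d.z * g⁻¹) = g * d.z * g⁻¹ * c ∧ k = s * c ∧
      orderOf c = orderOf k ∧ s * c = c * s ∧
      R.σ ⟨k, hk⟩ = MulAut.conj (R.π ⟨s, hd.D_le_L hq hs.mem⟩) ∧
      Commute (R.π ⟨s, hd.D_le_L hq hs.mem⟩).1 g₀.1 := by
  classical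
  haveI : Fact d.p.Prime := ⟨hd.prime⟩
  haveI := hd.charP
  obtain ⟨-, hu2⟩ := conj_invol hd hcm
  set u := g * d.z * g⁻¹ with hu'
  have hcm' := @InS.commute_core _ _ _ _ h hd hq hOD _ hne hcm
  have hku : k * u = u * k := by
    have e := Frame.Spec.z_central (d.O_le hkg)
    calc k * u = g * ((g⁻¹ * k * g) * d.z) * g⁻¹ := by rw [hu']; group
      _ = g * (d.z * (g⁻¹ * k * g)) * g⁻¹ := by rw [e]
      _ = _ := by rw [hu']; group
  have hodd : Odd (orderOf k) := by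
    have : orderOf (g⁻¹ * k * g) = orderOf k := by simpa using orderOf_cj g⁻¹ k
    rw [← this]
    exact d.O_odd.of_dvd_nat (Subgroup.orderOf_dvd_natCard _ hkg)
  have hodd' : Odd (orderOf (R.σ ⟨k, hk⟩)) :=
    hodd.of_dvd_nat ((orderOf_map_dvd R.σ _).trans (dvd_of_eq (Subgroup.orderOf_mk k hk)))
  obtain ⟨hh, hhg, hhA⟩ := SL2.exists_conj_torus d.p hd.odd_card (hd.three_lt hq) htr hodd' hg₀
    ((show Commute (⟨k, hk⟩ : ↥d.C) ⟨u, hu⟩ from Subtype.ext hku).map R.σ) (fun A hA => by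
      obtain ⟨s, hs, hsA⟩ := exists_InS h hd hq hOD hu hu2 hne R hns htr hg₀ hA
      rw [← hsA, R.compat]
      congr 1
      exact Subtype.ext (by show k * s * k⁻¹ = s; rw [hcm' hs hk hkg, mul_inv_cancel_right]))
  -- a square root inside `SL₂`
  obtain ⟨j, hj⟩ := hodd
  set n := orderOf k with hn
  set m : SL[d] := ⟨(hh.1.det)⁻¹ • (hh.1 * hh.1), by
    rw [Matrix.det_smul, Matrix.det_mul, Fintype.card_fin]
    have := GW.Model.det_ne hh
    field_simp⟩ with hm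
  have hmg : Commute m.1 g₀.1 := (hhg.mul_left hhg).smul_left _
  have hconj : R.σ ⟨k, hk⟩ * R.σ ⟨k, hk⟩ = MulAut.conj m := by
    refine MulEquiv.ext fun A => ?_
    show R.σ ⟨k, hk⟩ (R.σ ⟨k, hk⟩ A) = m * A * m⁻¹
    rw [eq_mul_inv_iff_mul_eq]
    refine Subtype.ext ?_
    show (R.σ ⟨k, hk⟩ (R.σ ⟨k, hk⟩ A)).1 * m.1 = m.1 * A.1
    rw [hhA, hhA, hm]
    simp [Matrix.mul_assoc]
  -- two applications
  obtain ⟨s₀, hs₀, hs₀A⟩ := exists_InS h hd hq hOD hu hu2 hne R hns htr hg₀ hmg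
  have hs₀σ : R.σ ⟨s₀, d.D_le hs₀.mem⟩ = R.σ ⟨k, hk⟩ ^ 4 := by
    refine MulEquiv.ext fun A => ?_
    rw [R.sigma_inner ⟨s₀, hd.D_le_L hq hs₀.mem⟩ A, hs₀A, show (4 : ℕ) = 2 + 2 from rfl, pow_add, pow_two, hconj,
      MulAut.mul_apply, MulAut.conj_apply, MulAut.conj_apply]
    group
  -- the odd part
  obtain ⟨a, b, hb2, hab⟩ := Nat.exists_eq_two_pow_mul_odd (orderOf_pos s₀).ne'
  have hcopn : Nat.Coprime (4 * 2 ^ a) (orderOf (R.σ ⟨k, hk⟩)) := by
    have h1 : Nat.Coprime 2 (orderOf (R.σ ⟨k, hk⟩)) := Nat.coprime_two_left.mpr hodd'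
    exact (h1.mul_left h1).mul_left (h1.pow_left a)
  obtain ⟨e, he⟩ := exists_pow_eq_self_of_coprime hcopn
  have hpow : ∀ i : ℕ, InS d u (s₀ ^ i) := fun i => by
    induction i with
    | zero => exact ⟨by simp, by simp, fun w _ _ => by simp⟩
    | succ i ih => rw [pow_succ]; exact InS.mul' h hd hq hOD hu hu2 hne ih hs₀
  set s := s₀ ^ (2 ^ a * e) with hs
  have hsS : InS d u s := hpow _
  have hsσ : R.σ ⟨s, d.D_le hsS.mem⟩ = R.σ ⟨k, hk⟩ := by
    rw [show (⟨s, d.D_le hsS.mem⟩ : ↥d.C) = ⟨s₀, d.D_le hs₀.mem⟩ ^ (2 ^ a * e) from rfl, map_pow, hs₀σ, ← pow_mul,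
      ← mul_assoc, pow_mul, he]
  have hsodd : Odd (orderOf s) := hb2.of_dvd_nat (orderOf_dvd_of_pow_eq_one (by
    rw [hs, ← pow_mul, mul_right_comm, pow_mul, ← hab, pow_orderOf_eq_one, one_pow]))
  have hks : k * s = s * k := hcm' hsS hk hkg
  set c := s⁻¹ * k with hc
  have hsk : Commute s⁻¹ k := (show Commute s k from hks.symm).inv_left
  have hcC : c ∈ d.C := mul_mem (inv_mem (d.D_le hsS.mem)) hk
  have hlcm := hsk.orderOf_mul_dvd_lcm
  rw [orderOf_inv] at hlcm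
  have hcO : c ∈ d.O := by
    refine R.sigma_eq_one hd hq h hcC
      ((hsodd.mul ⟨j, hj⟩).of_dvd_nat (hlcm.trans (Nat.lcm_dvd_mul _ _))) ?_
    rw [show (⟨c, hcC⟩ : ↥d.C) = ⟨s, d.D_le hsS.mem⟩⁻¹ * ⟨k, hk⟩ from rfl, map_mul, map_inv, hsσ, inv_mul_cancel]
  have hsc : s * c = c * s := ((show Commute s s from Commute.refl s).inv_right.mul_right hks.symm).eq
  refine ⟨s, c, hsS, hcO, ((show Commute s u from hsS.comm).inv_left.mul_left hku).eq, by rw [hc, mul_inv_cancel_left],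
    orderOf_eq_orderOf_iff.2 fun i => ?_, hsc, ?_, ?_⟩
  · have hki : k ^ i = s ^ i * c ^ i := by
      rw [← (show Commute s c from hsc).mul_pow, hc, mul_inv_cancel_left]
    have hsi : InS d u (s ^ i) := by rw [hs, ← pow_mul]; exact hpow _
    constructor
    · intro e1
      rw [e1, mul_one] at hki
      rw [hki]
      refine InS.eq_one_core h hd hq hOD hne hcm hsi ?_
      rw [← hki, show g⁻¹ * k ^ i * g = (g⁻¹ * k * g) ^ i by
        have := (conj_pow (i := i) (a := g⁻¹) (b := k))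
        simpa using this.symm]
      exact pow_mem hkg i
    · intro e1
      rw [e1] at hki
      have hsiO : s ^ i ∈ d.O := by
        rw [eq_inv_of_mul_eq_one_left hki.symm]
        exact inv_mem (pow_mem hcO i)
      rw [InS.eq_one_O h hd hq hOD hu hu2 hne hsi hsiO, one_mul] at hki
      exact hki.symm
  · refine MulEquiv.ext fun A => ?_
    rw [← hsσ, R.sigma_inner ⟨s, hd.D_le_L hq hsS.mem⟩ A]
    rfl
  · refine sigma_commute R hu hg₀ ?_
    rw [R.compat]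
    congr 1
    exact Subtype.ext (by show u * s * u⁻¹ = s; rw [← hsS.comm, mul_inv_cancel_right])

end CfsgLib.RankTwoModel
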