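import Cfsg.Agent.Lib.RankTwo.Component

/-!
# Weights of a small character on an odd subgroup normalised by an involution

* `coset_const`: a class function constant on `z * C_E(z)` is constant on `z * E`.
* `weights_bound`, `weight_even`: a character of degree `d` with value `v` on `z * Y` has at most `d - |v|`
  non-trivial weights, and the non-trivial weights fixed by `z` have even multiplicity.
* `commute_of_weights_fixed`: an element fixing all weights of a faithful character centralises `Y`.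
* `index_bound`, `index_bound_four`: the degree over a character with radical `R` in class two.
-/

set_option autoImplicit false
set_option linter.unusedSectionVars false
set_option linter.style.haveILetI false

namespace CfsgLib.RankTwo

open Cfsg CfsgLib.CharTheory
open scoped ComplexConjugate

universe u

variable {X : Type u} [Group X] [Fintype X]

/-- An element of the coset `z * E` is conjugate under `E` to one commuting with `z`. -/
theorem coset_conj (E : Subgroup X) (hodd : Odd (Nat.card E)) {z : X} (hz : z * z = 1)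
    (hn : ∀ e ∈ E, z * e * z⁻¹ ∈ E) {g : X} (hg : g ∈ E) :
    ∃ b ∈ E, ∃ c ∈ E, c * z = z * c ∧ b * (z * g) * b⁻¹ = z * c := by
  have hzi : z⁻¹ = z := inv_eq_of_mul_eq_one_right hz
  obtain ⟨j, hj⟩ := hodd
  set w := z * g with hw
  have hww : w * w = (z * g * z⁻¹) * g := by rw [hw, hzi]; group
  have hwwE : w * w ∈ E := hww ▸ mul_mem (hn g hg) hg
  have hwk : (w * w) ^ (2 * j + 1) = 1 := by
    have h := pow_card_eq_one' (x := (⟨w * w, hwwE⟩ : E))
    rw [hj] at h
    exact congrArg Subtype.val h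
  set a := g * (w * w) ^ j with ha
  have haE : a ∈ E := mul_mem hg (pow_mem hwwE j)
  have hwa : w ^ (2 * j + 1) = z * a := by rw [ha, pow_succ', pow_mul, pow_two, hw, mul_assoc]
  have haa : z * a * (z * a) = 1 := by rw [← hwa, ← pow_add, ← two_mul, pow_mul, pow_two, hwk]
  have hinv : z * a * z⁻¹ = a⁻¹ := eq_inv_of_mul_eq_one_left (by
    rw [hzi]; simpa only [mul_assoc] using haa)
  have hbb : a ^ (j + 1) * a ^ (j + 1) = a := by
    have h := pow_card_eq_one' (x := (⟨a, haE⟩ : E))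
    rw [hj] at h
    have h' : a ^ (2 * j + 1) = 1 := congrArg Subtype.val h
    rw [← pow_add, show j + 1 + (j + 1) = 2 * j + 1 + 1 by ring, pow_succ, h', one_mul]
  set b := a ^ (j + 1) with hb
  have hbE : b ∈ E := pow_mem haE _
  have hzb : z * b * z⁻¹ = b⁻¹ := by rw [hb, ← conj_pow, hinv, inv_pow]
  have hbz : b * z = z * b⁻¹ := by
    rw [← hzb, hzi, ← mul_assoc z (z * b) z, ← mul_assoc z z b, hz, one_mul]
  have hconj : b * (z * a) * b⁻¹ = z := by
    rw [← mul_assoc b z a, hbz, show a = b * b from hbb.symm]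
    group
  refine ⟨b, hbE, z * b * z⁻¹ * g * b⁻¹, mul_mem (mul_mem (hn b hbE) hg) (inv_mem hbE), ?_, ?_⟩
  · have hcom : Commute w (z * a) := hwa ▸ Commute.self_pow w _
    have h1 : Commute (b * w * b⁻¹) z := by
      have := hcom.map (MulAut.conj b).toMonoidHom
      simpa [MulAut.conj_apply, hconj] using this
    have h2 : b * w * b⁻¹ = z * (z * b * z⁻¹ * g * b⁻¹) := by
      rw [hw, hzi, show z * (z * b * z * g * b⁻¹) = (z * z) * b * (z * g) * b⁻¹ by group, hz, one_mul]
    rw [h2] at h1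
    have h3 : z * (z * b * z⁻¹ * g * b⁻¹) * z = z * (z * (z * b * z⁻¹ * g * b⁻¹)) := h1
    rw [mul_assoc] at h3
    exact mul_left_cancel h3
  · rw [hzi, show z * (z * b * z * g * b⁻¹) = (z * z) * b * (z * g) * b⁻¹ by group, hz, one_mul]

theorem coset_const {χ : X → ℂ} (hχ : IsClassFunction X χ) (E : Subgroup X) (hodd : Odd (Nat.card E)) {z : X}
    (hz : z * z = 1) (hn : ∀ e ∈ E, z * e * z⁻¹ ∈ E) {v : ℂ}
    (hv : ∀ c ∈ E, c * z = z * c → χ (z * c) = v) (g : E) : χ (z * g) = v := by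
  obtain ⟨b, -, c, hc, hcz, hbc⟩ := coset_conj E hodd hz hn g.2
  rw [← hχ (z * g) b, hbc, hv c hc hcz]

variable {χ : X → ℂ} {Y : Subgroup X} [Fintype Y]

theorem sum_wgt [Fintype (↥Y →* ℂˣ)] (hχ : IsCharacter X χ) (hc : ∀ a b : Y, a * b = b * a) {d : ℕ}
    (hd : χ 1 = (d : ℂ)) : ∑ μ : ↥Y →* ℂˣ, wgt χ μ = d := by
  have h : ((∑ μ : ↥Y →* ℂˣ, wgt χ μ : ℕ) : ℂ) = (d : ℂ) := by
    rw [Nat.cast_sum, ← hd, ← sum_part (χ := χ) hc 1]
    exact Finset.sum_congr rfl fun μ _ => (part_eq_wgt μ hχ).symm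
  exact_mod_cast h

/-- The non-trivial weights fill at most `d - |v|`. -/
theorem weights_bound [Fintype (↥Y →* ℂˣ)] (hχ : IsCharacter X χ) (hc : ∀ a b : Y, a * b = b * a) {d : ℕ}
    (hd : χ 1 = (d : ℂ)) {z : X} (hz : z * z = 1) (hn : ∀ y ∈ Y, z * y * z⁻¹ ∈ Y) {v : ℤ}
    (hv : ∀ c : Y, χ (z * c) = (v : ℂ)) (S : Finset (↥Y →* ℂˣ)) (hS : 1 ∉ S) :
    ((∑ μ ∈ S, wgt χ μ : ℕ) : ℤ) + |v| ≤ (d : ℤ) := by
  classical
  obtain ⟨a, b, hw, hp⟩ := part_involution (1 : ↥Y →* ℂˣ) hχ hz
    (fun c => ⟨⟨_, hn c c.2⟩, rfl, by simp⟩)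
  have hab : v = (a : ℤ) - b := by
    rw [part_one_of_const hv] at hp
    exact_mod_cast hp
  have hsum := sum_wgt hχ hc hd
  have hle : ∑ μ ∈ insert 1 S, wgt χ μ ≤ ∑ μ : ↥Y →* ℂˣ, wgt χ μ :=
    Finset.sum_le_sum_of_subset (Finset.subset_univ _)
  rw [Finset.sum_insert hS, hsum, hw] at hle
  rcases abs_cases v with ⟨e, -⟩ | ⟨e, -⟩ <;> rw [e, hab] <;> omega

/-- A non-trivial weight fixed by the involution has even multiplicity. -/
theorem weight_even (hχ : IsCharacter X χ) {z : X} (hz : z * z = 1) {v : ℂ}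
    (hv : ∀ c : Y, χ (z * c) = v) (μ : ↥Y →* ℂˣ) (hμ : μ ≠ 1)
    (hn : ∀ c : Y, ∃ c' : Y, (c' : X) = z * c * z⁻¹ ∧ μ c' = μ c) : Even (wgt χ μ) := by
  obtain ⟨a, b, hw, hp⟩ := part_involution μ hχ hz hn
  rw [part_zero_of_const μ hμ hv] at hp
  have : (a : ℤ) - b = 0 := by exact_mod_cast hp.symm
  exact ⟨a, by omega⟩

/-- Conjugation preserves the multiplicities. -/
theorem wgt_conj (hχ : IsClassFunction X χ) (μ ν : ↥Y →* ℂˣ) (x : X) (σ : Y ≃ Y)
    (hσ : ∀ c : Y, ((σ c : Y) : X) = x * c * x⁻¹) (hν : ∀ c, ν (σ c) = μ c) : wgt χ ν = wgt χ μ := by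
  have h := part_conj μ hχ ν x 1 σ hσ hν
  rw [mul_one, mul_inv_cancel] at h
  rw [wgt, wgt, h]

/-- An element fixing all weights of a faithful character centralises the subgroup. -/
theorem commute_of_weights_fixed [Fintype (↥Y →* ℂˣ)] (hχ : IsCharacter X χ)
    (hc : ∀ a b : Y, a * b = b * a) (hf : ∀ x : X, x ≠ 1 → χ x ≠ χ 1) (g : X) (hg : ∀ y ∈ Y, g * y * g⁻¹ ∈ Y)
    (hfix : ∀ μ : ↥Y →* ℂˣ, wgt χ μ ≠ 0 → ∀ c : Y, μ ⟨g * c * g⁻¹, hg c c.2⟩ = μ c) (y : Y) :
    g * y = (y : X) * g := by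
  set y' : Y := ⟨g * y * g⁻¹, hg y y.2⟩ * y⁻¹ with hy'
  have hval : χ (y' : X) = χ 1 := by
    rw [← sum_part (χ := χ) hc (y' : X), ← sum_part (χ := χ) hc 1]
    refine Finset.sum_congr rfl fun μ _ => ?_
    conv_lhs => rw [← one_mul (y' : X)]
    rw [part_mul_mem, part_eq_wgt μ hχ]
    by_cases h0 : wgt χ μ = 0
    · simp [h0]
    · rw [show μ y' = 1 by rw [hy', map_mul, hfix μ h0 y, map_inv, mul_inv_cancel], Units.val_one, one_mul]
  have h1 : (y' : X) = 1 := by_contra fun h => hf _ h hval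
  rw [hy', Subgroup.coe_mul, Subgroup.coe_inv] at h1
  exact eq_mul_of_mul_inv_eq (mul_inv_eq_one.1 h1)

theorem part_add (χ φ : X → ℂ) (μ : ↥Y →* ℂˣ) (g : X) : part (χ + φ) μ g = part χ μ g + part φ μ g := by
  simp only [part, Pi.add_apply, mul_add, Finset.sum_add_distrib]

/-- A character vanishing off a subgroup has large degree. -/
theorem card_le_of_vanishing {φ : X → ℂ} (hφ : IsCharacter X φ) {d : ℕ} (hd : φ 1 = (d : ℂ)) (hd0 : d ≠ 0)
    (R : Subgroup X) (hR : ∀ g, g ∉ R → φ g = 0) : Nat.card X ≤ d ^ 2 * Nat.card R := by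
  classical
  obtain ⟨n, hn⟩ := classInner_char_nat hφ hφ
  have hN : (Nat.card X : ℂ) ≠ 0 := Nat.cast_ne_zero.2 Nat.card_pos.ne'
  have hsumC : ∑ g : X, φ g * conj (φ g) = (Nat.card X : ℂ) * n := by
    rw [← hn, classInner, mul_inv_cancel_left₀ hN]
  have hsum : ∑ g : X, Complex.normSq (φ g) = (Nat.card X : ℝ) * n := by
    apply Complex.ofReal_injective
    push_cast
    rw [← hsumC]
    exact Finset.sum_congr rfl fun g _ => (Complex.mul_conj (φ g)).symm
  have hpos : 0 < ∑ g : X, Complex.normSq (φ g) :=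
    lt_of_lt_of_le (Complex.normSq_pos.2 (by rw [hd]; exact Nat.cast_ne_zero.2 hd0))
      (Finset.single_le_sum (f := fun g => Complex.normSq (φ g)) (fun g _ => Complex.normSq_nonneg _)
        (Finset.mem_univ 1))
  have hn1 : 1 ≤ n := by
    rcases Nat.eq_zero_or_pos n with h | h
    · subst h; simp [hsum] at hpos
    · exact h
  have hupper : ∑ g : X, Complex.normSq (φ g) ≤ (d : ℝ) ^ 2 * (Nat.card R : ℝ) := by
    calc ∑ g : X, Complex.normSq (φ g) = ∑ g ∈ Finset.univ.filter (· ∈ R), Complex.normSq (φ g) := by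
          rw [Finset.sum_filter]
          refine Finset.sum_congr rfl fun g _ => ?_
          by_cases h : g ∈ R
          · rw [if_pos h]
          · rw [if_neg h, hR g h, map_zero]
      _ ≤ ∑ _g ∈ Finset.univ.filter (· ∈ R), (d : ℝ) ^ 2 := by
          refine Finset.sum_le_sum fun g _ => ?_
          have h := norm_char_le hφ g
          rw [hd, Complex.norm_natCast] at h
          rw [← Complex.sq_norm]
          exact pow_le_pow_left₀ (norm_nonneg _) h 2
      _ = _ := by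
          rw [Finset.sum_const, nsmul_eq_mul, mul_comm, Nat.card_eq_fintype_card, ← Fintype.card_subtype]
  have h1 : (Nat.card X : ℝ) ≤ (d : ℝ) ^ 2 * (Nat.card R : ℝ) :=
    le_trans (le_mul_of_one_le_right (Nat.cast_nonneg _) (by exact_mod_cast hn1)) (hsum ▸ hupper)
  exact_mod_cast h1

/-- The degree over a linear character of a central subgroup containing the commutators. -/
theorem index_bound (hχ : IsCharacter X χ) (μ : ↥Y →* ℂˣ) (hcen : ∀ c : Y, ∀ g : X, g * c = (c : X) * g)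
    (hcomm : ∀ g h : X, g * h * g⁻¹ * h⁻¹ ∈ Y) (R : Subgroup X)
    (hR : ∀ g : X, (∀ h : X, μ ⟨g * h * g⁻¹ * h⁻¹, hcomm g h⟩ = 1) → g ∈ R) (h0 : wgt χ μ ≠ 0) :
    Nat.card X ≤ wgt χ μ ^ 2 * Nat.card R := by
  have hfix : ∀ h ∈ (⊤ : Subgroup X), ∀ c : Y, ∃ c' : Y, (c' : X) = h * c * h⁻¹ ∧ μ c' = μ c :=
    fun h _ c => ⟨c, by rw [hcen c h, mul_inv_cancel_right], rfl⟩
  obtain ⟨hT, -⟩ := isCharacter_part μ hχ ⊤ hfix
  have hF : IsCharacter X (fun g => part χ μ g) :=
    isCharacter_comp hT (Subgroup.topEquiv (G := X)).symm.toMonoidHom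
  refine card_le_of_vanishing hF (part_eq_wgt μ hχ) h0 R fun g hg => ?_
  by_contra hne
  refine hg (hR g fun h => ?_)
  have h1 : part χ μ (h * g * h⁻¹) = part χ μ g :=
    part_conj μ (isClassFunction_char hχ) μ h g (Equiv.refl _)
      (fun c => by rw [Equiv.refl_apply, hcen c h, mul_inv_cancel_right]) fun c => rfl
  have h2 : h * g * h⁻¹ = g * ((⟨g * h * g⁻¹ * h⁻¹, hcomm g h⟩⁻¹ : Y) : X) := by
    rw [hcen _ g, Subgroup.coe_inv]
    group
  rw [h2, part_mul_mem, map_inv] at h1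
  have h3 : (((μ ⟨g * h * g⁻¹ * h⁻¹, hcomm g h⟩)⁻¹ : ℂˣ) : ℂ) = 1 :=
    mul_right_cancel₀ hne (by rw [h1, one_mul])
  exact inv_eq_one.1 (Units.val_eq_one.1 h3)

theorem isCharacter_listSum (l : List (X → ℂ)) (h : ∀ x ∈ l, IsCharacter X x) : IsCharacter X l.sum := by
  induction l with
  | nil => simpa using isCharacter_zero (G := X)
  | cons a t ih =>
    rw [List.sum_cons]
    exact isCharacter_add (h a (by simp)) (ih fun x hx => h x (by simp [hx]))

/-- A reducible character over `μ` has at least twice that degree. -/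
theorem index_bound_four (hχ : IsCharacter X χ) (hirr : ¬ IsIrrCharacter X χ) (μ : ↥Y →* ℂˣ)
    (hcen : ∀ c : Y, ∀ g : X, g * c = (c : X) * g)
    (hcomm : ∀ g h : X, g * h * g⁻¹ * h⁻¹ ∈ Y) (R : Subgroup X)
    (hR : ∀ g : X, (∀ h : X, μ ⟨g * h * g⁻¹ * h⁻¹, hcomm g h⟩ = 1) → g ∈ R) {d : ℕ} (hd : χ 1 = (d : ℂ))
    (hd0 : d ≠ 0) (hover : wgt χ μ = d) : 4 * Nat.card X ≤ d ^ 2 * Nat.card R := by
  obtain ⟨l, hl, hsum⟩ := exists_list_irr hχ
  rcases l with _ | ⟨a, _ | ⟨b, rest⟩⟩
  · rw [hsum] at hd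
    simp at hd
    exact absurd hd.symm (by exact_mod_cast hd0)
  · exact absurd (by rw [hsum]; simpa using hl a (by simp)) hirr
  · have ha := isCharacter_of_irr (hl a (by simp))
    have hb := isCharacter_of_irr (hl b (by simp))
    have hr := isCharacter_listSum rest fun x hx => isCharacter_of_irr (hl x (by simp [hx]))
    obtain ⟨da, hda0, hda⟩ := irr_degree_pos (hl a (by simp))
    obtain ⟨db, hdb0, hdb⟩ := irr_degree_pos (hl b (by simp))
    obtain ⟨dr, hdr⟩ := char_one_eq_natCast hr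
    simp only [List.sum_cons] at hsum
    subst hsum
    have e1 : d = da + (db + dr) := by
      simp only [Pi.add_apply, hda, hdb, hdr] at hd
      exact_mod_cast hd.symm
    have e2 : d = wgt a μ + (wgt b μ + wgt rest.sum μ) := by
      have h := part_eq_wgt μ hχ
      rw [part_add, part_add, part_eq_wgt μ ha, part_eq_wgt μ hb, part_eq_wgt μ hr, hover] at h
      exact_mod_cast h.symm
    have la := wgt_le μ ha hda
    have lb := wgt_le μ hb hdb
    have lr := wgt_le μ hr hdr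
    have wa : wgt a μ = da := by omega
    have wb : wgt b μ = db := by omega
    have ba := index_bound ha μ hcen hcomm R hR (by omega)
    have bb := index_bound hb μ hcen hcomm R hR (by omega)
    rw [wa] at ba
    rw [wb] at bb
    rcases le_total da db with h | h
    · calc 4 * Nat.card X ≤ 4 * (da ^ 2 * Nat.card R) := by omega
        _ = (2 * da) ^ 2 * Nat.card R := by ring
        _ ≤ d ^ 2 * Nat.card R := Nat.mul_le_mul_right _ (Nat.pow_le_pow_left (by omega) 2)
    · calc 4 * Nat.card X ≤ 4 * (db ^ 2 * Nat.card R) := by omega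
        _ = (2 * db) ^ 2 * Nat.card R := by ring
        _ ≤ d ^ 2 * Nat.card R := Nat.mul_le_mul_right _ (Nat.pow_le_pow_left (by omega) 2)

/-- A character vanishing off a subgroup of index two does not stay irreducible on it. -/
theorem not_irr_of_index_two {F : X → ℂ} (hF : IsCharacter X F) (E : Subgroup X) [Fintype E] (hE : E.index = 2)
    (h : ∀ g, g ∉ E → F g = 0) : ¬ IsIrrCharacter E (fun e : E => F e) := by
  classical
  intro hirr
  obtain ⟨n, hn⟩ := classInner_char_nat hF hF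
  have h1 := classInner_irr_self hirr
  rw [classInner] at h1 hn
  have hs : ∑ g : X, F g * conj (F g) = ∑ e : E, F e * conj (F e) := by
    rw [← Finset.sum_filter_add_sum_filter_not Finset.univ (fun g => g ∈ E),
      Finset.sum_eq_zero (s := Finset.univ.filter fun g => ¬ g ∈ E) fun g hg => by
        rw [h g (Finset.mem_filter.1 hg).2, zero_mul], add_zero]
    exact Finset.sum_subtype _ (by simp) _
  have hc : (Nat.card X : ℂ) = (Nat.card E : ℂ) * 2 := by
    rw [← E.card_mul_index, hE]; push_cast; rfl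
  rw [hs, hc, mul_inv, mul_comm (Nat.card E : ℂ)⁻¹, mul_assoc, h1] at hn
  have : (2 * n : ℕ) = 1 := by
    have h2 : ((2 * n : ℕ) : ℂ) = ((1 : ℕ) : ℂ) := by
      push_cast
      linear_combination (-2) * hn
    exact_mod_cast h2
  omega

end CfsgLib.RankTwo
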